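import Mathlib
import Cfsg.Prelude.Def_LieTypeDatum

/-!
# The number of `K`-classes in an `H`-class (helper198)

* `isConjUnder_equiv` : conjugacy under a subgroup is an equivalence relation;
* `splitClassCount_eq_relIndex` : for `K ≤ H` normalised by `H`, `splitClassCount H K x` is the index of
  `K ⊔ C_H(x)` in `H`;
* `splitClassCount_eq_index` : if `Ψ : Δ →* X` has image `H` and `D : Δ →* A` is onto with `Ψ (ker D) = K`,
  `ker Ψ ≤ ker D`, then `splitClassCount H K x` is the index in `A` of the image under `D` of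
  `{g : Δ | Ψ g commutes with x}`.
-/

set_option autoImplicit false

namespace Cfsg.Agent.H198.SplitCount

variable {X : Type*} [Group X]

theorem isConjUnder_refl (H : Subgroup X) (x : X) : IsConjUnder H x x :=
  ⟨1, H.one_mem, by group⟩

theorem isConjUnder_symm {H : Subgroup X} {x y : X} (h : IsConjUnder H x y) :
    IsConjUnder H y x := by
  obtain ⟨g, hg, rfl⟩ := h
  exact ⟨g⁻¹, H.inv_mem hg, by group⟩

theorem isConjUnder_trans {H : Subgroup X} {x y z : X} (h : IsConjUnder H x y)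
    (h' : IsConjUnder H y z) : IsConjUnder H x z := by
  obtain ⟨g, hg, rfl⟩ := h
  obtain ⟨k, hk, rfl⟩ := h'
  exact ⟨k * g, H.mul_mem hk hg, by group⟩

theorem isConjUnder_mono {H K : Subgroup X} (hKH : K ≤ H) {x y : X} (h : IsConjUnder K x y) :
    IsConjUnder H x y := by
  obtain ⟨g, hg, rfl⟩ := h
  exact ⟨g, hKH hg, rfl⟩

theorem equivalence_isConjUnder (K : Subgroup X) {P : X → Prop} :
    Equivalence (fun y z : {y : X // P y} => IsConjUnder K y.1 z.1) :=
  ⟨fun y => isConjUnder_refl K y.1, isConjUnder_symm, isConjUnder_trans⟩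

theorem mk_eq_mk {K : Subgroup X} {P : X → Prop} {y z : {y : X // P y}} :
    (Quot.mk (fun y z : {y : X // P y} => IsConjUnder K y.1 z.1) y =
      Quot.mk (fun y z : {y : X // P y} => IsConjUnder K y.1 z.1) z) ↔ IsConjUnder K y.1 z.1 :=
  (equivalence_isConjUnder K).quot_mk_eq_iff y z

/-- The number of `K`-classes in the `H`-class of `x`. -/
theorem splitClassCount_eq_relIndex {H K : Subgroup X} (hKH : K ≤ H)
    (hn : ∀ h ∈ H, ∀ k ∈ K, h * k * h⁻¹ ∈ K) (x : X) :
    splitClassCount H K x = (K ⊔ (H ⊓ Subgroup.centralizer {x})).relIndex H := by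
  set C : Subgroup X := H ⊓ Subgroup.centralizer {x} with hC
  have hmem : ∀ g : X, g ∈ K ⊔ C ↔ ∃ k ∈ K, ∃ c ∈ C, g = k * c := by
    intro g
    constructor
    · intro hg
      have h1 : (K ⊔ C : Subgroup X) ≤
          { carrier := {g | ∃ k ∈ K, ∃ c ∈ C, g = k * c}
            mul_mem' := by
              rintro a b ⟨k, hk, c, hc, rfl⟩ ⟨k', hk', c', hc', rfl⟩
              refine ⟨k * (c * k' * c⁻¹), K.mul_mem hk (hn c hc.1 k' hk'), c * c',
                C.mul_mem hc hc', by group⟩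
            one_mem' := ⟨1, K.one_mem, 1, C.one_mem, by group⟩
            inv_mem' := by
              rintro a ⟨k, hk, c, hc, rfl⟩
              refine ⟨c⁻¹ * k⁻¹ * c⁻¹⁻¹, hn _ (H.inv_mem hc.1) _ (K.inv_mem hk), c⁻¹,
                C.inv_mem hc, by group⟩ } :=
        sup_le (fun k hk => ⟨k, hk, 1, C.one_mem, by group⟩)
          (fun c hc => ⟨1, K.one_mem, c, hc, by group⟩)
      exact h1 hg
    · rintro ⟨k, hk, c, hc, rfl⟩
      exact Subgroup.mul_mem_sup hk hc
  let f : H → Quot fun y z : {y : X // IsConjUnder H x y} => IsConjUnder K y.1 z.1 :=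
    fun h => Quot.mk _ ⟨h.1 * x * h.1⁻¹, h.1, h.2, rfl⟩
  have hf : ∀ h h' : H, f h = f h' ↔ h⁻¹ * h' ∈ (K ⊔ C).subgroupOf H := by
    intro h h'
    rw [mk_eq_mk, Subgroup.mem_subgroupOf, hmem]
    constructor
    · rintro ⟨k, hk, hk'⟩
      refine ⟨h.1⁻¹ * k * h.1⁻¹⁻¹, hn _ (H.inv_mem h.2) _ hk, h.1⁻¹ * k⁻¹ * h'.1,
        ⟨H.mul_mem (H.mul_mem (H.inv_mem h.2) (H.inv_mem (hKH hk))) h'.2, ?_⟩, ?_⟩
      · refine Subgroup.mem_centralizer_singleton_iff.2 ?_
        have h1 : h'.1 * x * h'.1⁻¹ = k * (h.1 * x * h.1⁻¹) * k⁻¹ := hk'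
        have h2 : h'.1 * x = k * (h.1 * x * h.1⁻¹) * k⁻¹ * h'.1 := by
          rw [← h1]; group
        calc h.1⁻¹ * k⁻¹ * h'.1 * x = h.1⁻¹ * k⁻¹ * (h'.1 * x) := by group
          _ = _ := by rw [h2]; group
      · simp only [Subgroup.coe_mul, Subgroup.coe_inv]
        group
    · rintro ⟨k, hk, c, hc, h1⟩
      have h2 : h'.1 = h.1 * k * c := by
        have : h.1⁻¹ * h'.1 = k * c := h1
        rw [mul_assoc, ← this]; group
      refine ⟨h.1 * k * h.1⁻¹, hn _ h.2 _ hk, ?_⟩
      have h3 : c * x = x * c := Subgroup.mem_centralizer_singleton_iff.1 hc.2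
      have h4 : c * x * c⁻¹ = x := by rw [h3]; group
      change h'.1 * x * h'.1⁻¹ = h.1 * k * h.1⁻¹ * (h.1 * x * h.1⁻¹) * (h.1 * k * h.1⁻¹)⁻¹
      rw [h2]
      calc h.1 * k * c * x * (h.1 * k * c)⁻¹ = h.1 * k * (c * x * c⁻¹) * (h.1 * k)⁻¹ := by group
        _ = _ := by rw [h4]; group
  have hfs : Function.Surjective f := by
    intro y
    induction y using Quot.ind with
    | mk y =>
      obtain ⟨y, h, hh, rfl⟩ := y
      exact ⟨⟨h, hh⟩, rfl⟩
  let e : (H ⧸ (K ⊔ C).subgroupOf H) →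
      Quot fun y z : {y : X // IsConjUnder H x y} => IsConjUnder K y.1 z.1 :=
    Quotient.lift f (fun a b hab => (hf a b).2 (QuotientGroup.leftRel_apply.1 hab))
  have he : Function.Bijective e := by
    constructor
    · intro a b
      induction a using QuotientGroup.induction_on with
      | H a =>
        induction b using QuotientGroup.induction_on with
        | H b =>
          intro hab
          exact QuotientGroup.eq.2 ((hf a b).1 hab)
    · intro y
      obtain ⟨h, rfl⟩ := hfs y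
      exact ⟨QuotientGroup.mk h, rfl⟩
  exact (Nat.card_congr (Equiv.ofBijective e he)).symm

/-- The number of `K`-classes in the `H`-class of `x`, through a homomorphism `D` onto `H / K`. -/
theorem splitClassCount_eq_index {H K : Subgroup X} {Δ A : Type*} [Group Δ] [Group A]
    (Ψ : Δ →* X) (D : Δ →* A) (hH : Ψ.range = H) (hD : Function.Surjective D)
    (hK : D.ker.map Ψ = K) (hker : Ψ.ker ≤ D.ker) (x : X) :
    splitClassCount H K x = (((Subgroup.centralizer {x}).comap Ψ).map D).index := by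
  subst hH hK
  rw [splitClassCount_eq_relIndex]
  · rw [← Subgroup.index_comap, ← Subgroup.index_comap_of_surjective _ hD, Subgroup.comap_map_eq]
    congr 1
    apply le_antisymm
    · intro g hg
      rw [Subgroup.mem_comap] at hg
      have h1 : (D.ker.map Ψ ⊔ (Ψ.range ⊓ Subgroup.centralizer {x}) : Subgroup X) ≤
          (((Subgroup.centralizer {x}).comap Ψ) ⊔ D.ker).map Ψ := by
        apply sup_le
        · exact Subgroup.map_mono le_sup_right
        · rintro y ⟨⟨g, rfl⟩, hy⟩
          exact ⟨g, Subgroup.mem_sup_left hy, rfl⟩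
      obtain ⟨g', hg', hgg⟩ := h1 hg
      have h2 : g'⁻¹ * g ∈ D.ker := hker (by
        rw [MonoidHom.mem_ker, map_mul, map_inv, hgg, inv_mul_cancel])
      have h3 : g = g' * (g'⁻¹ * g) := by group
      rw [h3]
      exact Subgroup.mul_mem _ hg' (Subgroup.mem_sup_right h2)
    · apply sup_le
      · intro g hg
        exact Subgroup.mem_sup_right ⟨⟨g, rfl⟩, hg⟩
      · intro g hg
        exact Subgroup.mem_sup_left ⟨g, hg, rfl⟩
  · rintro _ ⟨g, -, rfl⟩
    exact ⟨g, rfl⟩
  · rintro _ ⟨h, rfl⟩ _ ⟨k, hk, rfl⟩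
    refine ⟨h * k * h⁻¹, ?_, by simp⟩
    rw [SetLike.mem_coe, MonoidHom.mem_ker] at hk ⊢
    rw [map_mul, map_mul, hk, mul_one, map_inv, mul_inv_cancel]

end Cfsg.Agent.H198.SplitCount
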