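import Mathlib
import Cfsg.Agent.LieClassical.OrthTrans

/-!
# Twisted symmetric compositions (helper198)

`TC Q σ m` : a product `m` on `V`, `σ⁻¹`-semilinear in the first and `σ`-semilinear in the second variable (`σ³ = 1`), with
`m (m a b) a = σ(Q a) b` and `m a (m b a) = σ⁻¹(Q a) b`.

* `TC.idem_of_sq_zero` : if `m v v = 0`, `v ≠ 0`, there is `e` with `m e e = e`, `e ≠ 0`, `m e (m e v) = v`;
* `TC.cube` : for `a ≠ 0` singular, `m (m a a) (m a a) = g a`, `g = polar Q a (m a a)` fixed by `σ`;
* `TC.exists_idem` : over a finite field an isotropic twisted symmetric composition has an idempotent.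
-/

set_option autoImplicit false

namespace Cfsg.Agent.H198.TwComp

open Module QuadraticMap Cfsg.Agent.LieClassical.OrthCore Cfsg.Agent.LieClassical.OrthTrans

variable {F V : Type*} [Field F] [AddCommGroup V] [Module F V] {Q : QuadraticForm F V}

/-- See the module docstring. -/
structure TC (Q : QuadraticForm F V) (σ : F ≃+* F) (m : V → V → V) : Prop where
  add_left : ∀ a b c, m (a + b) c = m a c + m b c
  add_right : ∀ a b c, m a (b + c) = m a b + m a c
  smul_left : ∀ (k : F) a b, m (k • a) b = σ.symm k • m a b
  smul_right : ∀ (k : F) a b, m a (k • b) = σ k • m a b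
  left : ∀ a b, m (m a b) a = σ (Q a) • b
  right : ∀ a b, m a (m b a) = σ.symm (Q a) • b
  cube : ∀ k, σ (σ (σ k)) = k

variable {σ : F ≃+* F} {m : V → V → V}

namespace TC

theorem symm_symm (h : TC Q σ m) (k : F) : σ.symm (σ.symm k) = σ k := by
  rw [RingEquiv.symm_apply_eq, RingEquiv.symm_apply_eq, h.cube]

theorem zero_left (h : TC Q σ m) (a : V) : m 0 a = 0 := by
  have := h.smul_left 0 0 a
  rwa [zero_smul, map_zero, zero_smul] at this

theorem zero_right (h : TC Q σ m) (a : V) : m a 0 = 0 := by
  have := h.smul_right 0 a 0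
  rwa [zero_smul, map_zero, zero_smul] at this

theorem neg_left (h : TC Q σ m) (a b : V) : m (-a) b = -m a b := by
  have := h.smul_left (-1) a b
  rwa [neg_one_smul, map_neg, map_one, neg_one_smul] at this

theorem neg_right (h : TC Q σ m) (a b : V) : m a (-b) = -m a b := by
  have := h.smul_right (-1) a b
  rwa [neg_one_smul, map_neg, map_one, neg_one_smul] at this

/-- The linearised first law. -/
theorem lin1 (h : TC Q σ m) (x y z : V) : m (m x y) z + m (m z y) x = σ (polar Q x z) • y := by
  have h1 := h.left (x + z) y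
  rw [h.add_left, h.add_left, h.add_right, h.add_right, h.left, h.left, Q_add, map_add, map_add, add_smul,
    add_smul] at h1
  have h2 : m (m x y) z + m (m z y) x =
      (σ (Q x) • y + m (m x y) z + (m (m z y) x + σ (Q z) • y)) - σ (Q x) • y - σ (Q z) • y := by abel
  rw [h2, h1]
  abel

/-- The linearised second law. -/
theorem lin2 (h : TC Q σ m) (x y z : V) : m x (m y z) + m z (m y x) = σ.symm (polar Q x z) • y := by
  have h1 := h.right (x + z) y
  rw [h.add_right, h.add_left, h.add_right, h.add_right, h.right, h.right, Q_add, map_add, map_add, add_smul,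
    add_smul] at h1
  have h2 : m x (m y z) + m z (m y x) =
      (σ.symm (Q x) • y + m x (m y z) + (m z (m y x) + σ.symm (Q z) • y)) - σ.symm (Q x) • y - σ.symm (Q z) • y := by
    abel
  rw [h2, h1]
  abel

theorem sing_of_sq (h : TC Q σ m) {v : V} (hv0 : v ≠ 0) (hv : m v v = 0) : Q v = 0 := by
  have h1 := h.left v v
  rw [hv, h.zero_left] at h1
  have h2 := (smul_eq_zero.1 h1.symm).resolve_right hv0
  exact (map_eq_zero σ).1 h2

/-- An idempotent has norm one. -/
theorem norm_idem (h : TC Q σ m) {e : V} (he0 : e ≠ 0) (he : m e e = e) : Q e = 1 := by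
  have h1 := h.left e e
  rw [he, he] at h1
  have h2 : (σ (Q e) - 1) • e = 0 := by rw [sub_smul, ← h1, one_smul, sub_self]
  have h3 := sub_eq_zero.1 ((smul_eq_zero.1 h2).resolve_right he0)
  rw [← map_one σ] at h3
  exact σ.injective h3

/-- A vector of square zero gives an idempotent. -/
theorem idem_of_sq_zero (h : TC Q σ m) (hQ : Nondeg Q) {v : V} (hv0 : v ≠ 0) (hv : m v v = 0) :
    ∃ e, e ≠ 0 ∧ m e e = e ∧ m e (m e v) = v := by
  obtain ⟨u, hu⟩ := exists_hyp hQ (h.sing_of_sq hv0 hv) hv0
  have hQv := hu.left
  have hQu := hu.right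
  have hB := hu.pair
  have hB' := hu.pair'
  set a := m v u with ha
  set b := m u v with hb
  have av : m a v = 0 := by rw [ha, h.left, hQv, map_zero, zero_smul]
  have vb : m v b = 0 := by rw [hb, h.right, hQv, map_zero, zero_smul]
  have bv : m b v = v := by
    have := h.lin1 u v v
    rwa [hv, h.zero_left, add_zero, hB', map_one, one_smul] at this
  have va : m v a = v := by
    have := h.lin2 v v u
    rwa [hv, h.zero_right, add_zero, hB, map_one, one_smul] at this
  have Bva : polar Q v a = 0 := by
    have := h.lin2 v v a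
    rw [va, hv, h.zero_right, zero_add] at this
    have h2 := (smul_eq_zero.1 this.symm).resolve_right hv0
    exact (map_eq_zero σ.symm).1 h2
  have Bvb : polar Q v b = 0 := by
    have := h.lin1 v v b
    rw [hv, h.zero_left, zero_add, bv, hv] at this
    have h2 := (smul_eq_zero.1 this.symm).resolve_right hv0
    exact (map_eq_zero σ).1 h2
  set γ := polar Q (m u u) v with hγ
  have aa : m a a = -b + σ γ • v := by
    have e1 := h.lin1 v u a
    rw [Bva, map_zero, zero_smul, ← ha] at e1
    have e2 := h.lin1 v u u
    rw [← ha, hB, map_one, one_smul] at e2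
    have e3 : m a u = u - m (m u u) v := eq_sub_of_add_eq e2
    have e4 := h.lin1 (m u u) v v
    rw [hv, h.zero_left, add_zero] at e4
    rw [e3, sub_eq_add_neg, h.add_left, h.neg_left, e4, ← hb] at e1
    rw [← sub_eq_zero, ← e1]
    abel
  have bb : m b b = -a + σ.symm γ • v := by
    have e1 := h.lin2 b u v
    rw [polar_comm Q b v, Bvb, map_zero, zero_smul, ← hb] at e1
    have e2 := h.lin2 u u v
    rw [← hb, hB', map_one, one_smul] at e2
    have e3 : m u b = u - m v (m u u) := eq_sub_of_add_eq e2
    have e4 := h.lin2 v v (m u u)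
    rw [hv, h.zero_right, add_zero, polar_comm Q v (m u u)] at e4
    rw [e3, sub_eq_add_neg, h.add_right, h.neg_right, e4, ← ha] at e1
    rw [← sub_eq_zero, ← e1]
    abel
  have ab : m a b = 0 := by
    have e1 := h.lin1 v u b
    have e2 : m b u = 0 := by rw [hb, h.left, hQu, map_zero, zero_smul]
    rwa [← ha, e2, h.zero_left, add_zero, Bvb, map_zero, zero_smul] at e1
  have ba : m b a = γ • v := by
    have e1 := h.lin1 u v a
    rw [← hb, av, h.zero_left, add_zero] at e1
    have e2 := h.lin2 u v a
    rw [va, ← ha, ← hb, aa] at e2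
    have e3 : (σ γ - σ.symm (polar Q u a)) • v = 0 := by
      rw [sub_smul, ← e2]
      abel
    have e4 := sub_eq_zero.1 ((smul_eq_zero.1 e3).resolve_right hv0)
    have e5 : σ (polar Q u a) = γ := by
      have := congrArg (fun z => σ (σ z)) e4
      beta_reduce at this
      rw [h.cube, RingEquiv.apply_symm_apply] at this
      exact this.symm
    rw [e1, e5]
  set e := -(a + b) + γ • v with he
  have ev : m e v = -v := by
    rw [he, h.add_left, h.neg_left, h.add_left, av, bv, zero_add, h.smul_left, hv, smul_zero, add_zero]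
  refine ⟨e, ?_, ?_, ?_⟩
  · intro h0
    rw [h0, h.zero_left] at ev
    exact hv0 (neg_eq_zero.1 ev.symm)
  · have h1 : m e e = m a a + m b b + m a b + m b a - σ γ • v - σ.symm γ • v := by
      have e1 : m e e = -(m (a + b) (-(a + b) + γ • v)) + m (γ • v) (-(a + b) + γ • v) := by
        rw [he, h.add_left, h.neg_left]
      rw [e1, h.add_right, h.add_right, h.neg_right, h.neg_right, h.smul_right, h.smul_right, h.smul_left, h.smul_left,
        h.add_left a b v, h.add_right v a b, av, bv, va, vb, hv, h.add_left, h.add_right, h.add_right]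
      simp only [smul_zero, zero_add, add_zero]
      abel
    rw [h1, aa, bb, ab, ba, he]
    abel
  · rw [ev, h.neg_right, ev, neg_neg]

/-- The square of the square. -/
theorem sq_sq (h : TC Q σ m) {a : V} (ha : Q a = 0) (ha0 : a ≠ 0) :
    m (m a a) (m a a) = polar Q a (m a a) • a ∧ σ (polar Q a (m a a)) = polar Q a (m a a) := by
  have e1 := h.lin1 a a (m a a)
  have e2 := h.lin2 (m a a) a a
  have e3 : m (m a a) a = 0 := by rw [h.left, ha, map_zero, zero_smul]
  have e4 : m a (m a a) = 0 := by rw [h.right, ha, map_zero, zero_smul]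
  rw [e3, h.zero_left, add_zero] at e1
  rw [e4, h.zero_right, add_zero, polar_comm Q (m a a) a] at e2
  set g := polar Q a (m a a) with hg
  have e5 : (σ g - σ.symm g) • a = 0 := by rw [sub_smul, ← e1, ← e2, sub_self]
  have e6 := sub_eq_zero.1 ((smul_eq_zero.1 e5).resolve_right ha0)
  have e7 : σ g = g := by
    have := congrArg (fun z => σ (σ z)) e6
    beta_reduce at this
    rw [h.cube, RingEquiv.apply_symm_apply] at this
    exact this.symm
  exact ⟨by rw [e1, e7], e7⟩

/-- If `g` is a norm then there is an idempotent. -/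
theorem idem_of_norm (h : TC Q σ m) {a : V} (ha : Q a = 0) (ha0 : a ≠ 0) {c : F}
    (hc : c * σ c * σ.symm c * polar Q a (m a a) = 1) : ∃ e, e ≠ 0 ∧ m e e = e := by
  obtain ⟨h1, h2⟩ := h.sq_sq ha ha0
  have e3 : m (m a a) a = 0 := by rw [h.left, ha, map_zero, zero_smul]
  have e4 : m a (m a a) = 0 := by rw [h.right, ha, map_zero, zero_smul]
  set g := polar Q a (m a a) with hg
  have hss := h.symm_symm
  have hcc : ∀ k, σ (σ k) = σ.symm k := fun k => by
    apply σ.injective
    rw [h.cube, RingEquiv.apply_symm_apply]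
  have hc0 : c ≠ 0 := by
    rintro rfl
    simp at hc
  refine ⟨c • a + (σ.symm c * σ c) • m a a, ?_, ?_⟩
  · intro h0
    have h5 := congrArg (fun z => m a z) h0
    beta_reduce at h5
    rw [h.add_right, h.smul_right, h.smul_right, e4, smul_zero, add_zero, h.zero_right] at h5
    have h6 := (smul_eq_zero.1 h5).resolve_left (fun h7 => hc0 ((map_eq_zero σ).1 h7))
    rw [h6, polar_zero_right] at hg
    rw [hg, mul_zero] at hc
    exact zero_ne_one hc
  · rw [h.add_left, h.add_right, h.add_right, h.smul_left, h.smul_left, h.smul_left, h.smul_left, h.smul_right,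
      h.smul_right, h.smul_right, h.smul_right, h1, e3, e4]
    simp only [smul_zero, add_zero, zero_add]
    have e5 : σ.symm (σ.symm c * σ c) • σ (σ.symm c * σ c) • g • a = c • a := by
      rw [smul_smul, smul_smul]
      congr 1
      rw [map_mul, map_mul, hss, RingEquiv.symm_apply_apply, RingEquiv.apply_symm_apply, hcc]
      linear_combination c * hc
    rw [e5, smul_smul, add_comm]

end TC

end Cfsg.Agent.H198.TwComp
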