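import Cfsg.Agent.H198.TriTC
import Cfsg.Agent.H198.TcSc

/-!
# The classification of triality automorphisms of order three (helper198)

`classify` : over a finite field, an automorphism of order three of `P8 F` outside the range of `Ψ`, or its inverse, is
conjugate to `xt hG τ`, `τ` an octonion automorphism with `τ³ = 1` fixing a vector of square zero.
-/

set_option autoImplicit false

namespace Cfsg.Agent.H198.TriCls

open Module QuadraticMap Cfsg.Agent.LieClassical.OrthCore Cfsg.Agent.LieClassical.OrthTrans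
  Cfsg.Agent.LieClassical.OrthSimple Cfsg.Agent.ClassicalGeometry.OrthAut1
  Cfsg.Agent.ClassicalGeometry.OrthSemi Cfsg.Agent.H198.Classes
  Cfsg.Agent.LieClassical.QuadForms Cfsg.Agent.H198.ClassesPlus
  Cfsg.Agent.ClassicalGeometry.TrialityOct Cfsg.Agent.ClassicalGeometry.Triality
  Cfsg.Agent.ClassicalGeometry.TrialitySpaces Cfsg.Agent.H198.TriBase Cfsg.Agent.H198.TriAut
  Cfsg.Agent.H206.Balance Cfsg.Agent.H198.BalVar Cfsg.Agent.H198.TriDia Cfsg.Agent.H198.TwComp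
  Cfsg.Agent.H198.TriTC

universe u

variable {F : Type u} [Field F]

theorem gen_S {G : Type u} [Group G] {a b c n r : G} (h : r * n * r⁻¹ = c) : b * (a * r) * n = b * a * c * r := by
  rw [← h]
  group

set_option maxHeartbeats 4000000 in
/-- Conjugation by `Ψ(N)` transports the product by `N`. -/
theorem step (hG : Good (plusForm 4 F)) {M M₁ M₂ N N₁ N₂ : G8 F} (hM : TriS M M₁ M₂) (hN : TriS N N₁ N₂) :
    ∃ M' M'₁ M'₂ : G8 F, TriS M' M'₁ M'₂ ∧ Psi _ N * (Psi _ M * rho hG) * (Psi _ N)⁻¹ = Psi _ M' * rho hG ∧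
      (∀ u w, mo M' M'₂ (N.1 u) (N.1 w) = N.1 (mo M M₂ u w)) ∧
      (∀ u, M'⁻¹.1 (N.1 u) = oconj (N₁.1 (oconj (M⁻¹.1 u)))) := by
  obtain ⟨σ₂, c₂, hs₂⟩ := N₂.2
  have inv_apply : ∀ (N : G8 F) (x : V8 F), N⁻¹.1 (N.1 x) = x := fun N x => N.1.symm_apply_apply x
  have h1 := (hN.swap (c₂ := Units.mk0 c₂ hs₂.ne) hs₂).inv.kap
  have h2 := (hN.mul hM).mul h1
  have h3 : ∀ u, (N * M * (kapG F * N₁⁻¹ * kapG F))⁻¹.1 (N.1 u) = oconj (N₁.1 (oconj (M⁻¹.1 u))) := by
    intro u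
    have e : (N * M * (kapG F * N₁⁻¹ * kapG F))⁻¹ = kapG F * N₁ * kapG F * (M⁻¹ * N⁻¹) :=
      calc (N * M * (kapG F * N₁⁻¹ * kapG F))⁻¹ = (kapG F)⁻¹ * N₁ * (kapG F)⁻¹ * (M⁻¹ * N⁻¹) := by group
        _ = _ := by rw [kapG_inv]
    rw [e]
    change oconj (N₁.1 (oconj (M⁻¹.1 (N⁻¹.1 (N.1 u))))) = _
    rw [inv_apply]
  refine ⟨_, _, _, h2, ?_, fun u w => ?_, h3⟩
  · have e1 : (Psi (plusForm 4 F) N)⁻¹ = Psi (plusForm 4 F) N⁻¹ := (map_inv (Psi (plusForm 4 F)) N).symm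
    rw [e1, gen_S (rho_conj hG hN.inv), map_mul (Psi (plusForm 4 F)) (N * M) (kapG F * N₁⁻¹ * kapG F),
      map_mul (Psi (plusForm 4 F)) N M]
  · have e2 : (N₂ * M₂ * (kapG F * N⁻¹ * kapG F)).1 (oconj (N.1 w)) = N₂.1 (M₂.1 (oconj w)) := by
      change N₂.1 (M₂.1 (oconj (N⁻¹.1 (oconj (oconj (N.1 w)))))) = _
      rw [oconj_oconj, inv_apply]
    have e3 : mo (N * M * (kapG F * N₁⁻¹ * kapG F)) (N₂ * M₂ * (kapG F * N⁻¹ * kapG F)) (N.1 u) (N.1 w) =
        omul (oconj ((N * M * (kapG F * N₁⁻¹ * kapG F))⁻¹.1 (N.1 u)))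
          ((N₂ * M₂ * (kapG F * N⁻¹ * kapG F)).1 (oconj (N.1 w))) := rfl
    rw [e3, e2, h3, oconj_oconj, mo, hN]

theorem sq_of_perp {x : V8 F} (h : polar (plusForm 4 F) x (one8 F) = 0) : omul x x = (-plusForm 4 F x) • one8 F := by
  have h1 : x (.inl 0) = - x (.inr 0) := by
    rw [polar8] at h
    simp [one8] at h
    linear_combination h
  rw [norm8]
  apply ext8
  · rw [omul_l0]
    simp [one8]
    rw [h1]
    ring
  · rw [omul_l1]
    simp [one8]
    rw [h1]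
    ring
  · rw [omul_l2]
    simp [one8]
    rw [h1]
    ring
  · rw [omul_l3]
    simp [one8]
    rw [h1]
    ring
  · rw [omul_r0]
    simp [one8]
    rw [h1]
    ring
  · rw [omul_r1]
    simp [one8]
    rw [h1]
    ring
  · rw [omul_r2]
    simp [one8]
    rw [h1]
    ring
  · rw [omul_r3]
    simp [one8]
    rw [h1]
    ring

theorem exists_perp (a : V8 F) : ∃ v : V8 F, plusForm 4 F v = 1 ∧ polar (plusForm 4 F) v (one8 F) = 0 ∧
    polar (plusForm 4 F) v a = 0 := by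
  by_cases hp : a (.inl 1) = 0
  · by_cases hq : a (.inr 1) = 0
    · refine ⟨Sum.elim ![0, 1, 0, 0] ![0, 1, 0, 0], ?_, ?_, ?_⟩
      · rw [norm8]; simp
      · rw [polar8]; simp [one8]
      · rw [polar8]; simp [hp, hq]
    · refine ⟨Sum.elim ![0, -(a (.inl 2) + a (.inr 2)) / a (.inr 1), 1, 0] ![0, 0, 1, 0], ?_, ?_, ?_⟩
      · rw [norm8]; simp
      · rw [polar8]; simp [one8]
      · rw [polar8]; simp; field_simp; ring
  · refine ⟨Sum.elim ![0, 0, 1, 0] ![0, -(a (.inl 2) + a (.inr 2)) / a (.inl 1), 1, 0], ?_, ?_, ?_⟩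
    · rw [norm8]; simp
    · rw [polar8]; simp [one8]
    · rw [polar8]; simp; field_simp; ring

/-- A triple `(N, N₁, N₂)` with `N 1 = 1` and `N₁ ā = 1`. -/
theorem exists_N {a : V8 F} (ha : plusForm 4 F a ≠ 0) :
    ∃ N N₁ N₂ : G8 F, TriS N N₁ N₂ ∧ N.1 (one8 F) = one8 F ∧ N₁.1 (oconj a) = one8 F := by
  obtain ⟨v, hv, hv1, hva⟩ := exists_perp a
  set u := oconj (omul v (oconj a)) with hu
  have hu' : plusForm 4 F u = plusForm 4 F a := by rw [hu, norm_oconj, norm_omul, norm_oconj, hv, one_mul]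
  have hu0 : plusForm 4 F u ≠ 0 := by rw [hu']; exact ha
  have hv0 : plusForm 4 F v ≠ 0 := by rw [hv]; exact one_ne_zero
  have hu1 : polar (plusForm 4 F) u (one8 F) = 0 := by
    rw [← hva, hu, polar8, polar8]
    simp [one8, oconj_l0, oconj_l1, oconj_l2, oconj_l3, oconj_r0, oconj_r1, oconj_r2, oconj_r3, omul_l0, omul_r0]
    ring
  refine ⟨scal _ (Units.mk0 _ hu0)⁻¹ * (bG u hu0 * bG v hv0), scal _ (Units.mk0 _ hu0)⁻¹ * (lG u hu0 * lG v hv0),
    1 * (rG u hu0 * rG v hv0), (tri_scal _).mul ((tri_bG u hu0).mul (tri_bG v hv0)), ?_, ?_⟩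
  · change (((Units.mk0 _ hu0)⁻¹ : Fˣ) : F) • omul (omul u (omul (omul v (one8 F)) v)) u = _
    rw [omul_one, sq_of_perp hv1, hv, omul_smul, omul_one, smul_omul, sq_of_perp hu1, smul_smul, smul_smul]
    rw [Units.val_inv_eq_inv_val, Units.val_mk0]
    have : (plusForm 4 F u)⁻¹ * -1 * -plusForm 4 F u = 1 := by field_simp
    rw [this, one_smul]
  · change (((Units.mk0 _ hu0)⁻¹ : Fˣ) : F) • omul u (omul v (oconj a)) = _
    have h1 : omul u (omul v (oconj a)) = plusForm 4 F u • one8 F := by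
      have h2 := oconj_omul_omul (omul v (oconj a)) (one8 F)
      rw [omul_one, ← hu] at h2
      rw [h2, hu, norm_oconj]
    rw [h1, smul_smul, Units.val_inv_eq_inv_val, Units.val_mk0, inv_mul_cancel₀ hu0, one_smul]

/-- The last step. -/
theorem tri_of_one {M M₁ M₂ : G8 F} (hM : TriS M M₁ M₂) (h1 : mo M M₂ (one8 F) (one8 F) = one8 F)
    (ha : M⁻¹.1 (one8 F) = one8 F) : TriS M M M ∧ M₂ = M := by
  have h0 := oconj_one8 (F := F)
  have e1 : M₂.1 (one8 F) = one8 F := by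
    rw [mo, ha, h0, one_omul] at h1
    exact h1
  have e0 : M.1 (one8 F) = one8 F := by
    have := M.1.apply_symm_apply (one8 F)
    have h2 : M.1.symm (one8 F) = one8 F := ha
    rwa [h2] at this
  have e2 : ∀ x, M₁.1 x = M.1 x := by
    intro x
    have h := hM x (one8 F)
    rw [omul_one, e1, omul_one] at h
    exact h.symm
  have e3 : ∀ y, M₂.1 y = M.1 y := by
    intro y
    have h := hM (one8 F) y
    rw [one_omul, e2, e0, one_omul] at h
    exact h.symm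
  refine ⟨fun x y => ?_, ?_⟩
  · rw [hM, e2, e3]
  · apply Subtype.ext
    ext1 y
    exact e3 y

theorem gen_T {G : Type u} [Group G] {t r : G} (hc : r * t = t * r) (h : (t * r) ^ 3 = 1) (hr : r ^ 3 = 1) :
    t ^ 3 = 1 := by
  have h1 : Commute t r := hc.symm
  rw [h1.mul_pow, hr, mul_one] at h
  exact h

theorem pow_three_of (hG : Good (plusForm 4 F)) {τ : G8 F} (hτ : TriS τ τ τ) (h : (Psi _ τ * rho hG) ^ 3 = 1) :
    τ ^ 3 = 1 := by
  have h1 := gen_T (rho_comm hG hτ) h (rho_pow_three hG)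
  have h2 : Psi (plusForm 4 F) (τ ^ 3) = Psi (plusForm 4 F) 1 := by
    rw [map_pow (Psi (plusForm 4 F)) τ 3, h1, map_one (Psi (plusForm 4 F))]
  obtain ⟨c, hc⟩ := smul_of_Psi_eq hG h2
  have h3 : (τ ^ 3).1 (one8 F) = one8 F := by
    rw [pow_three]
    change τ.1 (τ.1 (τ.1 (one8 F))) = _
    rw [aut_one hτ, aut_one hτ, aut_one hτ]
  have h4 : (c : F) • one8 F = one8 F := by
    have := hc (one8 F)
    rw [h3] at this
    exact this.symm
  have h5 : (c : F) = 1 := by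
    have h6 : ((c : F) - 1) • one8 F = 0 := by rw [sub_smul, h4, one_smul, sub_self]
    rcases smul_eq_zero.1 h6 with h7 | h7
    · exact sub_eq_zero.1 h7
    · exfalso
      have h8 := norm_one8 (F := F)
      rw [h7, QuadraticMap.map_zero] at h8
      exact zero_ne_one h8
  apply Subtype.ext
  ext1 v
  have := hc v
  rw [h5, one_smul] at this
  exact this

theorem gen_cj {G : Type u} [Group G] {a b x y z : G} (h1 : a * x * a⁻¹ = y) (h2 : b * y * b⁻¹ = z) :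
    b * a * x * (b * a)⁻¹ = z := by
  rw [← h2, ← h1]
  group

theorem gen_cj3 {G : Type u} [Group G] {a x y : G} (h1 : a * x * a⁻¹ = y) (h : x ^ 3 = 1) : y ^ 3 = 1 := by
  rw [← h1, conj_pow, h, mul_one, mul_inv_cancel]

set_option maxHeartbeats 4000000 in
/-- The classification in terms of `Ψ(M) ρ`. -/
theorem classify_M [Finite F] (hG : Good (plusForm 4 F)) {M M₁ M₂ : G8 F} (hM : TriS M M₁ M₂)
    (h3 : (Psi _ M * rho hG) ^ 3 = 1) :
    ∃ (α : MulAut (P8 F)) (τ : G8 F), TriS τ τ τ ∧ τ ^ 3 = 1 ∧ α * (Psi _ M * rho hG) * α⁻¹ = xt hG τ ∧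
      ∃ v : V8 F, v ≠ 0 ∧ omul v v = 0 ∧ τ.1 v = v := by
  have inv_apply : ∀ (N : G8 F) (x : V8 F), N⁻¹.1 (N.1 x) = x := fun N x => N.1.symm_apply_apply x
  obtain ⟨c₀, hc₀⟩ := cub_of_cube hG hM h3
  obtain ⟨σ, c, hs⟩ := M.2
  obtain ⟨k, hk, hTC⟩ := tc hM hc₀ hs
  have hnd : Nondeg (k • plusForm 4 F) := by
    intro x hx
    apply ClassicalGeometry.Triality.nondeg8 x
    intro y
    have h1 := hx y
    have h2 : polar (⇑(k • plusForm 4 F)) x y = k * polar (plusForm 4 F) x y := by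
      change k * plusForm 4 F (x + y) - k * plusForm 4 F x - k * plusForm 4 F y =
        k * (plusForm 4 F (x + y) - plusForm 4 F x - plusForm 4 F y)
      ring
    rw [h2] at h1
    exact (mul_eq_zero.1 h1).resolve_left hk
  obtain ⟨v, hv0, hv⟩ := hTC.exists_sq_zero hnd (by
    rw [Module.finrank_fintype_fun_eq_card, Fintype.card_sum, Fintype.card_fin])
  obtain ⟨e, he0, he, hev⟩ := hTC.idem_of_sq_zero hnd hv0 hv
  have hQe := hTC.norm_idem he0 he
  have hne : plusForm 4 F e ≠ 0 := by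
    intro h
    change k * plusForm 4 F e = 1 at hQe
    rw [h, mul_zero] at hQe
    exact zero_ne_one hQe
  -- first step
  obtain ⟨A, A₁, A₂, hA, hA1, hA2, -⟩ := step hG hM (tri_lG e hne).inv
  set N := (lG e hne)⁻¹ with hN
  have hNe : N.1 e = one8 F := by
    have h1 : (lG e hne).1 (one8 F) = e := by rw [lG_apply, omul_one]
    have h2 := inv_apply (lG e hne) (one8 F)
    rwa [h1] at h2
  have hA3 := gen_cj3 hA1 h3
  have hAe : mo A A₂ (one8 F) (one8 F) = one8 F := by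
    have := hA2 e e
    rwa [he, hNe] at this
  -- second step
  have ha : plusForm 4 F (A⁻¹.1 (one8 F)) ≠ 0 := by
    obtain ⟨σ', c', hs'⟩ := A⁻¹.2
    rw [hs'.form, norm_one8, map_one, mul_one]
    exact hs'.ne
  obtain ⟨N', N'₁, N'₂, hN', hN1, hN2⟩ := exists_N ha
  obtain ⟨B, B₁, B₂, hB, hB1, hB2, hB3⟩ := step hG hA hN'
  have hBe : mo B B₂ (one8 F) (one8 F) = one8 F := by
    have := hB2 (one8 F) (one8 F)
    rwa [hAe, hN1] at this
  have hBi : B⁻¹.1 (one8 F) = one8 F := by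
    have := hB3 (one8 F)
    rw [hN1, hN2] at this
    rw [this, oconj_one8]
  obtain ⟨hτ, hB2'⟩ := tri_of_one hB hBe hBi
  have hτ3 := pow_three_of hG hτ (gen_cj3 hB1 hA3)
  refine ⟨_, B, hτ, hτ3, gen_cj hA1 hB1, N'.1 (N.1 v), ?_, ?_⟩
  · intro h
    obtain ⟨σ', c', hs'⟩ := N'.2
    obtain ⟨σ'', c'', hs''⟩ := N.2
    rw [← hs'.map_zero] at h
    have h4 := N'.1.injective h
    rw [← hs''.map_zero] at h4
    exact hv0 (N.1.injective h4)
  · rw [hB2'] at hB2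
    have hT : ∀ x y, mo B B (N'.1 (N.1 x)) (N'.1 (N.1 y)) = N'.1 (N.1 (mo M M₂ x y)) := by
      intro x y
      rw [hB2, hA2]
    have hTe : N'.1 (N.1 e) = one8 F := by rw [hNe, hN1]
    set w := N'.1 (N.1 v) with hw
    have hww : mo B B w w = 0 := by
      rw [hw, hT, hv]
      obtain ⟨σ', c', hs'⟩ := N'.2
      obtain ⟨σ'', c'', hs''⟩ := N.2
      rw [hs''.map_zero, hs'.map_zero]
    have h1w : mo B B (one8 F) (mo B B (one8 F) w) = w :=
      calc mo B B (one8 F) (mo B B (one8 F) w) =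
            mo B B (N'.1 (N.1 e)) (mo B B (N'.1 (N.1 e)) (N'.1 (N.1 v))) := by rw [hTe]
        _ = mo B B (N'.1 (N.1 e)) (N'.1 (N.1 (mo M M₂ e v))) := congrArg _ (hT e v)
        _ = N'.1 (N.1 (mo M M₂ e (mo M M₂ e v))) := hT _ _
        _ = w := by rw [hev]
    have hm : ∀ x, mo B B (one8 F) x = B.1 (oconj x) := by
      intro x
      rw [mo, hBi, oconj_one8, one_omul]
    rw [hm, hm, aut_oconj hτ w, oconj_oconj] at h1w
    have h3w : B.1 w = w := by
      have h5 : (B ^ 3).1 w = w := by rw [hτ3]; rfl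
      rw [pow_three] at h5
      have h6 : B.1 (B.1 (B.1 w)) = w := h5
      rwa [h1w] at h6
    refine ⟨?_, h3w⟩
    have h7 : B⁻¹.1 w = w := by
      have := inv_apply B w
      rwa [h3w] at this
    rw [mo, h7, aut_oconj hτ, h3w, ← oconj_omul] at hww
    have h8 := congrArg oconj hww
    rw [oconj_oconj] at h8
    rw [h8]
    apply ext8 <;> simp [oconj_l0, oconj_l1, oconj_l2, oconj_l3, oconj_r0, oconj_r1, oconj_r2, oconj_r3]

/-- **The classification.** -/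
theorem classify [Finite F] (hG : Good (plusForm 4 F)) {x : MulAut (P8 F)} (hx : x ∉ (Psi (plusForm 4 F)).range)
    (ho : x ^ 3 = 1) : ∃ (α : MulAut (P8 F)) (τ : G8 F), TriS τ τ τ ∧ τ ^ 3 = 1 ∧
      (α * x * α⁻¹ = xt hG τ ∨ α * x⁻¹ * α⁻¹ = xt hG τ) ∧ ∃ v : V8 F, v ≠ 0 ∧ omul v v = 0 ∧ τ.1 v = v := by
  obtain ⟨M, M₁, M₂, hM, -, h | h⟩ := exists_M hG hx ho
  · obtain ⟨α, τ, h1, h2, h3, h4⟩ := classify_M hG hM (gen_F (x := x⁻¹) (by rw [h, inv_inv]) (by
      rw [inv_pow, ho, inv_one]))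
    rw [h] at h3
    exact ⟨α, τ, h1, h2, Or.inl h3, h4⟩
  · obtain ⟨α, τ, h1, h2, h3, h4⟩ := classify_M hG hM (gen_F h ho)
    rw [h] at h3
    exact ⟨α, τ, h1, h2, Or.inr h3, h4⟩

end Cfsg.Agent.H198.TriCls
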