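import Mathlib
import Cfsg.Prelude.Def_LieTypeDatum
import Cfsg.Agent.AutOrth.Final
import Cfsg.Agent.H198.OrthGamma

/-!
# The semisimilarity group of a quadratic form and `MulAut (POmega F Q)` (helper198)

`Q : QuadraticForm F (ι → F)`, `hG : Good Q` (any characteristic).

* `perm g σ` : the permutation `v ↦ g σ(v)`; `mem_Gam_iff : perm g σ ∈ Gam Q ↔ IsSemisimilarityPair Q g σ`;
  `exists_perm`;
* `Phi hG : Gam Q →* MulAut (POmega F Q)`; `Phi_mk`, `induced_iff`, `ker_Phi` (scalars), `surjective_odd`, ...;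
* `S hG : Sim Q →* MulAut (POmega F Q)`, `Sim Q = Geo.quadSimilarityGroup Q`; `pgoAut_eq`, `poAut_eq`,
  `psoAut_eq`, `inn_eq` : the subgroups of the Prelude are images under `S hG`; `ker_S` (scalars);
* `autSubgroupOf_eq` : a set of automorphisms `{S g | g ∈ H}` generates `H.map S`.
-/

set_option autoImplicit false

namespace Cfsg.Agent.H198.OrthFrame

open Matrix QuadraticMap Cfsg.Agent.H198.SemiMat Cfsg.Agent.LieClassical.OrthCore
  Cfsg.Agent.LieClassical.OrthTrans Cfsg.Agent.LieClassical.OrthFinite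
  Cfsg.Agent.ClassicalGeometry.OrthAut1 Cfsg.Agent.ClassicalGeometry.OrthSemi
  Cfsg.Agent.AutOrth.Main Cfsg.Agent.AutOrth.SemiSim

universe u

variable {ι : Type} [Fintype ι] [DecidableEq ι] {F : Type u} [Field F]

/-- The permutation `v ↦ g σ(v)`. -/
def perm (g : GL ι F) (σ : F ≃+* F) : Equiv.Perm (ι → F) where
  toFun v := (g : Matrix ι ι F) *ᵥ fun i => σ (v i)
  invFun v := fun i => σ.symm ((((g⁻¹ : GL ι F) : Matrix ι ι F) *ᵥ v) i)
  left_inv v := by
    funext i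
    change σ.symm ((((g⁻¹ : GL ι F) : Matrix ι ι F) *ᵥ
      ((g : Matrix ι ι F) *ᵥ fun i => σ (v i))) i) = v i
    rw [mulVec_mulVec, ← Units.val_mul, inv_mul_cancel, Units.val_one, one_mulVec,
      RingEquiv.symm_apply_apply]
  right_inv v := by
    simp only [RingEquiv.apply_symm_apply]
    rw [mulVec_mulVec, ← Units.val_mul, mul_inv_cancel, Units.val_one, one_mulVec]

theorem perm_apply (g : GL ι F) (σ : F ≃+* F) (v : ι → F) :
    perm g σ v = (g : Matrix ι ι F) *ᵥ fun i => σ (v i) := rfl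

theorem perm_add (g : GL ι F) (σ : F ≃+* F) (u v : ι → F) :
    perm g σ (u + v) = perm g σ u + perm g σ v := by
  rw [perm_apply, perm_apply, perm_apply, ← mulVec_add]
  congr 1
  funext i
  simp

theorem perm_smul (g : GL ι F) (σ : F ≃+* F) (a : F) (v : ι → F) :
    perm g σ (a • v) = σ a • perm g σ v := by
  rw [perm_apply, perm_apply, ← mulVec_smul]
  congr 1
  funext i
  simp

theorem perm_mul (g h : GL ι F) (σ τ : F ≃+* F) :
    perm g σ * perm h τ = perm (g * Units.map (σ.toRingHom.mapMatrix.toMonoidHom) h)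
      (τ.trans σ) := by
  ext1 v
  rw [Equiv.Perm.mul_apply, perm_apply, perm_apply, perm_apply, Units.val_mul, ← mulVec_mulVec]
  congr 1
  exact (map_mulVec σ (h : Matrix ι ι F) fun i => τ (v i)).symm

theorem perm_one : perm (1 : GL ι F) (RingEquiv.refl F) = 1 := by
  ext1 v
  rw [perm_apply, Units.val_one, one_mulVec]
  rfl

theorem perm_refl_mul (g h : GL ι F) :
    perm (g * h) (RingEquiv.refl F) = perm g (RingEquiv.refl F) * perm h (RingEquiv.refl F) := by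
  ext1 v
  rw [Equiv.Perm.mul_apply, perm_apply, perm_apply, perm_apply, Units.val_mul, ← mulVec_mulVec]
  rfl

theorem perm_refl_injective {g h : GL ι F}
    (H : perm g (RingEquiv.refl F) = perm h (RingEquiv.refl F)) : g = h := by
  apply Units.ext
  rw [← Matrix.mulVec_injective.eq_iff]
  funext v
  exact Equiv.congr_fun H v

theorem isSS_perm {Q : QuadraticForm F (ι → F)} {g : GL ι F} {σ : F ≃+* F} {c : F} (hc : c ≠ 0)
    (h : ∀ v : ι → F, Q ((g : Matrix ι ι F) *ᵥ fun i => σ (v i)) = c * σ (Q v)) :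
    IsSS Q σ c (perm g σ) :=
  ⟨hc, perm_add g σ, perm_smul g σ, h⟩

theorem mem_Gam_iff {Q : QuadraticForm F (ι → F)} {g : GL ι F} {σ : F ≃+* F} [Nonempty ι] :
    perm g σ ∈ Gam Q ↔ IsSemisimilarityPair (⇑Q) g σ := by
  constructor
  · rintro ⟨τ, c, h⟩
    have hτ : σ = τ := by
      ext a
      obtain ⟨i⟩ := ‹Nonempty ι›
      have h1 := h.smul a (Pi.single i 1)
      rw [perm_smul] at h1
      have h2 : (σ a - τ a) • perm g σ (Pi.single i 1) = 0 := by rw [sub_smul, h1, sub_self]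
      rcases smul_eq_zero.1 h2 with h3 | h3
      · exact sub_eq_zero.1 h3
      · exfalso
        rw [← h.map_zero] at h3
        have h4 := (perm g σ).injective h3
        have h5 := congrFun h4 i
        rw [Pi.single_eq_same] at h5
        exact one_ne_zero h5
    subst hτ
    exact ⟨Units.mk0 c h.ne, h.form⟩
  · rintro ⟨c, hc⟩
    exact ⟨σ, c, isSS_perm c.ne_zero hc⟩

theorem perm_mem_Gam {Q : QuadraticForm F (ι → F)} {g : GL ι F} {σ : F ≃+* F}
    (h : IsSemisimilarityPair (⇑Q) g σ) : perm g σ ∈ Gam Q := by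
  obtain ⟨c, hc⟩ := h
  exact ⟨σ, c, isSS_perm c.ne_zero hc⟩

/-- Every semisimilarity is `v ↦ g σ(v)`. -/
theorem exists_perm {Q : QuadraticForm F (ι → F)} {σ : F ≃+* F} {c : F} {M : Equiv.Perm (ι → F)}
    (h : IsSS Q σ c M) :
    ∃ g : GL ι F, M = perm g σ ∧ IsSemisimilarityPair (⇑Q) g σ ∧
      ∀ v : ι → F, Q ((g : Matrix ι ι F) *ᵥ fun i => σ (v i)) = c * σ (Q v) := by
  obtain ⟨g, hg⟩ := exists_gl σ M M.bijective h.add h.smul
  have h1 : ∀ v : ι → F, Q ((g : Matrix ι ι F) *ᵥ fun i => σ (v i)) = c * σ (Q v) := fun v => by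
    rw [← hg, h.form]
  exact ⟨g, Equiv.ext hg, ⟨Units.mk0 c h.ne, h1⟩, h1⟩

/-! ### The automorphism of `POmega` -/

/-- The automorphism of `POmega F Q` induced by a semisimilarity. -/
noncomputable def Phi {Q : QuadraticForm F (ι → F)} (hG : Good Q) :
    Gam Q →* MulAut (POmega F ⇑Q) :=
  (MulAut.congr (pe hG).symm).toMonoidHom.comp (Psi Q)

theorem Phi_apply {Q : QuadraticForm F (ι → F)} (hG : Good Q) (M : Gam Q)
    (x : POmega F ⇑Q) : Phi hG M x = (pe hG).symm (Psi Q M (pe hG x)) := rfl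

/-- `Phi M` maps the class of `s` to the class of `M s M⁻¹`. -/
theorem Phi_mk {Q : QuadraticForm F (ι → F)} (hG : Good Q) (M : Gam Q) {s s' : Omega F ⇑Q}
    (h : ∀ v : ι → F, (((s' : isometryGroup F ⇑Q) : GL ι F) : Matrix ι ι F) *ᵥ M.1 v =
      M.1 ((((s : isometryGroup F ⇑Q) : GL ι F) : Matrix ι ι F) *ᵥ v)) :
    Phi hG M (QuotientGroup.mk s) = QuotientGroup.mk s' := by
  rw [Phi_apply, MulEquiv.symm_apply_eq, pe_mk, pe_mk, Psi_mk]
  congr 1
  apply ext_E
  intro v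
  obtain ⟨v, rfl⟩ := M.1.surjective v
  rw [coe_conjE, conjLin_apply', oe_apply, oe_apply, h]

theorem exists_conj {Q : QuadraticForm F (ι → F)} (hG : Good Q) (M : Gam Q) (s : Omega F ⇑Q) :
    ∃ s' : Omega F ⇑Q, ∀ v : ι → F,
      (((s' : isometryGroup F ⇑Q) : GL ι F) : Matrix ι ι F) *ᵥ M.1 v =
      M.1 ((((s : isometryGroup F ⇑Q) : GL ι F) : Matrix ι ι F) *ᵥ v) := by
  obtain ⟨s', hs'⟩ := (oe hG).surjective (conjE Q M (oe hG s))
  refine ⟨s', fun v => ?_⟩
  rw [← oe_apply hG, hs', coe_conjE, conjLin_apply', oe_apply]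

/-- The Prelude predicate `IsInducedBySemilinearPOmega`. -/
theorem induced_iff {Q : QuadraticForm F (ι → F)} (hG : Good Q) {g : GL ι F} {σ : F ≃+* F}
    (h : IsSemisimilarityPair (⇑Q) g σ) (β : MulAut (POmega F ⇑Q)) :
    IsInducedBySemilinearPOmega (⇑Q) g σ β ↔ β = Phi hG ⟨perm g σ, perm_mem_Gam h⟩ := by
  constructor
  · intro hβ
    ext x
    obtain ⟨s, rfl⟩ := QuotientGroup.mk_surjective x
    obtain ⟨s', hs'⟩ := exists_conj hG ⟨perm g σ, perm_mem_Gam h⟩ s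
    rw [Phi_mk hG _ hs', hβ s s' (eq_conj hs')]
  · rintro rfl s s' hss
    exact Phi_mk hG _ (conj_mulVec hss)

theorem Phi_eq_one_iff {Q : QuadraticForm F (ι → F)} (hG : Good Q) (M : Gam Q) :
    Phi hG M = 1 ↔ ∃ a : F, a ≠ 0 ∧ ∀ v, M.1 v = a • v := by
  have h1 : Phi hG M = 1 ↔ Psi Q M = 1 := by
    constructor
    · intro h
      exact (MulAut.congr (pe hG).symm).injective (by rw [map_one]; exact h)
    · intro h
      change MulAut.congr (pe hG).symm (Psi Q M) = 1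
      rw [h, map_one]
  rw [h1, ← MonoidHom.mem_ker, ker_Psi hG, MonoidHom.mem_range]
  constructor
  · rintro ⟨a, rfl⟩
    exact ⟨a, a.ne_zero, fun v => rfl⟩
  · rintro ⟨a, ha, h⟩
    refine ⟨Units.mk0 a ha, ?_⟩
    apply Subtype.ext
    ext1 v
    exact (h v).symm

theorem Phi_surjective {Q : QuadraticForm F (ι → F)} (hG : Good Q)
    (h : Function.Surjective (Psi Q)) : Function.Surjective (Phi hG) :=
  (MulAut.congr (pe hG).symm).surjective.comp h

/-! ### Similarities -/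

/-- A short name for the group of similarities. -/
abbrev Sim (Q : QuadraticForm F (ι → F)) : Subgroup (GL ι F) :=
  Geo.quadSimilarityGroup (F := F) (⇑Q)

theorem pair_of_sim {Q : QuadraticForm F (ι → F)} {g : GL ι F} (h : g ∈ Sim Q) :
    IsSemisimilarityPair (⇑Q) g (RingEquiv.refl F) := h

/-- Similarities as semisimilarities. -/
def simGam (Q : QuadraticForm F (ι → F)) : Sim Q →* Gam Q where
  toFun g := ⟨perm g.1 (RingEquiv.refl F), perm_mem_Gam (pair_of_sim g.2)⟩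
  map_one' := Subtype.ext perm_one
  map_mul' g h := Subtype.ext (perm_refl_mul g.1 h.1)

theorem simGam_apply (Q : QuadraticForm F (ι → F)) (g : Sim Q) (v : ι → F) :
    (simGam Q g).1 v = ((g : GL ι F) : Matrix ι ι F) *ᵥ v := rfl

theorem simGam_injective (Q : QuadraticForm F (ι → F)) : Function.Injective (simGam Q) := by
  intro g h H
  exact Subtype.ext (perm_refl_injective (congrArg Subtype.val H))

/-- The automorphism of `POmega F Q` induced by a similarity. -/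
noncomputable def S {Q : QuadraticForm F (ι → F)} (hG : Good Q) : Sim Q →* MulAut (POmega F ⇑Q) :=
  (Phi hG).comp (simGam Q)

theorem induced_iff_S {Q : QuadraticForm F (ι → F)} (hG : Good Q) (g : Sim Q)
    (β : MulAut (POmega F ⇑Q)) :
    IsInducedBySemilinearPOmega (⇑Q) g.1 (RingEquiv.refl F) β ↔ β = S hG g :=
  induced_iff hG (pair_of_sim g.2) β

theorem S_eq_one_iff {Q : QuadraticForm F (ι → F)} (hG : Good Q) (g : Sim Q) :
    S hG g = 1 ↔ ∃ a : Fˣ, ((g : GL ι F) : Matrix ι ι F) = (a : F) • (1 : Matrix ι ι F) := by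
  change Phi hG (simGam Q g) = 1 ↔ _
  rw [Phi_eq_one_iff]
  constructor
  · rintro ⟨a, ha, h⟩
    refine ⟨Units.mk0 a ha, ?_⟩
    rw [← Matrix.mulVec_injective.eq_iff]
    funext v
    rw [Matrix.smul_mulVec, one_mulVec]
    exact h v
  · rintro ⟨a, h⟩
    refine ⟨a, a.ne_zero, fun v => ?_⟩
    rw [simGam_apply, h, Matrix.smul_mulVec, one_mulVec]

/-- A set of automorphisms which is the image of a subgroup generates the image. -/
theorem autSubgroupOf_eq {X G : Type*} [Group X] [Group G] (Ψ : G →* MulAut X) (H : Subgroup G)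
    {P : (X ≃* X) → Prop} (h : ∀ β : MulAut X, P β ↔ ∃ g ∈ H, β = Ψ g) :
    autSubgroupOf P = H.map Ψ := by
  apply le_antisymm
  · rw [autSubgroupOf, Subgroup.closure_le]
    intro β hβ
    obtain ⟨g, hg, rfl⟩ := (h β).1 hβ
    exact ⟨g, hg, rfl⟩
  · rintro _ ⟨g, hg, rfl⟩
    exact Subgroup.subset_closure ((h _).2 ⟨g, hg, rfl⟩)

theorem pgoAut_eq {Q : QuadraticForm F (ι → F)} (hG : Good Q) :
    pgoAut F (⇑Q) = (S hG).range := by
  rw [MonoidHom.range_eq_map]
  refine autSubgroupOf_eq (S hG) ⊤ fun β => ?_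
  constructor
  · rintro ⟨g, hg, h⟩
    exact ⟨⟨g, hg⟩, Subgroup.mem_top _, (induced_iff_S hG ⟨g, hg⟩ β).1 h⟩
  · rintro ⟨g, -, rfl⟩
    exact ⟨g.1, g.2, (induced_iff_S hG g _).2 rfl⟩

theorem iso_le_sim (Q : QuadraticForm F (ι → F)) : isometryGroup F (⇑Q) ≤ Sim Q := by
  intro g hg
  exact ⟨1, fun v => by rw [Units.val_one, one_mul]; exact hg v v⟩

theorem poAut_eq {Q : QuadraticForm F (ι → F)} (hG : Good Q) :
    poAut F (⇑Q) = ((isometryGroup F (⇑Q)).subgroupOf (Sim Q)).map (S hG) := by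
  refine autSubgroupOf_eq (S hG) _ fun β => ?_
  constructor
  · rintro ⟨g, hg, h⟩
    exact ⟨⟨g, iso_le_sim Q hg⟩, hg, (induced_iff_S hG ⟨g, iso_le_sim Q hg⟩ β).1 h⟩
  · rintro ⟨g, hg, rfl⟩
    exact ⟨g.1, hg, (induced_iff_S hG g _).2 rfl⟩

theorem psoAut_eq {Q : QuadraticForm F (ι → F)} (hG : Good Q) :
    psoAut F (⇑Q) = ((specialIsometryGL F (⇑Q)).subgroupOf (Sim Q)).map (S hG) := by
  refine autSubgroupOf_eq (S hG) _ fun β => ?_
  constructor
  · rintro ⟨g, hg, h⟩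
    exact ⟨⟨g, iso_le_sim Q hg.1⟩, hg, (induced_iff_S hG ⟨g, iso_le_sim Q hg.1⟩ β).1 h⟩
  · rintro ⟨g, hg, rfl⟩
    exact ⟨g.1, hg, (induced_iff_S hG g _).2 rfl⟩

/-- `Omega` as a subgroup of the general linear group. -/
def omGL (Q : QuadraticForm F (ι → F)) : Subgroup (GL ι F) :=
  (Omega F ⇑Q).map (isometryGroup F ⇑Q).subtype

theorem mem_omGL {Q : QuadraticForm F (ι → F)} {g : GL ι F} :
    g ∈ omGL Q ↔ ∃ h : g ∈ isometryGroup F ⇑Q, (⟨g, h⟩ : isometryGroup F ⇑Q) ∈ Omega F ⇑Q := by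
  constructor
  · rintro ⟨s, hs, rfl⟩
    exact ⟨s.2, hs⟩
  · rintro ⟨h, hs⟩
    exact ⟨_, hs, rfl⟩

theorem omGL_le_iso (Q : QuadraticForm F (ι → F)) : omGL Q ≤ isometryGroup F ⇑Q := by
  rintro _ ⟨s, -, rfl⟩
  exact s.2

/-- An element of `Omega` as a similarity. -/
def omSim (Q : QuadraticForm F (ι → F)) : Omega F ⇑Q →* Sim Q :=
  (Subgroup.inclusion (iso_le_sim Q)).comp (Omega F ⇑Q).subtype

theorem S_omSim {Q : QuadraticForm F (ι → F)} (hG : Good Q) (s : Omega F ⇑Q) :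
    S hG (omSim Q s) = MulAut.conj (QuotientGroup.mk s : POmega F ⇑Q) := by
  ext x
  obtain ⟨t, rfl⟩ := QuotientGroup.mk_surjective x
  rw [MulAut.conj_apply, ← QuotientGroup.mk_inv, ← QuotientGroup.mk_mul, ← QuotientGroup.mk_mul]
  apply Phi_mk
  intro v
  rw [simGam_apply, simGam_apply]
  change (((s * t * s⁻¹ : Omega F ⇑Q) : isometryGroup F ⇑Q) : GL ι F).1 *ᵥ
    (((s : isometryGroup F ⇑Q) : GL ι F).1 *ᵥ v) = ((s : isometryGroup F ⇑Q) : GL ι F).1 *ᵥ
    (((t : isometryGroup F ⇑Q) : GL ι F).1 *ᵥ v)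
  rw [mulVec_mulVec, mulVec_mulVec]
  congr 1
  have h1 : (((s * t * s⁻¹ * s : Omega F ⇑Q) : isometryGroup F ⇑Q) : GL ι F).1 =
      (((s * t : Omega F ⇑Q) : isometryGroup F ⇑Q) : GL ι F).1 := by
    rw [inv_mul_cancel_right]
  exact h1

theorem inn_eq {Q : QuadraticForm F (ι → F)} (hG : Good Q) :
    Inn (POmega F ⇑Q) = ((omGL Q).subgroupOf (Sim Q)).map (S hG) := by
  apply le_antisymm
  · rintro _ ⟨x, rfl⟩
    obtain ⟨s, rfl⟩ := QuotientGroup.mk_surjective x
    exact ⟨omSim Q s, ⟨s.1, s.2, rfl⟩, S_omSim hG s⟩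
  · rintro _ ⟨g, ⟨s, hs, hg⟩, rfl⟩
    refine ⟨QuotientGroup.mk (⟨s, hs⟩ : Omega F ⇑Q), ?_⟩
    rw [← S_omSim hG]
    congr 1
    apply Subtype.ext
    exact hg

end Cfsg.Agent.H198.OrthFrame
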