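import Mathlib
import Cfsg.Agent.ClassicalGeometry.TwoFamilies
import Cfsg.Agent.H198.OrthFrame

/-!
# The two classes of maximal totally singular subspaces and semisimilarities (helper198)

`Q` a quadratic form on `V`, any field. `Neutral Q m` : nondegenerate, `dim V = 2m`, there is a totally singular
subspace of dimension `m`; `Lag Q m U` : `U` is such a subspace.

* `par m U W = (-1) ^ (m - dim (U ∩ W))`, `par_mul` (cocycle);
* `kappa h : Gam Q →* ℤˣ` : `kappa_eq : par m (img M U) U = kappa h M` for all `U` with `Lag Q m U`;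
* `kappa_refl` : reflections have `kappa = -1`; `kappa_of_E` : `1` on `E Q`;
* `lag_iff` : maximal totally singular subspaces; `preserves_iff` :
  `PreservesSingularClasses Q g ↔ kappa h (simGam Q g) = 1`;
* `kappa_eq_det` : odd characteristic: `kappa g = det g` for isometries.
-/

set_option autoImplicit false

namespace Cfsg.Agent.H198.Classes

open Module QuadraticMap Cfsg.Agent.LieClassical.OrthCore Cfsg.Agent.LieClassical.OrthTrans
  Cfsg.Agent.ClassicalGeometry.OrthSemi

variable {F V : Type*} [Field F] [AddCommGroup V] [Module F V]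

/-- A totally singular subspace of dimension `m`. -/
def Lag (Q : QuadraticForm F V) (m : ℕ) (U : Submodule F V) : Prop :=
  finrank F U = m ∧ ∀ w ∈ U, Q w = 0

/-- Nondegenerate, of dimension `2m` and Witt index `m`. -/
structure Neutral (Q : QuadraticForm F V) (m : ℕ) : Prop where
  nondeg : Nondeg Q
  fd : FiniteDimensional F V
  dim : finrank F V = 2 * m
  ex : ∃ U : Submodule F V, Lag Q m U

variable {Q : QuadraticForm F V} {m : ℕ}

/-! ### The image of a subspace -/

/-- The image of a subspace under a semisimilarity. -/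
def img (M : Gam Q) (U : Submodule F V) : Submodule F V where
  carrier := M.1 '' U
  add_mem' := by
    rintro _ _ ⟨u, hu, rfl⟩ ⟨v, hv, rfl⟩
    exact ⟨u + v, U.add_mem hu hv, add_of_mem M.2 u v⟩
  zero_mem' := by
    obtain ⟨σ, c, hM⟩ := M.2
    exact ⟨0, U.zero_mem, hM.map_zero⟩
  smul_mem' := by
    rintro a _ ⟨u, hu, rfl⟩
    obtain ⟨σ, c, hM⟩ := M.2
    exact ⟨σ.symm a • u, U.smul_mem _ hu, by rw [hM.smul, RingEquiv.apply_symm_apply]⟩

theorem mem_img {M : Gam Q} {U : Submodule F V} {v : V} : v ∈ img M U ↔ ∃ u ∈ U, M.1 u = v :=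
  Iff.rfl

theorem apply_mem_img {M : Gam Q} {U : Submodule F V} {v : V} : M.1 v ∈ img M U ↔ v ∈ U := by
  rw [mem_img]
  constructor
  · rintro ⟨u, hu, h⟩
    rwa [← M.1.injective h]
  · intro h
    exact ⟨v, h, rfl⟩

theorem img_mul (M N : Gam Q) (U : Submodule F V) : img (M * N) U = img M (img N U) := by
  ext v
  rw [mem_img, mem_img]
  constructor
  · rintro ⟨u, hu, rfl⟩
    exact ⟨N.1 u, ⟨u, hu, rfl⟩, rfl⟩
  · rintro ⟨_, ⟨u, hu, rfl⟩, rfl⟩
    exact ⟨u, hu, rfl⟩

theorem img_one (U : Submodule F V) : img (1 : Gam Q) U = U := by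
  ext v
  rw [mem_img]
  constructor
  · rintro ⟨u, hu, rfl⟩
    exact hu
  · intro h
    exact ⟨v, h, rfl⟩

theorem img_inf (M : Gam Q) (U W : Submodule F V) : img M (U ⊓ W) = img M U ⊓ img M W := by
  ext v
  rw [Submodule.mem_inf, mem_img]
  constructor
  · rintro ⟨u, hu, rfl⟩
    exact ⟨⟨u, hu.1, rfl⟩, ⟨u, hu.2, rfl⟩⟩
  · rintro ⟨⟨u, hu, rfl⟩, hw⟩
    exact ⟨u, ⟨hu, apply_mem_img.1 hw⟩, rfl⟩

theorem finrank_img (M : Gam Q) (U : Submodule F V) : finrank F (img M U) = finrank F U := by
  obtain ⟨σ, c, hM⟩ := M.2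
  let j : U ≃+ img M U :=
    { toFun := fun u => ⟨M.1 u, u, u.2, rfl⟩
      invFun := fun v => ⟨M.1⁻¹ v, by
        obtain ⟨u, hu, h⟩ := v.2
        rw [← h, inv_apply]
        exact hu⟩
      left_inv := fun u => Subtype.ext (inv_apply M.1 u)
      right_inv := fun v => Subtype.ext (apply_inv M.1 v)
      map_add' := fun u v => Subtype.ext (hM.add u v) }
  have h := rank_eq_of_equiv_equiv (R := F) (R' := F) σ j σ.bijective
    (fun r u => Subtype.ext (hM.smul r u))
  rw [finrank, finrank, h]

theorem lag_img (M : Gam Q) {U : Submodule F V} (hU : Lag Q m U) : Lag Q m (img M U) := by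
  refine ⟨(finrank_img M U).trans hU.1, ?_⟩
  rintro _ ⟨u, hu, rfl⟩
  obtain ⟨σ, c, hM⟩ := M.2
  rw [hM.form, hU.2 u hu, map_zero, mul_zero]

/-! ### The parity -/

/-- The relative parity of two subspaces. -/
noncomputable def par (m : ℕ) (U W : Submodule F V) : ℤˣ := (-1) ^ (m - finrank F ↥(U ⊓ W))

theorem par_comm (U W : Submodule F V) : par m U W = par m W U := by
  rw [par, par, inf_comm]

theorem par_self {U : Submodule F V} (hU : Lag Q m U) : par m U U = 1 := by
  rw [par, inf_idem, hU.1, Nat.sub_self, pow_zero]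

theorem par_img (M : Gam Q) (U W : Submodule F V) : par m (img M U) (img M W) = par m U W := by
  rw [par, par, ← img_inf, finrank_img]

theorem polarBilin_nondegenerate (hQ : Nondeg Q) : (polarBilin Q).Nondegenerate := by
  refine ⟨fun x hx => hQ x hx, fun x hx => hQ x fun y => ?_⟩
  rw [polar_comm]
  exact hx y

theorem par_mul (h : Neutral Q m) {U W X : Submodule F V} (hU : Lag Q m U) (hW : Lag Q m W)
    (hX : Lag Q m X) : par m U W * par m W X = par m U X := by
  have := h.fd
  have h1 := ClassicalGeometry.TwoFamilies.even_intersections (polarBilin Q) Q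
    (fun u w => QuadraticMap.map_add Q u w) (polarBilin_nondegenerate h.nondeg)
    (fun x y hxy => by
      change polar Q y x = 0
      rw [polar_comm]
      exact hxy) m h.dim U W X hU.1 hW.1 hX.1 hU.2 hW.2 hX.2
  have h2 : finrank F ↥(U ⊓ W) ≤ m := (Submodule.finrank_mono inf_le_left).trans hU.1.le
  have h3 : finrank F ↥(W ⊓ X) ≤ m := (Submodule.finrank_mono inf_le_left).trans hW.1.le
  have h4 : finrank F ↥(U ⊓ X) ≤ m := (Submodule.finrank_mono inf_le_left).trans hU.1.le
  rw [par, par, par, ← pow_add]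
  have h5 : ((-1 : ℤˣ)) ^ (m - finrank F ↥(U ⊓ W) + (m - finrank F ↥(W ⊓ X)) +
      (m - finrank F ↥(U ⊓ X))) = 1 := by
    apply Even.neg_one_pow
    rw [Nat.even_iff] at h1 ⊢
    omega
  rw [pow_add _ _ (m - finrank F ↥(U ⊓ X))] at h5
  have h6 := eq_inv_of_mul_eq_one_left h5
  rw [h6, Int.units_inv_eq_self]

theorem par_sq {U W : Submodule F V} : par m U W * par m U W = 1 := Int.units_mul_self _

/-- A fixed totally singular subspace of dimension `m`. -/
noncomputable def base (h : Neutral Q m) : Submodule F V := Classical.choose h.ex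

theorem lag_base (h : Neutral Q m) : Lag Q m (base h) := Classical.choose_spec h.ex

/-- The action of the semisimilarities on the two classes. -/
noncomputable def kappa (h : Neutral Q m) : Gam Q →* ℤˣ where
  toFun M := par m (img M (base h)) (base h)
  map_one' := by rw [img_one, par_self (lag_base h)]
  map_mul' M N := by
    have hb := lag_base h
    rw [img_mul, ← par_mul h (lag_img M (lag_img N hb)) (lag_img M hb) hb, par_img, mul_comm]

theorem kappa_apply (h : Neutral Q m) (M : Gam Q) :
    kappa h M = par m (img M (base h)) (base h) := rfl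

theorem kappa_eq (h : Neutral Q m) (M : Gam Q) {U : Submodule F V} (hU : Lag Q m U) :
    par m (img M U) U = kappa h M := by
  have hb := lag_base h
  rw [kappa_apply, ← par_mul h (lag_img M hU) (lag_img M hb) hU, par_img,
    ← par_mul h (lag_img M hb) hb hU, ← mul_assoc, mul_comm (par m U (base h)), mul_assoc,
    par_comm U, par_sq, mul_one]

/-! ### Maximal totally singular subspaces -/

theorem polar_of_ts {U : Submodule F V} (hU : ∀ w ∈ U, Q w = 0) {u w : V} (hu : u ∈ U)
    (hw : w ∈ U) : polar Q u w = 0 := by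
  rw [polar, hU _ (U.add_mem hu hw), hU u hu, hU w hw, sub_zero, sub_zero]

/-- The orthogonal space of `U`. -/
def orth (Q : QuadraticForm F V) (U : Submodule F V) : Submodule F V :=
  LinearMap.BilinForm.orthogonal (polarBilin Q) U

theorem mem_orth {U : Submodule F V} {v : V} : v ∈ orth Q U ↔ ∀ u ∈ U, polar Q u v = 0 := Iff.rfl

theorem finrank_orth (h : Neutral Q m) (U : Submodule F V) :
    finrank F (orth Q U) = 2 * m - finrank F U := by
  have := h.fd
  rw [orth, LinearMap.BilinForm.finrank_orthogonal (polarBilin_nondegenerate h.nondeg), h.dim]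

theorem le_orth_of_ts {U : Submodule F V} (hU : ∀ w ∈ U, Q w = 0) : U ≤ orth Q U :=
  fun _ hw => mem_orth.2 fun _ hu => polar_of_ts hU hu hw

theorem finrank_le_of_ts (h : Neutral Q m) {U : Submodule F V} (hU : ∀ w ∈ U, Q w = 0) :
    finrank F U ≤ m := by
  have := h.fd
  have h1 := Submodule.finrank_mono (le_orth_of_ts hU)
  rw [finrank_orth h] at h1
  omega

theorem orth_of_lag (h : Neutral Q m) {U : Submodule F V} (hU : Lag Q m U) : orth Q U = U := by
  have := h.fd
  symm
  apply Submodule.eq_of_le_of_finrank_eq (le_orth_of_ts hU.2)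
  rw [finrank_orth h, hU.1]
  omega

/-- A vector orthogonal to a totally singular subspace of dimension `m` is in it. -/
theorem mem_of_orth (h : Neutral Q m) {U : Submodule F V} (hU : Lag Q m U) {v : V}
    (hv : ∀ u ∈ U, polar Q u v = 0) : v ∈ U := by
  rw [← orth_of_lag h hU]
  exact mem_orth.2 hv

theorem max_of_lag (h : Neutral Q m) {U W : Submodule F V} (hU : Lag Q m U)
    (hW : ∀ w ∈ W, Q w = 0) (hUW : U ≤ W) : W = U := by
  have := h.fd
  exact (Submodule.eq_of_le_of_finrank_le hUW (by
    rw [hU.1]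
    exact finrank_le_of_ts h hW)).symm

theorem lag_of_max (h : Neutral Q m) {U : Submodule F V} (hU : ∀ w ∈ U, Q w = 0)
    (hmax : ∀ W : Submodule F V, (∀ w ∈ W, Q w = 0) → U ≤ W → W = U) : Lag Q m U := by
  have := h.fd
  refine ⟨?_, hU⟩
  have hb := lag_base h
  set B := base h with hB
  -- `U + (U^⊥ ∩ B)` is totally singular
  have h1 : ∀ w ∈ U ⊔ (orth Q U ⊓ B), Q w = 0 := by
    intro w hw
    obtain ⟨u, hu, b, hb', rfl⟩ := Submodule.mem_sup.1 hw
    rw [Q_add, hU u hu, hb.2 b hb'.2, mem_orth.1 hb'.1 u hu]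
    ring
  have h2 : orth Q U ⊓ B ≤ U := by
    have h3 := hmax _ h1 le_sup_left
    exact le_sup_right.trans h3.le
  have h4 : orth Q U ⊓ B = U ⊓ B := by
    apply le_antisymm
    · exact le_inf h2 inf_le_right
    · exact inf_le_inf_right B (le_orth_of_ts hU)
  -- `(U + B)^⊥ = U^⊥ ∩ B`
  have h5 : orth Q (U ⊔ B) = orth Q U ⊓ B := by
    ext v
    rw [Submodule.mem_inf, mem_orth]
    constructor
    · intro hv
      exact ⟨mem_orth.2 fun u hu => hv u (Submodule.mem_sup_left hu),
        mem_of_orth h hb fun u hu => hv u (Submodule.mem_sup_right hu)⟩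
    · rintro ⟨hv1, hv2⟩ x hx
      obtain ⟨u, hu, b, hb', rfl⟩ := Submodule.mem_sup.1 hx
      rw [polar_add_left, mem_orth.1 hv1 u hu, polar_of_ts hb.2 hb' hv2, add_zero]
  have h6 := finrank_orth h (U ⊔ B)
  rw [h5, h4] at h6
  have h7 := Submodule.finrank_sup_add_finrank_inf_eq U B
  have h8 : finrank F ↥(U ⊓ B) ≤ finrank F U := Submodule.finrank_mono inf_le_left
  have h9 : finrank F U ≤ m := finrank_le_of_ts h hU
  rw [hb.1] at h7
  omega

/-! ### Reflections -/

/-- A linear isometry as a semisimilarity. -/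
theorem mem_Gam_of_O {g : V ≃ₗ[F] V} (hg : g ∈ O Q) : (g.toEquiv : Equiv.Perm V) ∈ Gam Q :=
  ⟨RingEquiv.refl F, 1, one_ne_zero, fun u v => map_add g u v, fun a v => map_smul g a v,
    fun v => by rw [one_mul]; exact mem_O.1 hg v⟩

/-- Isometries as semisimilarities. -/
def gamO (Q : QuadraticForm F V) : O Q →* Gam Q where
  toFun g := ⟨g.1.toEquiv, mem_Gam_of_O g.2⟩
  map_one' := rfl
  map_mul' _ _ := rfl

theorem gamO_apply (g : O Q) (v : V) : (gamO Q g).1 v = g.1 v := rfl

theorem kappa_refl (h : Neutral Q m) {v : V} (hv : Q v ≠ 0) :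
    kappa h (gamO Q ⟨refl Q v hv, refl_mem_O hv⟩) = -1 := by
  have := h.fd
  set r : Gam Q := gamO Q ⟨refl Q v hv, refl_mem_O hv⟩ with hr
  have hb := lag_base h
  set B := base h with hB
  have happ : ∀ x, r.1 x = x - ((Q v)⁻¹ * polar Q v x) • v := fun x => refl_apply hv x
  have hvB : v ∉ B := fun hvB => hv (hb.2 v hvB)
  -- `B ∩ r B = B ∩ v^⊥`
  have h1 : img r B ⊓ B = B ⊓ LinearMap.ker (polarBilin Q v) := by
    ext x
    rw [Submodule.mem_inf, Submodule.mem_inf, LinearMap.mem_ker, polarBilin_apply_apply]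
    constructor
    · rintro ⟨⟨u, hu, rfl⟩, hx⟩
      refine ⟨hx, ?_⟩
      rw [happ] at hx ⊢
      have h2 : ((Q v)⁻¹ * polar Q v u) • v ∈ B := by
        have := B.sub_mem hu hx
        rwa [sub_sub_cancel] at this
      have h3 : (Q v)⁻¹ * polar Q v u = 0 := by
        by_contra h0
        apply hvB
        have := B.smul_mem ((Q v)⁻¹ * polar Q v u)⁻¹ h2
        rwa [smul_smul, inv_mul_cancel₀ h0, one_smul] at this
      have h4 : polar Q v u = 0 := by
        rcases mul_eq_zero.1 h3 with h5 | h5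
        · exact absurd h5 (inv_ne_zero hv)
        · exact h5
      rw [h3, zero_smul, sub_zero, h4]
    · rintro ⟨hx, hx0⟩
      refine ⟨⟨x, hx, ?_⟩, hx⟩
      rw [happ, hx0, mul_zero, zero_smul, sub_zero]
  -- its dimension is `m - 1`
  obtain ⟨u, hu, huv⟩ : ∃ u ∈ B, polar Q v u ≠ 0 := by
    by_contra hcon
    push Not at hcon
    exact hvB (mem_of_orth h hb fun u hu => by rw [polar_comm]; exact hcon u hu)
  have h2 : finrank F ↥(B ⊓ LinearMap.ker (polarBilin Q v)) + 1 = m := by
    have h3 := LinearMap.finrank_range_add_finrank_ker ((polarBilin Q v).domRestrict B)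
    have h4 : finrank F (LinearMap.range ((polarBilin Q v).domRestrict B)) = 1 := by
      have h5 : LinearMap.range ((polarBilin Q v).domRestrict B) = ⊤ := by
        apply LinearMap.range_eq_top.2
        apply LinearMap.surjective
        intro h0
        exact huv (LinearMap.congr_fun h0 ⟨u, hu⟩)
      rw [h5, finrank_top, finrank_self]
    have h6 : finrank F (LinearMap.ker ((polarBilin Q v).domRestrict B)) =
        finrank F ↥(B ⊓ LinearMap.ker (polarBilin Q v)) := by
      have h7 : (LinearMap.ker ((polarBilin Q v).domRestrict B)).map B.subtype =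
          B ⊓ LinearMap.ker (polarBilin Q v) := by
        ext x
        rw [Submodule.mem_map, Submodule.mem_inf]
        constructor
        · rintro ⟨y, hy, rfl⟩
          exact ⟨y.2, hy⟩
        · rintro ⟨hx, hx0⟩
          exact ⟨⟨x, hx⟩, hx0, rfl⟩
      rw [← h7]
      exact (Submodule.finrank_map_subtype_eq _ _).symm
    rw [h4, h6, hb.1] at h3
    omega
  rw [← kappa_eq h r hb, par, h1]
  have h3 : m - finrank F ↥(B ⊓ LinearMap.ker (polarBilin Q v)) = 1 := by omega
  rw [h3, pow_one]

/-- `kappa` is trivial on `E Q`. -/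
theorem kappa_of_E (hG : Good Q) (h : Neutral Q m) {g : V ≃ₗ[F] V} (hg : g ∈ E Q) :
    kappa h (gamO Q ⟨g, E_le_O hg⟩) = 1 := by
  let f : E Q →* ℤˣ := ((kappa h).comp (gamO Q)).comp (Subgroup.inclusion E_le_O)
  have h1 : ∀ x : E Q, f x = 1 := by
    intro x
    have h2 : x ∈ commutator (E Q) := by rw [commutator_E hG]; exact Subgroup.mem_top x
    have h3 : commutator (E Q) ≤ f.ker := Abelianization.commutator_subset_ker f
    exact h3 h2
  exact h1 ⟨g, hg⟩

section Coord

variable {ι : Type} [Fintype ι] [DecidableEq ι] {Q : QuadraticForm F (ι → F)}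

open OrthFrame

omit [Fintype ι] [DecidableEq ι] in
theorem lag_iff (h : Neutral Q m) {U : Submodule F (ι → F)} :
    IsMaxTotallySingular (⇑Q) U ↔ Lag Q m U := by
  constructor
  · rintro ⟨h1, h2⟩
    exact lag_of_max h h1 h2
  · intro hU
    exact ⟨hU.2, fun W hW hUW => max_of_lag h hU hW hUW⟩

theorem imageSubmodule_eq (g : Sim Q) (U : Submodule F (ι → F)) :
    imageSubmodule ((g : GL ι F) : Matrix ι ι F) U = img (simGam Q g) U := by
  ext v
  rw [mem_img]
  rfl

omit [Fintype ι] [DecidableEq ι] in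
theorem sameParity_iff {U W : Submodule F (ι → F)} (hU : Lag Q m U) :
    SameParityClass U W ↔ par m U W = 1 := by
  rw [SameParityClass, hU.1, par]
  constructor
  · intro h1
    exact h1.neg_one_pow
  · intro h1
    by_contra h2
    rw [Nat.not_even_iff_odd] at h2
    rw [h2.neg_one_pow] at h1
    exact absurd h1 (by decide)

/-- A similarity preserves the two classes iff its `kappa` is one. -/
theorem preserves_iff (h : Neutral Q m) (g : Sim Q) :
    PreservesSingularClasses (⇑Q) ((g : GL ι F) : Matrix ι ι F) ↔ kappa h (simGam Q g) = 1 := by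
  constructor
  · intro h1
    have hb := lag_base h
    rw [← kappa_eq h _ hb, par_comm, ← imageSubmodule_eq, ← sameParity_iff hb]
    exact h1 _ ((lag_iff h).2 hb)
  · intro h1 U hU
    have hU' := (lag_iff h).1 hU
    rw [imageSubmodule_eq, sameParity_iff hU', par_comm, kappa_eq h _ hU', h1]

end Coord

end Cfsg.Agent.H198.Classes
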