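import Mathlib
import Cfsg.Agent.H198.ClassesPlus

/-!
# The standard forms with definitional coercions; inner-diagonal groups of `Ω_{2m+1}`, `PΩ⁺_{2m}` (helper198)

* `plusQ m F`, `minusQ m F a b`, `oddQ m F` : quadratic forms whose coercions are *definitionally*
  `quadFormPlus m F`, `quadFormMinus m F a b`, `quadFormOdd m F`; so `POmega F ⇑(plusQ m F)` is
  `POmega F (quadFormPlus m F)` by `rfl`;
* `good_plusQ`, `good_minusQ`, `good_oddQ`; `neutral_plusQ`;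
* `surj_plusQ`, `surj_minusQ`, `surj_oddQ` : `Phi` is onto;
* `preserves_plus_iff`, `preserves_plus_iff_det`, `simPlus`, `isInnerDiag_plus_iff`, `inndiag_plus_eq`,
  `inndiag_odd_eq`.
-/

set_option autoImplicit false

namespace Cfsg.Agent.H198.Carriers

open Module Matrix QuadraticMap Cfsg.Agent.LieClassical.OrthCore Cfsg.Agent.LieClassical.OrthTrans
  Cfsg.Agent.ClassicalGeometry.OrthSemi Cfsg.Agent.H198.Classes Cfsg.Agent.H198.OrthFrame
  Cfsg.Agent.LieClassical.QuadForms Cfsg.Agent.H198.ClassesPlus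

universe u

/-- `Σ xᵢ yᵢ`. -/
def plusQ (m : ℕ) (F : Type*) [Field F] : QuadraticForm F (Fin m ⊕ Fin m → F) :=
  (plusForm m F).copy (quadFormPlus m F) (coe_plusForm m).symm

/-- `Σ xᵢ yᵢ + z₁² + a z₁ z₂ + b z₂²`. -/
def minusQ (m : ℕ) (F : Type*) [Field F] (a b : F) :
    QuadraticForm F ((Fin m ⊕ Fin m) ⊕ Fin 2 → F) :=
  (minusForm m F a b).copy (quadFormMinus m F a b) (coe_minusForm m a b).symm

/-- `x₀² + Σ xᵢ yᵢ`. -/
def oddQ (m : ℕ) (F : Type*) [Field F] : QuadraticForm F (Unit ⊕ (Fin m ⊕ Fin m) → F) :=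
  (oddForm m F).copy (quadFormOdd m F) (coe_oddForm m).symm

theorem plusQ_eq (m : ℕ) (F : Type*) [Field F] : plusQ m F = plusForm m F :=
  QuadraticMap.copy_eq _ _ _

theorem minusQ_eq (m : ℕ) (F : Type*) [Field F] (a b : F) : minusQ m F a b = minusForm m F a b :=
  QuadraticMap.copy_eq _ _ _

theorem oddQ_eq (m : ℕ) (F : Type*) [Field F] : oddQ m F = oddForm m F :=
  QuadraticMap.copy_eq _ _ _

theorem coe_plusQ (m : ℕ) (F : Type*) [Field F] : ⇑(plusQ m F) = quadFormPlus m F := rfl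

theorem coe_minusQ (m : ℕ) (F : Type*) [Field F] (a b : F) :
    ⇑(minusQ m F a b) = quadFormMinus m F a b := rfl

theorem coe_oddQ (m : ℕ) (F : Type*) [Field F] : ⇑(oddQ m F) = quadFormOdd m F := rfl

variable {F : Type u} [Field F]

theorem good_plusQ [Finite F] {m : ℕ} (hm : 3 ≤ m) : Good (plusQ m F) := by
  rw [plusQ_eq]
  exact AutOrth.Main.good_plus hm

theorem good_minusQ [Finite F] {m : ℕ} (hm : 2 ≤ m) {a b : F}
    (hab : ∀ z₁ z₂ : F, z₁ ^ 2 + a * z₁ * z₂ + b * z₂ ^ 2 = 0 → z₁ = 0 ∧ z₂ = 0) :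
    Good (minusQ m F a b) := by
  rw [minusQ_eq]
  exact AutOrth.Main.good_minus hm hab

theorem good_oddQ [Finite F] {m : ℕ} (hm : 2 ≤ m) (h2 : (2 : F) ≠ 0) : Good (oddQ m F) := by
  rw [oddQ_eq]
  exact AutOrth.Main.good_odd hm h2

theorem neutral_plusQ (m : ℕ) (F : Type*) [Field F] : Neutral (plusQ m F) m := by
  rw [plusQ_eq]
  exact neutral_plus m F

theorem surj_plusQ [Finite F] {m : ℕ} (hm : 5 ≤ m) :
    Function.Surjective (Phi (good_plusQ (F := F) (m := m) (by omega))) := by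
  apply Phi_surjective
  rw [plusQ_eq, ← AutOrth.Main.plusForm_eq]
  exact AutOrth.Final.surjective_plus hm

theorem surj_minusQ [Finite F] {m : ℕ} (hm : 3 ≤ m) {a b : F}
    (hab : ∀ z₁ z₂ : F, z₁ ^ 2 + a * z₁ * z₂ + b * z₂ ^ 2 = 0 → z₁ = 0 ∧ z₂ = 0) :
    Function.Surjective (Phi (good_minusQ (m := m) (by omega) hab)) := by
  apply Phi_surjective
  rw [minusQ_eq, ← AutOrth.Main.minusForm_eq]
  exact AutOrth.Final.surjective_minus hm hab

theorem surj_oddQ [Finite F] {m : ℕ} (hm : 3 ≤ m) (h2 : (2 : F) ≠ 0) :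
    Function.Surjective (Phi (good_oddQ (F := F) (m := m) (by omega) h2)) := by
  apply Phi_surjective
  rw [oddQ_eq, ← AutOrth.Main.oddForm_eq]
  exact AutOrth.Final.surjective_odd hm h2

/-! ### The plus form -/

theorem exists_std_plusQ {m : ℕ} (hG : Good (plusQ m F)) (c : Fˣ) :
    ∃ k : Sim (plusQ m F), mu hG k = c ∧ dt k = c ^ m ∧
      kappa (neutral_plusQ m F) (simGam _ k) = 1 := by
  have key : ∀ (Q : QuadraticForm F (Fin m ⊕ Fin m → F)) (hQ : Q = plusForm m F) (hG : Good Q)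
      (hN : Neutral Q m), ∃ k : Sim Q, mu hG k = c ∧ dt k = c ^ m ∧
      kappa hN (simGam _ k) = 1 := by
    rintro Q rfl hG hN
    exact exists_std_plus hG c
  exact key _ (plusQ_eq m F) hG (neutral_plusQ m F)

theorem sgn_kappa_plusQ {m : ℕ} (hG : Good (plusQ m F)) (g : Sim (plusQ m F)) :
    sgn F (kappa (neutral_plusQ m F) (simGam _ g)) * mu hG g ^ m = dt g :=
  sgn_kappa_mul hG (neutral_plusQ m F) (exists_std_plusQ hG) g

theorem kappa_plusQ_iff {m : ℕ} (hG : Good (plusQ m F)) (h2 : (2 : F) ≠ 0) (g : Sim (plusQ m F)) :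
    kappa (neutral_plusQ m F) (simGam _ g) = 1 ↔ dt g = mu hG g ^ m := by
  rw [← sgn_kappa_plusQ hG g, mul_eq_right, sgn_eq_one_iff h2]

theorem preserves_plus_iff {m : ℕ} (g : Sim (plusQ m F)) :
    PreservesSingularClasses (quadFormPlus m F) ((g : GL (Fin m ⊕ Fin m) F) : Matrix _ _ F) ↔
      kappa (neutral_plusQ m F) (simGam _ g) = 1 :=
  preserves_iff (neutral_plusQ m F) g

theorem preserves_plus_iff_det {m : ℕ} (hG : Good (plusQ m F)) (h2 : (2 : F) ≠ 0)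
    (g : Sim (plusQ m F)) :
    PreservesSingularClasses (quadFormPlus m F) ((g : GL (Fin m ⊕ Fin m) F) : Matrix _ _ F) ↔
      dt g = mu hG g ^ m := by
  rw [preserves_plus_iff, kappa_plusQ_iff hG h2]

/-- The similarities of `Σ xᵢ yᵢ` preserving the two classes. -/
noncomputable def simPlus (m : ℕ) (F : Type u) [Field F] : Subgroup (Sim (plusQ m F)) :=
  ((kappa (neutral_plusQ m F)).comp (simGam _)).ker

theorem mem_simPlus {m : ℕ} {g : Sim (plusQ m F)} :
    g ∈ simPlus m F ↔ kappa (neutral_plusQ m F) (simGam _ g) = 1 := Iff.rfl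

theorem isInnerDiag_plus_iff {m : ℕ} (hG : Good (plusQ m F))
    (β : MulAut (POmega F (quadFormPlus m F))) :
    IsInnerDiagonalAutPOmegaPlus m β ↔ ∃ g ∈ simPlus m F, β = S hG g := by
  constructor
  · rintro ⟨g, hg, h1, h2⟩
    refine ⟨⟨g, hg⟩, ?_, (induced_iff_S hG ⟨g, hg⟩ β).1 h2⟩
    exact (preserves_plus_iff ⟨g, hg⟩).1 h1
  · rintro ⟨g, hg, rfl⟩
    exact ⟨g.1, g.2, (preserves_plus_iff g).2 hg, (induced_iff_S hG g _).2 rfl⟩

/-- `Inndiag(PΩ⁺_{2m}(F))`. -/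
theorem inndiag_plus_eq {m : ℕ} (hG : Good (plusQ m F)) :
    inndiagPOmegaPlus m F = (simPlus m F).map (S hG) :=
  autSubgroupOf_eq (S hG) _ fun β => isInnerDiag_plus_iff hG β

/-- `Inndiag(Ω_{2m+1}(F))`. -/
theorem inndiag_odd_eq {m : ℕ} (hG : Good (oddQ m F)) :
    inndiagPOmegaOdd m F = (S hG).range :=
  pgoAut_eq hG

theorem isInnerDiag_odd_iff {m : ℕ} (hG : Good (oddQ m F))
    (β : MulAut (POmega F (quadFormOdd m F))) :
    IsInnerDiagonalAutPOmegaOdd m β ↔ ∃ g, β = S hG g := by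
  constructor
  · rintro ⟨g, hg, h⟩
    exact ⟨⟨g, hg⟩, (induced_iff_S hG ⟨g, hg⟩ β).1 h⟩
  · rintro ⟨g, rfl⟩
    exact ⟨g.1, g.2, (induced_iff_S hG g _).2 rfl⟩

/-! ### Linear semisimilarities are normal -/

section Normal

variable {ι : Type} [Fintype ι] [DecidableEq ι] {Q : QuadraticForm F (ι → F)}

/-- A semisimilarity with trivial field automorphism is a similarity. -/
theorem exists_sim_of_refl {M : Gam Q} {c : F} (h : IsSS Q (RingEquiv.refl F) c M.1) :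
    ∃ g : Sim Q, simGam Q g = M := by
  obtain ⟨g, hg, hp, -⟩ := exists_perm h
  exact ⟨⟨g, hp⟩, Subtype.ext hg.symm⟩

theorem conj_simGam (M : Gam Q) (g : Sim Q) : ∃ k : Sim Q, simGam Q k = M * simGam Q g * M⁻¹ := by
  obtain ⟨σ, c, hM⟩ := M.2
  obtain ⟨d, hd⟩ := g.2
  have hg : IsSS Q (RingEquiv.refl F) d (simGam Q g).1 := isSS_perm d.ne_zero hd
  have h1 := (hM.mul hg).mul hM.inv
  have h2 : σ.symm.trans ((RingEquiv.refl F).trans σ) = RingEquiv.refl F := by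
    ext x
    simp
  rw [h2] at h1
  exact exists_sim_of_refl (M := M * simGam Q g * M⁻¹) h1

/-- The image of the class-preserving similarities is normal in the image of `Phi`. -/
theorem conj_mem_map_kappa {m : ℕ} (hG : Good Q) (h : Neutral Q m) (M : Gam Q)
    {β : MulAut (POmega F ⇑Q)}
    (hβ : β ∈ (((kappa h).comp (simGam Q)).ker).map (S hG)) :
    Phi hG M * β * (Phi hG M)⁻¹ ∈ (((kappa h).comp (simGam Q)).ker).map (S hG) := by
  obtain ⟨g, hg, rfl⟩ := hβ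
  obtain ⟨k, hk⟩ := conj_simGam M g
  refine ⟨k, ?_, ?_⟩
  · rw [SetLike.mem_coe, MonoidHom.mem_ker, MonoidHom.comp_apply, hk, map_mul, map_mul, map_inv]
    rw [SetLike.mem_coe, MonoidHom.mem_ker, MonoidHom.comp_apply] at hg
    rw [hg, mul_one, mul_inv_cancel]
  · change Phi hG (simGam Q k) = _
    rw [hk, map_mul, map_mul, map_inv]
    rfl

theorem conj_mem_range_S (hG : Good Q) (M : Gam Q) {β : MulAut (POmega F ⇑Q)}
    (hβ : β ∈ (S hG).range) : Phi hG M * β * (Phi hG M)⁻¹ ∈ (S hG).range := by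
  obtain ⟨g, rfl⟩ := hβ
  obtain ⟨k, hk⟩ := conj_simGam M g
  refine ⟨k, ?_⟩
  change Phi hG (simGam Q k) = _
  rw [hk, map_mul, map_mul, map_inv]
  rfl

end Normal

/-- `Inndiag(PΩ⁺_{2m}(F))` is normal in `Aut`, `m ≥ 5`. -/
theorem inndiag_plus_normal [Finite F] {m : ℕ} (hm : 5 ≤ m) : (inndiagPOmegaPlus m F).Normal := by
  have hG := good_plusQ (F := F) (m := m) (by omega)
  refine ⟨fun β hβ α => ?_⟩
  obtain ⟨M, rfl⟩ := surj_plusQ hm α
  rw [inndiag_plus_eq hG] at hβ ⊢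
  exact conj_mem_map_kappa hG (neutral_plusQ m F) M hβ

/-- `Inndiag(Ω_{2m+1}(F))` is normal in `Aut`, `m ≥ 3`. -/
theorem inndiag_odd_normal [Finite F] {m : ℕ} (hm : 3 ≤ m) (h2 : (2 : F) ≠ 0) :
    (inndiagPOmegaOdd m F).Normal := by
  have hG := good_oddQ (F := F) (m := m) (by omega) h2
  refine ⟨fun β hβ α => ?_⟩
  obtain ⟨M, rfl⟩ := surj_oddQ hm h2 α
  rw [inndiag_odd_eq hG] at hβ ⊢
  exact conj_mem_range_S hG M hβ

end Cfsg.Agent.H198.Carriers
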