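import Cfsg.Agent.H206.Balance

/-!
# A criterion for `O_{p'}(C_A(x)) = 1` (helper198)

`Bal p x` : the fixed points of `x` have no nontrivial normal `p'`-subgroup, and an automorphism which commutes with `x`
and is trivial on the fixed points of `x` is a power of `x`.

`Bal.core_eq_bot` : then `O_{p'}(C_A(x)) = 1`; `Bal.conj`, `Bal.inv`.
-/

set_option autoImplicit false

namespace Cfsg.Agent.H198.BalVar

open Cfsg Cfsg.Agent.H206.Balance

variable {K : Type*} [Group K]

/-- See the module docstring. -/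
structure Bal (p : ℕ) (x : MulAut K) : Prop where
  core : ∀ M : Subgroup K, M ≤ Fx x → (∀ c ∈ Fx x, ∀ a ∈ M, c * a * c⁻¹ ∈ M) → (Nat.card M).Coprime p → M = ⊥
  cent : ∀ y : MulAut K, y * x = x * y → (∀ k ∈ Fx x, y k = k) → y ∈ Subgroup.zpowers x

theorem Fx_inv (x : MulAut K) : Fx x⁻¹ = Fx x := by
  ext k
  rw [mem_Fx, mem_Fx]
  constructor
  · intro h
    have := congrArg x h
    rwa [MulAut.apply_inv_self, eq_comm] at this
  · intro h
    have := congrArg (x⁻¹ : MulAut K) h
    rwa [MulAut.inv_apply_self, eq_comm] at this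

theorem Bal.inv {p : ℕ} {x : MulAut K} (h : Bal p x) : Bal p x⁻¹ := by
  refine ⟨?_, ?_⟩
  · rw [Fx_inv]
    exact h.core
  · rw [Fx_inv]
    intro y hy hk
    rw [Subgroup.zpowers_inv]
    apply h.cent y _ hk
    have := congrArg (fun z => x * z * x) hy
    beta_reduce at this
    have e1 : x * (y * x⁻¹) * x = x * y := by group
    have e2 : x * (x⁻¹ * y) * x = y * x := by group
    rw [e1, e2] at this
    exact this.symm

theorem Bal.of_inv {p : ℕ} {x : MulAut K} (h : Bal p x⁻¹) : Bal p x := by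
  have := h.inv
  rwa [inv_inv] at this

theorem Bal.conj {p : ℕ} {x : MulAut K} (h : Bal p x) (α : MulAut K) : Bal p (α * x * α⁻¹) := by
  refine ⟨?_, ?_⟩
  · rw [Fx_conj]
    intro M hM hMn hMc
    have h6 := h.core (M.comap α.toMonoidHom) (by
        intro k hk
        obtain ⟨k', hk', h7⟩ := hM hk
        have : k' = k := α.injective h7
        rw [← this]
        exact hk') (by
        intro k hk a ha
        rw [Subgroup.mem_comap]
        have h8 := hMn (α k) ⟨k, hk, rfl⟩ (α a) ha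
        simpa using h8) (by
        have h9 : Nat.card (M.comap α.toMonoidHom) = Nat.card M :=
          Nat.card_congr ((α.toEquiv.subtypeEquiv fun a => Iff.rfl))
        rw [h9]
        exact hMc)
    rw [eq_bot_iff]
    intro k hk
    obtain ⟨k, rfl⟩ := α.surjective k
    have h10 : k ∈ M.comap α.toMonoidHom := hk
    rw [h6, Subgroup.mem_bot] at h10
    rw [h10, map_one]
    exact one_mem _
  · intro y hy hk
    have h6 : α⁻¹ * y * α ∈ Subgroup.zpowers x := by
      apply h.cent
      · calc α⁻¹ * y * α * x = α⁻¹ * (y * (α * x * α⁻¹)) * α := by group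
          _ = α⁻¹ * (α * x * α⁻¹ * y) * α := by rw [hy]
          _ = x * (α⁻¹ * y * α) := by group
      · intro k hk'
        rw [MulAut.mul_apply, MulAut.mul_apply]
        have h7 : y (α k) = α k := hk _ (by rw [Fx_conj]; exact ⟨k, hk', rfl⟩)
        rw [h7, MulAut.inv_apply_self]
    obtain ⟨n, hn⟩ := Subgroup.mem_zpowers_iff.1 h6
    refine Subgroup.mem_zpowers_iff.2 ⟨n, ?_⟩
    rw [conj_zpow, hn]
    group

theorem Bal.of_conj {p : ℕ} {x : MulAut K} (α : MulAut K) (h : Bal p (α * x * α⁻¹)) : Bal p x := by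
  have := h.conj α⁻¹
  have e : α⁻¹ * (α * x * α⁻¹) * α⁻¹⁻¹ = x := by group
  rwa [e] at this

/-- Transport along an isomorphism. -/
theorem Bal.map {L : Type*} [Group L] {p : ℕ} {x : MulAut K} (h : Bal p x) (e : K ≃* L) :
    Bal p (MulAut.congr e x) := by
  have hFx : ∀ l : L, l ∈ Fx (MulAut.congr e x) ↔ e.symm l ∈ Fx x := by
    intro l
    rw [mem_Fx, mem_Fx]
    change e (x (e.symm l)) = l ↔ _
    rw [← e.eq_symm_apply]
  refine ⟨?_, ?_⟩
  · intro M hM hMn hMc
    have h6 := h.core (M.comap e.toMonoidHom) (by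
        intro k hk
        have := (hFx (e k)).1 (hM hk)
        rwa [e.symm_apply_apply] at this) (by
        intro k hk a ha
        rw [Subgroup.mem_comap]
        have h8 := hMn (e k) ((hFx _).2 (by rwa [e.symm_apply_apply])) (e a) ha
        simpa using h8) (by
        have h9 : Nat.card (M.comap e.toMonoidHom) = Nat.card M :=
          Nat.card_congr ((e.toEquiv.subtypeEquiv fun a => Iff.rfl))
        rw [h9]
        exact hMc)
    rw [eq_bot_iff]
    intro k hk
    obtain ⟨k, rfl⟩ := e.surjective k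
    have h10 : k ∈ M.comap e.toMonoidHom := hk
    rw [h6, Subgroup.mem_bot] at h10
    rw [h10, map_one]
    exact one_mem _
  · intro y hy hk
    have h7 : (MulAut.congr e).symm y ∈ Subgroup.zpowers x := by
      apply h.cent
      · have := congrArg (MulAut.congr e).symm hy
        rw [map_mul, map_mul, MulEquiv.symm_apply_apply] at this
        exact this
      · intro k hk'
        change e.symm (y (e k)) = k
        rw [hk (e k) ((hFx _).2 (by rwa [e.symm_apply_apply])), e.symm_apply_apply]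
    obtain ⟨n, hn⟩ := Subgroup.mem_zpowers_iff.1 h7
    refine Subgroup.mem_zpowers_iff.2 ⟨n, ?_⟩
    have := congrArg (MulAut.congr e) hn
    rwa [map_zpow, MulEquiv.apply_symm_apply] at this

/-- **`O_{p'}(C_A(x)) = 1`.** -/
theorem Bal.core_eq_bot [Finite K] (hZ : Subgroup.center K = ⊥) {p : ℕ} [Fact p.Prime] {A : Subgroup (MulAut K)}
    (hinn : ∀ k : K, MulAut.conj k ∈ A) {x : MulAut K} (hord : orderOf x = p) (hx : Bal p x) :
    pPrimeCore p ↥(A ⊓ Subgroup.centralizer {x}) = ⊥ := by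
  have hinj := conj_injective hZ
  unfold pPrimeCore
  rw [sSup_eq_bot]
  rintro N ⟨hN, hNc⟩
  have hNo : ∀ y ∈ N, (orderOf (y : MulAut K)).Coprime p := by
    intro y hy
    have h6 : orderOf (y : MulAut K) ∣ Nat.card N := by
      have h7 : orderOf (⟨y, hy⟩ : N) = orderOf (y : MulAut K) := by
        rw [Subgroup.orderOf_coe, ← Subgroup.orderOf_mk _ hy]
      rw [← h7]
      exact orderOf_dvd_natCard _
    exact Nat.Coprime.coprime_dvd_left h6 hNc
  let M' : Subgroup K := Fx x ⊓ (N.map (Subgroup.subtype _)).comap (MulAut.conj : K →* MulAut K)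
  have hM' : ∀ k, k ∈ M' ↔ k ∈ Fx x ∧ ∃ y ∈ N, (y : MulAut K) = MulAut.conj k := fun k => Iff.rfl
  have hM'n : ∀ c ∈ Fx x, ∀ a ∈ M', c * a * c⁻¹ ∈ M' := by
    intro c hc a ha
    obtain ⟨ha1, y, hy, hya⟩ := (hM' a).1 ha
    refine (hM' _).2 ⟨mul_mem (mul_mem hc ha1) (inv_mem hc), ?_⟩
    refine ⟨⟨MulAut.conj c, conj_mem hinn hc⟩ * y * ⟨MulAut.conj c, conj_mem hinn hc⟩⁻¹, hN.conj_mem _ hy _, ?_⟩
    simp [hya]
  have hcardM : (Nat.card M').Coprime p := by
    have h6 : Nat.card M' ∣ Nat.card N := by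
      have h7 : Nat.card (M'.map (MulAut.conj : K →* MulAut K)) = Nat.card M' :=
        (Nat.card_congr (M'.equivMapOfInjective _ hinj).toEquiv).symm
      have h8 : Nat.card (N.map (Subgroup.subtype _)) = Nat.card N :=
        (Nat.card_congr (N.equivMapOfInjective _ (Subgroup.subtype_injective _)).toEquiv).symm
      rw [← h7, ← h8]
      apply Subgroup.card_dvd_of_le
      rintro _ ⟨a, ha, rfl⟩
      exact ha.2
    exact Nat.Coprime.coprime_dvd_left h6 hNc
  have hM'1 : M' = ⊥ := hx.core M' inf_le_left hM'n hcardM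
  rw [eq_bot_iff]
  intro y hy
  rw [Subgroup.mem_bot]
  apply Subtype.ext
  refine eq_one_of_mem_zpowers hord ?_ (hNo y hy)
  apply hx.cent
  · exact Subgroup.mem_centralizer_singleton_iff.1 y.2.2
  intro k hk'
  have h6 : k * ((y : MulAut K) k)⁻¹ ∈ M' := by
    refine (hM' _).2 ⟨mul_mem hk' (inv_mem (apply_mem_Fx y.2 hk')), ?_⟩
    let ck : ↥(A ⊓ Subgroup.centralizer {x}) := ⟨MulAut.conj k, conj_mem hinn hk'⟩
    have h10 : ck * y * ck⁻¹ ∈ N := hN.conj_mem _ hy ck
    have h11 : ck * y * ck⁻¹ * y⁻¹ ∈ N := N.mul_mem h10 (N.inv_mem hy)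
    have h12 : ((y : MulAut K) * MulAut.conj k * (y : MulAut K)⁻¹) = MulAut.conj ((y : MulAut K) k) :=
      mul_conj_mul_inv _ _
    have h9 : ((ck * y * ck⁻¹ * y⁻¹ : ↥(A ⊓ Subgroup.centralizer {x})) : MulAut K) =
        MulAut.conj k * (y : MulAut K) * (MulAut.conj k)⁻¹ * (y : MulAut K)⁻¹ := rfl
    refine ⟨_, h11, ?_⟩
    rw [h9, map_mul, map_inv, ← h12]
    simp only [mul_inv_rev, inv_inv, mul_assoc]
  rw [hM'1, Subgroup.mem_bot] at h6
  exact (mul_inv_eq_one.1 h6).symm

end Cfsg.Agent.H198.BalVar
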