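import Cfsg.Agent.H198.TriInn
import Cfsg.Agent.H198.BalVar

/-!
# The fixed points of triality automorphisms of order three (helper198)

* `xt hG τ = Ψ(τ) ρ`, for an octonion automorphism `τ` (`TriS τ τ τ`);
* `dia τ u w = τ⁻¹(ū) · τ(w̄)`; `AutD τ` : the elements of `E Q` which are automorphisms of this product;
* `mem_Fx_xt` : the fixed points of `xt hG τ` are the classes of the elements of `AutD τ`; `equivFx`;
* `IsLin M` : `M` is a linear similarity; `tauB` : the cyclic permutation of the coordinates.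
-/

set_option autoImplicit false

namespace Cfsg.Agent.H198.TriDia

open Module QuadraticMap Cfsg.Agent.LieClassical.OrthCore Cfsg.Agent.LieClassical.OrthTrans
  Cfsg.Agent.LieClassical.OrthSimple Cfsg.Agent.ClassicalGeometry.OrthAut1
  Cfsg.Agent.ClassicalGeometry.OrthSemi Cfsg.Agent.H198.Classes
  Cfsg.Agent.LieClassical.QuadForms Cfsg.Agent.H198.ClassesPlus
  Cfsg.Agent.ClassicalGeometry.TrialityOct Cfsg.Agent.ClassicalGeometry.Triality
  Cfsg.Agent.ClassicalGeometry.TrialitySpaces Cfsg.Agent.H198.TriBase Cfsg.Agent.H198.TriAut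
  Cfsg.Agent.H206.Balance Cfsg.Agent.H198.BalVar

universe u

variable {F : Type u} [Field F]

/-- `M` is a linear similarity. -/
def IsLin (M : G8 F) : Prop := ∃ c : F, IsSS (plusForm 4 F) (RingEquiv.refl F) c M.1

/-- The triality automorphism `Ψ(τ) ρ`. -/
noncomputable def xt (hG : Good (plusForm 4 F)) (τ : G8 F) : MulAut (P8 F) := Psi _ τ * rho hG

/-- The product `τ⁻¹(ū) · τ(w̄)`. -/
def dia (τ : G8 F) (u w : V8 F) : V8 F := omul (τ⁻¹.1 (oconj u)) (τ.1 (oconj w))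

/-- The cyclic permutation of the coordinates. -/
def tbP (F : Type u) [Field F] : Equiv.Perm (V8 F) where
  toFun x := Sum.elim ![x (.inl 0), x (.inl 3), x (.inl 1), x (.inl 2)]
    ![x (.inr 0), x (.inr 3), x (.inr 1), x (.inr 2)]
  invFun x := Sum.elim ![x (.inl 0), x (.inl 2), x (.inl 3), x (.inl 1)]
    ![x (.inr 0), x (.inr 2), x (.inr 3), x (.inr 1)]
  left_inv x := by apply ext8 <;> rfl
  right_inv x := by apply ext8 <;> rfl

theorem isSS_tbP : IsSS (plusForm 4 F) (RingEquiv.refl F) 1 (tbP F) := by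
  refine ⟨one_ne_zero, fun u v => ?_, fun c v => ?_, fun v => ?_⟩
  · apply ext8 <;> rfl
  · apply ext8 <;> rfl
  · rw [norm8, norm8, one_mul]
    change v (.inl 0) * v (.inr 0) + v (.inl 3) * v (.inr 3) + v (.inl 1) * v (.inr 1) +
      v (.inl 2) * v (.inr 2) = _
    rw [RingEquiv.refl_apply]
    ring

/-- The octonion automorphism `l₁ → l₂ → l₃ → l₁`, `r₁ → r₂ → r₃ → r₁`. -/
def tauB (F : Type u) [Field F] : G8 F := ⟨tbP F, _, _, isSS_tbP⟩

theorem tri_tauB : TriS (tauB F) (tauB F) (tauB F) := by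
  intro x y
  apply ext8
  all_goals
    first
    | (change omul x y (.inl 0) = omul (tbP F x) (tbP F y) (.inl 0); rw [omul_l0, omul_l0])
    | (change omul x y (.inl 3) = omul (tbP F x) (tbP F y) (.inl 1); rw [omul_l3, omul_l1])
    | (change omul x y (.inl 1) = omul (tbP F x) (tbP F y) (.inl 2); rw [omul_l1, omul_l2])
    | (change omul x y (.inl 2) = omul (tbP F x) (tbP F y) (.inl 3); rw [omul_l2, omul_l3])
    | (change omul x y (.inr 0) = omul (tbP F x) (tbP F y) (.inr 0); rw [omul_r0, omul_r0])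
    | (change omul x y (.inr 3) = omul (tbP F x) (tbP F y) (.inr 1); rw [omul_r3, omul_r1])
    | (change omul x y (.inr 1) = omul (tbP F x) (tbP F y) (.inr 2); rw [omul_r1, omul_r2])
    | (change omul x y (.inr 2) = omul (tbP F x) (tbP F y) (.inr 3); rw [omul_r2, omul_r3])
  all_goals
    simp only [tbP, Equiv.coe_fn_mk, Sum.elim_inl, Sum.elim_inr, Matrix.cons_val_zero, Matrix.cons_val_one,
      Matrix.cons_val]
  all_goals ring

theorem isLin_tauB : IsLin (tauB F) := ⟨1, isSS_tbP⟩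

theorem tauB_pow_three : (tauB F) ^ 3 = 1 := by
  apply Subtype.ext
  ext1 x
  apply ext8 <;> rfl

/-! ### Octonion automorphisms -/

theorem aut_one {τ : G8 F} (hτ : TriS τ τ τ) : τ.1 (one8 F) = one8 F := by
  obtain ⟨σ, c, hs⟩ := τ.2
  have h1 := hτ (one8 F) (one8 F)
  rw [one_omul] at h1
  have h2 : plusForm 4 F (τ.1 (one8 F)) ≠ 0 := by
    rw [hs.form, norm_one8, map_one, mul_one]
    exact hs.ne
  apply omul_left_cancel h2
  rw [← h1, omul_one]

theorem aut_mult {τ : G8 F} (hτ : TriS τ τ τ) {σ : F ≃+* F} {c : F} (hs : IsSS (plusForm 4 F) σ c τ.1) : c = 1 := by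
  have h1 := hs.form (one8 F)
  rw [aut_one hτ, norm_one8, map_one, mul_one] at h1
  exact h1.symm

theorem oconj_eq (x : V8 F) : oconj x = polar (plusForm 4 F) x (one8 F) • one8 F - x := by
  rw [polar8]
  apply ext8 <;> simp [oconj_l0, oconj_l1, oconj_l2, oconj_l3, oconj_r0, oconj_r1, oconj_r2, oconj_r3, one8]

theorem aut_oconj {τ : G8 F} (hτ : TriS τ τ τ) (x : V8 F) : τ.1 (oconj x) = oconj (τ.1 x) := by
  obtain ⟨σ, c, hs⟩ := τ.2
  have hc := aut_mult hτ hs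
  rw [oconj_eq, oconj_eq, hs.sub, hs.smul, aut_one hτ]
  have h1 := hs.polar x (one8 F)
  rw [aut_one hτ, hc, one_mul] at h1
  rw [h1]

theorem aut_kap {τ : G8 F} (hτ : TriS τ τ τ) : kapG F * τ * kapG F = τ := by
  apply Subtype.ext
  ext1 x
  change oconj (τ.1 (oconj x)) = τ.1 x
  rw [aut_oconj hτ, oconj_oconj]

theorem rho_comm {τ : G8 F} (hG : Good (plusForm 4 F)) (hτ : TriS τ τ τ) :
    rho hG * Psi _ τ = Psi _ τ * rho hG := by
  have h := rho_conj hG hτ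
  rw [aut_kap hτ] at h
  rwa [mul_inv_eq_iff_eq_mul] at h

theorem xt_inv (hG : Good (plusForm 4 F)) (τ : G8 F) :
    (xt hG τ)⁻¹ = rho hG ^ 2 * Psi _ τ⁻¹ := by
  rw [xt, mul_inv_rev, map_inv, rho_sq]

theorem xt_pow_three (hG : Good (plusForm 4 F)) {τ : G8 F} (hτ : TriS τ τ τ) (h3 : τ ^ 3 = 1) :
    xt hG τ ^ 3 = 1 := by
  have hc : Commute (Psi (plusForm 4 F) τ) (rho hG) := (rho_comm hG hτ).symm
  have h1 : (Psi (plusForm 4 F) τ) ^ 3 = 1 := by
    have h2 := congrArg (Psi (plusForm 4 F)) h3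
    rwa [map_pow (Psi (plusForm 4 F)) τ 3, map_one (Psi (plusForm 4 F))] at h2
  unfold xt
  calc (Psi (plusForm 4 F) τ * rho hG) ^ 3 = Psi (plusForm 4 F) τ ^ 3 * rho hG ^ 3 := hc.mul_pow 3
    _ = 1 * 1 := by rw [h1, rho_pow_three]
    _ = 1 := one_mul 1

theorem xt_not_mem (hG : Good (plusForm 4 F)) (τ : G8 F) : xt hG τ ∉ (Psi (plusForm 4 F)).range := by
  intro h
  apply rho_not_mem hG
  have h1 := mul_mem (inv_mem (MonoidHom.mem_range.2 ⟨τ, rfl⟩)) h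
  rwa [xt, inv_mul_cancel_left] at h1

theorem xt_conj (hG : Good (plusForm 4 F)) (τ : G8 F) {N : G8 F} (hN : TriS N N N) :
    Psi _ N * xt hG τ * (Psi _ N)⁻¹ = xt hG (N * τ * N⁻¹) := by
  have h := rho_comm hG hN.inv
  have gen : ∀ {G : Type u} [Group G] (a b r c : G), r * c = c * r → a * (b * r) * c = a * b * c * r := by
    intro G _ a b r c hrc
    rw [mul_assoc, mul_assoc b, hrc]
    group
  have h1 := gen (Psi (plusForm 4 F) N) (Psi (plusForm 4 F) τ) (rho hG) (Psi (plusForm 4 F) N⁻¹) h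
  have h2 : Psi (plusForm 4 F) N * Psi (plusForm 4 F) τ * Psi (plusForm 4 F) N⁻¹ =
      Psi (plusForm 4 F) (N * τ * N⁻¹) := by
    rw [map_mul (Psi (plusForm 4 F)) (N * τ) N⁻¹, map_mul (Psi (plusForm 4 F)) N τ]
  have h3 : (Psi (plusForm 4 F) N)⁻¹ = Psi (plusForm 4 F) N⁻¹ := (map_inv (Psi (plusForm 4 F)) N).symm
  rw [h3]
  unfold xt
  rw [h1, h2]

/-! ### Lifting elements of `P8` -/

/-- Two elements of `E` with the same class differ by a sign. -/
theorem sign_of_mk_eq (hG : Good (plusForm 4 F)) {g h : ↥(E (plusForm 4 F))} (e : (g : P8 F) = (h : P8 F)) :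
    ∃ c : F, c * c = 1 ∧ ∀ v, (h : V8 F ≃ₗ[F] V8 F) v = c • (g : V8 F ≃ₗ[F] V8 F) v := by
  obtain ⟨c, hc⟩ := center_scalar hG (QuotientGroup.eq.1 e)
  have h1 : ∀ v, (h : V8 F ≃ₗ[F] V8 F) v = c • (g : V8 F ≃ₗ[F] V8 F) v := by
    intro v
    have h2 := congrArg (g : V8 F ≃ₗ[F] V8 F) (hc v)
    rw [map_smul] at h2
    rw [← h2]
    change _ = (g : V8 F ≃ₗ[F] V8 F) ((g : V8 F ≃ₗ[F] V8 F).symm ((h : V8 F ≃ₗ[F] V8 F) v))
    rw [LinearEquiv.apply_symm_apply]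
  refine ⟨c, ?_, h1⟩
  have h2 := E_le_O h.2 (one8 F)
  rw [h1, QuadraticMap.map_smul, E_le_O g.2 (one8 F), norm_one8, smul_eq_mul, mul_one] at h2
  exact h2

/-- An element of `E` which is a scalar times another one has the same class. -/
theorem mk_eq_of_smul {g h : ↥(E (plusForm 4 F))} {c : F}
    (e : ∀ v, (h : V8 F ≃ₗ[F] V8 F) v = c • (g : V8 F ≃ₗ[F] V8 F) v) : (g : P8 F) = (h : P8 F) := by
  apply QuotientGroup.eq.2
  apply mem_center_of_scalar (c := c)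
  intro v
  change (g : V8 F ≃ₗ[F] V8 F).symm ((h : V8 F ≃ₗ[F] V8 F) v) = _
  rw [e, map_smul, LinearEquiv.symm_apply_apply]

/-- The automorphisms of the product `dia τ` in `E Q`. -/
def AutD (τ : G8 F) : Subgroup (V8 F ≃ₗ[F] V8 F) where
  carrier := {g | g ∈ E (plusForm 4 F) ∧ ∀ u w, g (dia τ u w) = dia τ (g u) (g w)}
  mul_mem' := by
    rintro g h ⟨hg, hg'⟩ ⟨hh, hh'⟩
    refine ⟨mul_mem hg hh, fun u w => ?_⟩
    change g (h _) = dia τ (g (h u)) (g (h w))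
    rw [hh', hg']
  one_mem' := ⟨one_mem _, fun _ _ => rfl⟩
  inv_mem' := by
    rintro g ⟨hg, hg'⟩
    refine ⟨inv_mem hg, fun u w => ?_⟩
    apply g.injective
    rw [hg']
    change g (g.symm _) = dia τ (g (g.symm u)) (g (g.symm w))
    rw [LinearEquiv.apply_symm_apply, LinearEquiv.apply_symm_apply, LinearEquiv.apply_symm_apply]

theorem mem_AutD {τ : G8 F} {g : V8 F ≃ₗ[F] V8 F} :
    g ∈ AutD τ ↔ g ∈ E (plusForm 4 F) ∧ ∀ u w, g (dia τ u w) = dia τ (g u) (g w) := Iff.rfl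

theorem dia_smul_smul {τ : G8 F} {c d : F} (hc : c * c = 1) (hd : d * d = 1) (u w : V8 F) :
    dia τ (c • u) (d • w) = (c * d) • dia τ u w := by
  obtain ⟨σ, k, hs⟩ := τ.2
  have hi : IsSS (plusForm 4 F) σ.symm (σ.symm k⁻¹) τ⁻¹.1 := hs.inv
  have e : ∀ (c : F) (x : V8 F), oconj (c • x) = c • oconj x := fun c x => by coord8
  have hf : ∀ (σ : F ≃+* F) (c : F), c * c = 1 → σ c = c := by
    intro σ c hc
    rcases mul_self_eq_one_iff.1 hc with rfl | rfl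
    · rw [map_one]
    · rw [map_neg, map_one]
  rw [dia, dia, e, e, hs.smul, hi.smul, hf _ _ hc, hf _ _ hd, smul_omul, omul_smul, smul_smul]

/-- The key computation: elements of `E` whose class is fixed by `xt hG τ`. -/
theorem fixed_iff (hG : Good (plusForm 4 F)) {τ : G8 F} (hτ : TriS τ τ τ) (g : ↥(E (plusForm 4 F))) :
    (g : P8 F) ∈ Fx (xt hG τ) ↔ ∃ h : ↥(E (plusForm 4 F)), (h : P8 F) = (g : P8 F) ∧
      (h : V8 F ≃ₗ[F] V8 F) ∈ AutD τ := by
  have inv_apply : ∀ x : V8 F, τ⁻¹.1 (τ.1 x) = x := fun x => τ.1.symm_apply_apply x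
  have apply_inv : ∀ x : V8 F, τ.1 (τ⁻¹.1 x) = x := fun x => τ.1.apply_symm_apply x
  -- the value of `xt` on a class
  have hx : ∀ {g g₁ : ↥(E (plusForm 4 F))} {g₂ : V8 F ≃ₗ[F] V8 F},
      TriE (g : V8 F ≃ₗ[F] V8 F) g₁ g₂ → xt hG τ (g : P8 F) =
        ((⟨conjLin τ (kap F * g₁ * kap F), conjLin_mem_E τ (kap_conj_mem g₁.2)⟩ : ↥(E (plusForm 4 F))) : P8 F) := by
    intro g g₁ g₂ h
    rw [xt, MulAut.mul_apply, rho_mk hG h, Psi_mk]
    rfl
  constructor
  · intro hf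
    rw [mem_Fx] at hf
    obtain ⟨g₁, g₂, h⟩ := exists_triple hG g.2
    have h1 : TriE (g : V8 F ≃ₗ[F] V8 F) (⟨g₁, h.1.2.1⟩ : ↥(E (plusForm 4 F))) g₂ := h
    rw [hx h1] at hf
    obtain ⟨c, hc, hg1⟩ := sign_of_mk_eq hG hf.symm
    -- the inverse
    have hi : (xt hG τ)⁻¹ (g : P8 F) = (g : P8 F) := by
      rw [← hx h1] at hf
      nth_rw 1 [← hf]
      rw [MulAut.inv_apply_self]
    have hiτ := triE_conj hτ.inv h
    have hi2 : (xt hG τ)⁻¹ (g : P8 F) =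
        ((⟨kap F * conjLin τ⁻¹ g₂ * kap F, kap_conj_mem hiτ.1.2.2⟩ : ↥(E (plusForm 4 F))) : P8 F) := by
      rw [xt_inv hG τ, MulAut.mul_apply, Psi_mk, pow_two, MulAut.mul_apply]
      have k1 : TriE ((conjE _ τ⁻¹ g : ↥(E (plusForm 4 F))) : V8 F ≃ₗ[F] V8 F)
          (⟨conjLin τ⁻¹ g₁, hiτ.1.2.1⟩ : ↥(E (plusForm 4 F)))
          (⟨conjLin τ⁻¹ g₂, hiτ.1.2.2⟩ : ↥(E (plusForm 4 F))) := hiτ
      rw [rho_mk hG k1]
      have k2 : TriE ((⟨kap F * conjLin τ⁻¹ g₁ * kap F, kap_conj_mem hiτ.1.2.1⟩ : ↥(E (plusForm 4 F))) :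
          V8 F ≃ₗ[F] V8 F) ((⟨conjLin τ⁻¹ g₂, hiτ.1.2.2⟩ : ↥(E (plusForm 4 F))) : V8 F ≃ₗ[F] V8 F)
          (kap F * ((conjE _ τ⁻¹ g : ↥(E (plusForm 4 F))) : V8 F ≃ₗ[F] V8 F) * kap F) := k1.rot
      rw [rho_mk hG k2]
    rw [hi2] at hi
    obtain ⟨d, hd, hg2⟩ := sign_of_mk_eq hG hi.symm
    -- formulas for `g₁`, `g₂`
    have f1 : ∀ u, τ.1 (oconj (g₁ (τ⁻¹.1 (oconj u)))) = c • (g : V8 F ≃ₗ[F] V8 F) u := by
      intro u
      have e := hg1 u
      have e2 : (conjLin τ (kap F * g₁ * kap F)) u = τ.1 (oconj (g₁ (oconj (τ⁻¹.1 u)))) := rfl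
      rw [aut_oconj hτ.inv, ← e2]
      exact e
    have f2 : ∀ w, oconj (τ⁻¹.1 (g₂ (τ.1 (oconj w)))) = d • (g : V8 F ≃ₗ[F] V8 F) w := by
      intro w
      have e := hg2 w
      have e2 : (kap F * conjLin τ⁻¹ g₂ * kap F) w = oconj (τ⁻¹.1 (g₂ (τ⁻¹⁻¹.1 (oconj w)))) := rfl
      rw [inv_inv] at e2
      rw [← e2]
      exact e
    have f1' : ∀ u, g₁ (τ⁻¹.1 (oconj u)) = τ⁻¹.1 (oconj (c • (g : V8 F ≃ₗ[F] V8 F) u)) := by
      intro u
      have e := congrArg (fun z => oconj (τ⁻¹.1 z)) (f1 u)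
      beta_reduce at e
      rw [inv_apply, oconj_oconj, ← aut_oconj hτ.inv] at e
      exact e
    have f2' : ∀ w, g₂ (τ.1 (oconj w)) = τ.1 (oconj (d • (g : V8 F ≃ₗ[F] V8 F) w)) := by
      intro w
      rw [← f2, oconj_oconj, apply_inv]
    have key : ∀ u w, (g : V8 F ≃ₗ[F] V8 F) (dia τ u w) =
        dia τ (c • (g : V8 F ≃ₗ[F] V8 F) u) (d • (g : V8 F ≃ₗ[F] V8 F) w) := by
      intro u w
      rw [dia, dia, h.2, f1', f2']
    -- `c • 1`, `d • 1` are in `E`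
    set gc : ↥(E (plusForm 4 F)) :=
      ⟨conjLin τ (kap F * g₁ * kap F), conjLin_mem_E τ (kap_conj_mem h.1.2.1)⟩ * g⁻¹ with hgc
    set gd : ↥(E (plusForm 4 F)) :=
      ⟨kap F * conjLin τ⁻¹ g₂ * kap F, kap_conj_mem hiτ.1.2.2⟩ * g⁻¹ with hgd
    have hgc' : ∀ v, (gc : V8 F ≃ₗ[F] V8 F) v = c • v := by
      intro v
      have e := hg1 ((g : V8 F ≃ₗ[F] V8 F).symm v)
      rw [LinearEquiv.apply_symm_apply] at e
      exact e
    have hgd' : ∀ v, (gd : V8 F ≃ₗ[F] V8 F) v = d • v := by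
      intro v
      have e := hg2 ((g : V8 F ≃ₗ[F] V8 F).symm v)
      rw [LinearEquiv.apply_symm_apply] at e
      exact e
    have hh : ∀ v, ((gc * gd * g : ↥(E (plusForm 4 F))) : V8 F ≃ₗ[F] V8 F) v =
        (c * d) • (g : V8 F ≃ₗ[F] V8 F) v := by
      intro v
      change (gc : V8 F ≃ₗ[F] V8 F) ((gd : V8 F ≃ₗ[F] V8 F) ((g : V8 F ≃ₗ[F] V8 F) v)) = _
      rw [hgc', hgd', smul_smul]
    refine ⟨gc * gd * g, (mk_eq_of_smul hh).symm, (gc * gd * g).2, fun u w => ?_⟩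
    rw [hh, hh, hh, key]
    have hcd : c * d * (c * d) = 1 := by
      calc c * d * (c * d) = (c * c) * (d * d) := by ring
        _ = 1 := by rw [hc, hd, one_mul]
    rw [dia_smul_smul hc hd, dia_smul_smul hcd hcd, smul_smul]
  · rintro ⟨h, hh, hE, hD⟩
    rw [← hh, mem_Fx]
    obtain ⟨g₁, g₂, ht⟩ := exists_triple hG h.2
    have h1 : TriE (h : V8 F ≃ₗ[F] V8 F) (⟨g₁, ht.1.2.1⟩ : ↥(E (plusForm 4 F))) g₂ := ht
    rw [hx h1]
    have inv_apply : ∀ x : V8 F, τ⁻¹.1 (τ.1 x) = x := fun x => τ.1.symm_apply_apply x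
    have apply_inv : ∀ x : V8 F, τ.1 (τ⁻¹.1 x) = x := fun x => τ.1.apply_symm_apply x
    -- the other triple of `h`
    set k₁ : V8 F ≃ₗ[F] V8 F := conjLin τ⁻¹ (kap F * h * kap F) with hk₁
    set k₂ : V8 F ≃ₗ[F] V8 F := conjLin τ (kap F * h * kap F) with hk₂
    have ht' : Tri (h : V8 F ≃ₗ[F] V8 F) k₁ k₂ := by
      intro x y
      have e1 : ∀ z, k₁ z = τ⁻¹.1 (oconj ((h : V8 F ≃ₗ[F] V8 F) (oconj (τ.1 z)))) := by
        intro z
        have : k₁ z = τ⁻¹.1 (oconj ((h : V8 F ≃ₗ[F] V8 F) (oconj (τ⁻¹⁻¹.1 z)))) := rfl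
        rw [this, inv_inv]
      have e2 : ∀ z, k₂ z = τ.1 (oconj ((h : V8 F ≃ₗ[F] V8 F) (oconj (τ⁻¹.1 z)))) := fun z => rfl
      have e3 := hD (oconj (τ.1 x)) (oconj (τ⁻¹.1 y))
      rw [dia, dia, oconj_oconj, oconj_oconj, inv_apply, apply_inv] at e3
      rw [e3, e1, e2]
    obtain ⟨c, hc0, hc1, -⟩ := ht'.unique ht.2
    obtain ⟨σ, k, hs⟩ := τ.2
    symm
    apply mk_eq_of_smul (c := σ c)
    intro v
    have e1 : k₁ (oconj (τ⁻¹.1 v)) = τ⁻¹.1 (oconj ((h : V8 F ≃ₗ[F] V8 F) v)) := by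
      have : k₁ (oconj (τ⁻¹.1 v)) =
        τ⁻¹.1 (oconj ((h : V8 F ≃ₗ[F] V8 F) (oconj (τ⁻¹⁻¹.1 (oconj (τ⁻¹.1 v)))))) := rfl
      rw [this, inv_inv, aut_oconj hτ, apply_inv, oconj_oconj]
    have e2 : ∀ (c : F) (x : V8 F), oconj (c • x) = c • oconj x := fun c x => by coord8
    change τ.1 (oconj (g₁ (oconj (τ⁻¹.1 v)))) = _
    rw [hc1, e1, e2, hs.smul, aut_oconj hτ, apply_inv, oconj_oconj]

/-- **The fixed points of `Ψ(τ) ρ`.** -/
theorem mem_Fx_xt (hG : Good (plusForm 4 F)) {τ : G8 F} (hτ : TriS τ τ τ) {p : P8 F} :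
    p ∈ Fx (xt hG τ) ↔ ∃ g : ↥(E (plusForm 4 F)), (g : P8 F) = p ∧ (g : V8 F ≃ₗ[F] V8 F) ∈ AutD τ := by
  obtain ⟨g, rfl⟩ := QuotientGroup.mk_surjective p
  exact fixed_iff hG hτ g

/-- The lift of a fixed point to an automorphism of the product is unique. -/
theorem AutD_unique (hG : Good (plusForm 4 F)) {τ : G8 F} {g h : ↥(E (plusForm 4 F))}
    (hg : (g : V8 F ≃ₗ[F] V8 F) ∈ AutD τ) (hh : (h : V8 F ≃ₗ[F] V8 F) ∈ AutD τ) (e : (g : P8 F) = (h : P8 F)) :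
    g = h := by
  obtain ⟨c, hc, hc'⟩ := sign_of_mk_eq hG e
  have h1 := hh.2 (oconj (τ.1 (one8 F))) (oconj (τ⁻¹.1 (one8 F)))
  have h2 : dia τ (oconj (τ.1 (one8 F))) (oconj (τ⁻¹.1 (one8 F))) = one8 F := by
    have e1 : τ⁻¹.1 (τ.1 (one8 F)) = one8 F := τ.1.symm_apply_apply _
    have e2 : τ.1 (τ⁻¹.1 (one8 F)) = one8 F := τ.1.apply_symm_apply _
    rw [dia, oconj_oconj, oconj_oconj, e1, e2, one_omul]
  rw [hc', hc', hc', dia_smul_smul hc hc, hc, one_smul, ← hg.2, h2] at h1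
  have h3 : (c - 1) • (g : V8 F ≃ₗ[F] V8 F) (one8 F) = 0 := by rw [sub_smul, h1, one_smul, sub_self]
  rcases smul_eq_zero.1 h3 with h4 | h4
  · apply Subtype.ext
    apply LinearEquiv.ext
    intro v
    rw [hc' v, sub_eq_zero.1 h4, one_smul]
  · exfalso
    have h5 := (g : V8 F ≃ₗ[F] V8 F).map_eq_zero_iff.1 h4
    have h6 := norm_one8 (F := F)
    rw [h5, QuadraticMap.map_zero] at h6
    exact zero_ne_one h6

/-- The class of an element of `AutD τ`. -/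
def mkD (τ : G8 F) : ↥(AutD τ) →* P8 F :=
  (QuotientGroup.mk' (Subgroup.center ↥(E (plusForm 4 F)))).comp
    (Subgroup.inclusion (fun _ hg => (mem_AutD.1 hg).1))

theorem mkD_apply {τ : G8 F} (g : ↥(AutD τ)) : mkD τ g = ((⟨g.1, g.2.1⟩ : ↥(E (plusForm 4 F))) : P8 F) := rfl

theorem mkD_injective (hG : Good (plusForm 4 F)) (τ : G8 F) : Function.Injective (mkD τ) := by
  intro g h e
  rw [mkD_apply, mkD_apply] at e
  exact Subtype.ext (congrArg (fun z : ↥(E (plusForm 4 F)) => (z : V8 F ≃ₗ[F] V8 F))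
    (AutD_unique hG (g := ⟨g.1, g.2.1⟩) (h := ⟨h.1, h.2.1⟩) g.2 h.2 e))

theorem mkD_range (hG : Good (plusForm 4 F)) {τ : G8 F} (hτ : TriS τ τ τ) : (mkD τ).range = Fx (xt hG τ) := by
  ext p
  rw [mem_Fx_xt hG hτ]
  constructor
  · rintro ⟨g, rfl⟩
    exact ⟨⟨g.1, g.2.1⟩, rfl, g.2⟩
  · rintro ⟨g, rfl, hg⟩
    exact ⟨⟨g.1, hg⟩, rfl⟩

/-- The fixed points of `Ψ(τ) ρ` are the automorphisms in `E Q` of the product `dia τ`. -/
noncomputable def equivFx (hG : Good (plusForm 4 F)) {τ : G8 F} (hτ : TriS τ τ τ) :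
    ↥(AutD τ) ≃* ↥(Fx (xt hG τ)) :=
  (MonoidHom.ofInjective (mkD_injective hG τ)).trans (MulEquiv.subgroupCongr (mkD_range hG hτ))

theorem equivFx_coe (hG : Good (plusForm 4 F)) {τ : G8 F} (hτ : TriS τ τ τ) (g : ↥(AutD τ)) :
    (equivFx hG hτ g : P8 F) = mkD τ g := rfl

/-- A vector commuting with all octonions is a scalar. -/
theorem scalar_of_comm {a : V8 F} (h : ∀ y, omul a y = omul y a) : a = a (.inl 0) • one8 F := by
  have h0 := h (Pi.single (.inl 0) 1)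
  have h1 := h (Pi.single (.inl 1) 1)
  have c1 := congrFun h0 (.inl 1)
  have c2 := congrFun h0 (.inl 2)
  have c3 := congrFun h0 (.inl 3)
  have d1 := congrFun h0 (.inr 1)
  have d2 := congrFun h0 (.inr 2)
  have d3 := congrFun h0 (.inr 3)
  have e1 := congrFun h1 (.inl 1)
  rw [omul_l1, omul_l1] at c1 e1
  rw [omul_l2, omul_l2] at c2
  rw [omul_l3, omul_l3] at c3
  rw [omul_r1, omul_r1] at d1
  rw [omul_r2, omul_r2] at d2
  rw [omul_r3, omul_r3] at d3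
  simp at c1 c2 c3 d1 d2 d3 e1
  apply ext8 <;> simp [one8, c1.symm, c2.symm, c3.symm, d1, d2, d3, e1]

theorem dia_one (u w : V8 F) : dia (1 : G8 F) u w = omul (oconj u) (oconj w) := rfl

theorem oconj_one8 : oconj (one8 F) = one8 F := by
  rw [oconj_eq]
  have : polar (plusForm 4 F) (one8 F) (one8 F) = 2 := by
    rw [polar8]
    simp [one8]
    norm_num
  rw [this, two_smul, add_sub_cancel_right]

/-- The automorphisms of the para-octonion product are the automorphisms of the octonions. -/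
theorem dia_one_aut {g : V8 F ≃ₗ[F] V8 F} (h : ∀ u w, g (dia (1 : G8 F) u w) = dia 1 (g u) (g w)) (x y : V8 F) :
    g (omul x y) = omul (g x) (g y) := by
  have k1 : ∀ w, g (oconj w) = omul (oconj (g (one8 F))) (oconj (g w)) := by
    intro w
    have := h (one8 F) w
    rw [dia_one, dia_one] at this
    have e := oconj_one8 (F := F)
    rwa [e, one_omul] at this
  have k2 : ∀ w, g (oconj w) = omul (oconj (g w)) (oconj (g (one8 F))) := by
    intro w
    have := h w (one8 F)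
    rw [dia_one, dia_one] at this
    have e := oconj_one8 (F := F)
    rwa [e, omul_one] at this
  set a := oconj (g (one8 F)) with ha
  have k3 : ∀ y, omul a y = omul y a := by
    intro y
    obtain ⟨w, hw⟩ := g.surjective (oconj y)
    have e : oconj (g w) = y := by rw [hw, oconj_oconj]
    have := k1 w
    rw [k2 w, e] at this
    exact this.symm
  have k4 := scalar_of_comm k3
  set c := a (.inl 0) with hc
  have k5 : ∀ w, g (oconj w) = c • oconj (g w) := by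
    intro w
    rw [k1, k4, smul_omul, one_omul]
  have k6 : c = 1 := by
    have e1 := k5 (one8 F)
    have e := oconj_one8 (F := F)
    have e2 : g (one8 F) = c • one8 F := by
      rw [← oconj_oconj (g (one8 F)), ← ha, k4]
      apply ext8 <;> simp [one8, oconj_l0, oconj_l1, oconj_l2, oconj_l3, oconj_r0, oconj_r1, oconj_r2, oconj_r3]
    have e3 : oconj (c • one8 F) = c • one8 F := by
      apply ext8 <;> simp [one8, oconj_l0, oconj_l1, oconj_l2, oconj_l3, oconj_r0, oconj_r1, oconj_r2, oconj_r3]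
    rw [e, e2, e3, smul_smul] at e1
    have e4 := congrFun e1 (.inl 0)
    simp only [Pi.smul_apply, one8, Sum.elim_inl, Matrix.cons_val_zero, smul_eq_mul, mul_one] at e4
    have hc0 : c ≠ 0 := by
      intro h0
      rw [h0, zero_smul] at e2
      have h5 := g.map_eq_zero_iff.1 e2
      have h6 := norm_one8 (F := F)
      rw [h5, QuadraticMap.map_zero] at h6
      exact zero_ne_one h6
    exact (mul_right_cancel₀ hc0 (by rw [one_mul]; exact e4)).symm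
  have k7 : ∀ w, g (oconj w) = oconj (g w) := by
    intro w
    rw [k5, k6, one_smul]
  have := h (oconj x) (oconj y)
  rwa [dia_one, dia_one, oconj_oconj, oconj_oconj, k7, k7, oconj_oconj, oconj_oconj] at this

end Cfsg.Agent.H198.TriDia
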