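import Mathlib
import Cfsg.Agent.H198.TriBase

/-!
# The triality automorphisms of `PΩ₈⁺` (helper198)

`P8 F = P (plusForm 4 F)`, `Psi : Gam → MulAut`.

* `tau hG`, `tau_mul_tau`, `tau_conj : TriS M M₁ M₂ → τ Ψ(M) τ⁻¹ = Ψ(M₁)`;
* `rho hG = Ψ(κ) τ`, `rho_pow_three`, `rho_conj : TriS M M₁ M₂ → ρ Ψ(M) ρ⁻¹ = Ψ(κ M₁ κ)`;
* `tau_not_mem`, `rho_not_mem`; `aut_cases` : `F` finite: every automorphism is `ρ^i Ψ(M)`.
-/

set_option autoImplicit false

namespace Cfsg.Agent.H198.TriAut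

open Module QuadraticMap Cfsg.Agent.LieClassical.OrthCore Cfsg.Agent.LieClassical.OrthTrans
  Cfsg.Agent.LieClassical.OrthSimple Cfsg.Agent.ClassicalGeometry.OrthAut1
  Cfsg.Agent.ClassicalGeometry.OrthSemi Cfsg.Agent.H198.Classes
  Cfsg.Agent.LieClassical.QuadForms Cfsg.Agent.H198.ClassesPlus
  Cfsg.Agent.ClassicalGeometry.TrialityOct Cfsg.Agent.ClassicalGeometry.Triality
  Cfsg.Agent.ClassicalGeometry.TrialitySpaces Cfsg.Agent.H198.TriBase

variable {F : Type*} [Field F]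

/-- The simple group `PΩ₈⁺(F)` as `E Q` modulo its centre. -/
abbrev P8 (F : Type*) [Field F] : Type _ := P (plusForm 4 F)

/-- The triality involution. -/
noncomputable def tau (hG : Good (plusForm 4 F)) : MulAut (P8 F) :=
  Classical.choose (exists_tau₁ hG)

theorem tau_mk (hG : Good (plusForm 4 F)) {g g₁ : ↥(E (plusForm 4 F))} {g₂ : V8 F ≃ₗ[F] V8 F}
    (h : TriE (g : V8 F ≃ₗ[F] V8 F) g₁ g₂) :
    tau hG (g : P8 F) = (g₁ : P8 F) :=
  Classical.choose_spec (exists_tau₁ hG) g g₁ g₂ h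

/-- Triples of isometries as triples of semisimilarities. -/
theorem triS_of_triE {g g₁ g₂ : V8 F ≃ₗ[F] V8 F} (h : TriE g g₁ g₂) :
    TriS (gamO _ ⟨g, E_le_O h.1.1⟩) (gamO _ ⟨g₁, E_le_O h.1.2.1⟩) (gamO _ ⟨g₂, E_le_O h.1.2.2⟩) :=
  h.2

/-- `(g₁, g, κ g₂ κ)` is a triple. -/
theorem triE_swap {g g₁ g₂ : V8 F ≃ₗ[F] V8 F} (h : TriE g g₁ g₂) :
    TriE g₁ g (kap F * g₂ * kap F) := by
  refine ⟨⟨h.1.2.1, h.1.1, kap_conj_mem h.1.2.2⟩, fun z y => ?_⟩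
  obtain ⟨x, rfl⟩ : ∃ x, oconj x = y := ⟨oconj y, oconj_oconj y⟩
  rw [h.2.rot' (E_le_O h.1.1) (E_le_O h.1.2.1)]
  congr 1
  change _ = oconj (g₂ (oconj (oconj x)))
  rw [oconj_oconj]

theorem tau_tau (hG : Good (plusForm 4 F)) (p : P8 F) : tau hG (tau hG p) = p := by
  obtain ⟨g, rfl⟩ := QuotientGroup.mk_surjective p
  obtain ⟨g₁, g₂, h⟩ := exists_triple hG g.2
  have h1 : TriE (g : V8 F ≃ₗ[F] V8 F) (⟨g₁, h.1.2.1⟩ : ↥(E (plusForm 4 F))) g₂ := h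
  rw [tau_mk hG h1, tau_mk hG (triE_swap h1)]

theorem tau_mul_tau (hG : Good (plusForm 4 F)) : tau hG * tau hG = 1 := by
  ext p
  exact tau_tau hG p

theorem tau_inv (hG : Good (plusForm 4 F)) : (tau hG)⁻¹ = tau hG :=
  inv_eq_of_mul_eq_one_left (tau_mul_tau hG)

theorem triE_conj {M M₁ M₂ : G8 F} (hM : TriS M M₁ M₂) {g g₁ g₂ : V8 F ≃ₗ[F] V8 F}
    (h : TriE g g₁ g₂) : TriE (conjLin M g) (conjLin M₁ g₁) (conjLin M₂ g₂) := by
  refine ⟨⟨conjLin_mem_E M h.1.1, conjLin_mem_E M₁ h.1.2.1, conjLin_mem_E M₂ h.1.2.2⟩,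
    fun x y => ?_⟩
  obtain ⟨x, rfl⟩ := M₁.1.surjective x
  obtain ⟨y, rfl⟩ := M₂.1.surjective y
  rw [← hM, conjLin_apply', conjLin_apply', conjLin_apply', h.2, hM]

theorem tau_conj (hG : Good (plusForm 4 F)) {M M₁ M₂ : G8 F} (hM : TriS M M₁ M₂) :
    tau hG * Psi _ M * (tau hG)⁻¹ = Psi _ M₁ := by
  rw [mul_inv_eq_iff_eq_mul]
  ext p
  obtain ⟨g, rfl⟩ := QuotientGroup.mk_surjective p
  obtain ⟨g₁, g₂, h⟩ := exists_triple hG g.2
  have h1 : TriE (g : V8 F ≃ₗ[F] V8 F) (⟨g₁, h.1.2.1⟩ : ↥(E (plusForm 4 F))) g₂ := h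
  rw [MulAut.mul_apply, MulAut.mul_apply, tau_mk hG h1, Psi_mk, Psi_mk]
  exact tau_mk hG (g := conjE _ M g) (g₁ := conjE _ M₁ ⟨g₁, h.1.2.1⟩) (triE_conj hM h1)

/-- The triality automorphism of order three. -/
noncomputable def rho (hG : Good (plusForm 4 F)) : MulAut (P8 F) := Psi _ (kapG F) * tau hG

theorem conjLin_kapG (g : V8 F ≃ₗ[F] V8 F) : conjLin (kapG F) g = kap F * g * kap F := by
  apply LinearEquiv.ext
  intro x
  change oconj (g ((kapG F)⁻¹.1 x)) = oconj (g (oconj x))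
  rw [kapG_inv]
  rfl

theorem rho_mk (hG : Good (plusForm 4 F)) {g g₁ : ↥(E (plusForm 4 F))} {g₂ : V8 F ≃ₗ[F] V8 F}
    (h : TriE (g : V8 F ≃ₗ[F] V8 F) g₁ g₂) :
    rho hG (g : P8 F) = ((⟨kap F * g₁ * kap F, kap_conj_mem g₁.2⟩ : ↥(E (plusForm 4 F))) : P8 F) := by
  rw [rho, MulAut.mul_apply, tau_mk hG h, Psi_mk]
  refine congrArg _ (Subtype.ext ?_)
  exact conjLin_kapG _

theorem rho_pow_three (hG : Good (plusForm 4 F)) : rho hG ^ 3 = 1 := by
  ext p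
  obtain ⟨g, rfl⟩ := QuotientGroup.mk_surjective p
  obtain ⟨g₁, g₂, h⟩ := exists_triple hG g.2
  have h1 : TriE (g : V8 F ≃ₗ[F] V8 F) (⟨g₁, h.1.2.1⟩ : ↥(E (plusForm 4 F)))
    (⟨g₂, h.1.2.2⟩ : ↥(E (plusForm 4 F))) := h
  have e : (rho hG ^ 3) (g : P8 F) = rho hG (rho hG (rho hG (g : P8 F))) := by
    rw [pow_succ, pow_two]
    rfl
  rw [e, rho_mk hG h1]
  have h2 : TriE ((⟨kap F * g₁ * kap F, kap_conj_mem h.1.2.1⟩ : ↥(E (plusForm 4 F))) :
      V8 F ≃ₗ[F] V8 F) ((⟨g₂, h.1.2.2⟩ : ↥(E (plusForm 4 F))) : V8 F ≃ₗ[F] V8 F)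
      (kap F * g * kap F) := h1.rot
  rw [rho_mk hG h2]
  have h3 : TriE ((⟨kap F * g₂ * kap F, kap_conj_mem h.1.2.2⟩ : ↥(E (plusForm 4 F))) :
      V8 F ≃ₗ[F] V8 F) ((⟨kap F * g * kap F, kap_conj_mem g.2⟩ : ↥(E (plusForm 4 F))) :
        V8 F ≃ₗ[F] V8 F) (kap F * (kap F * g₁ * kap F) * kap F) := h2.rot
  rw [rho_mk hG h3, MulAut.one_apply]
  refine congrArg _ (Subtype.ext ?_)
  exact kap_conj_conj _

theorem rho_conj (hG : Good (plusForm 4 F)) {M M₁ M₂ : G8 F} (hM : TriS M M₁ M₂) :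
    rho hG * Psi _ M * (rho hG)⁻¹ = Psi _ (kapG F * M₁ * kapG F) := by
  have e : rho hG * Psi _ M * (rho hG)⁻¹ =
      Psi _ (kapG F) * (tau hG * Psi _ M * (tau hG)⁻¹) * (Psi _ (kapG F))⁻¹ := by
    rw [rho]
    group
  rw [e, tau_conj hG hM, ← map_inv, kapG_inv, map_mul, map_mul]

theorem rho_inv_conj (hG : Good (plusForm 4 F)) {M M₁ M₂ : G8 F} (hM : TriS M M₁ M₂) :
    (rho hG)⁻¹ * Psi _ M * rho hG = Psi _ (kapG F * M₂ * kapG F) := by
  have e : (rho hG)⁻¹ * Psi _ M * rho hG =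
      (tau hG)⁻¹ * ((Psi _ (kapG F))⁻¹ * Psi _ M * Psi _ (kapG F)) * tau hG := by
    rw [rho]
    group
  rw [e, ← map_inv, kapG_inv, ← map_mul, ← map_mul, tau_inv]
  have h1 := tau_conj hG hM.kap
  rw [tau_inv] at h1
  exact h1

/-! ### Stabilisers -/

theorem tau_stab_xO (hG : Good (plusForm 4 F)) {x : V8 F} (hx : plusForm 4 F x = 0)
    (hx0 : x ≠ 0) :
    (stab hG (xO x)).map (tau hG).toMonoidHom = stab hG (Submodule.span F {x}) := by
  have key : ∀ (g g₁ : ↥(E (plusForm 4 F))) (g₂ : V8 F ≃ₗ[F] V8 F),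
      TriE (g : V8 F ≃ₗ[F] V8 F) g₁ g₂ →
      ((g : P8 F) ∈ stab hG (xO x) ↔ (g₁ : P8 F) ∈ stab hG (Submodule.span F {x})) := by
    intro g g₁ g₂ h
    rw [mem_stab, mem_stab, pact_mk, pact_mk, mapHom_xO h.2, mapHom_span]
    exact xO_eq_iff hG hx hx0 (fun h0 => hx0 ((g₁ : V8 F ≃ₗ[F] V8 F).map_eq_zero_iff.1 h0))
  ext p
  constructor
  · rintro ⟨q, hq, rfl⟩
    obtain ⟨g, rfl⟩ := QuotientGroup.mk_surjective q
    obtain ⟨g₁, g₂, h⟩ := exists_triple hG g.2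
    change tau hG (g : P8 F) ∈ _
    rw [tau_mk hG (g₁ := ⟨g₁, h.1.2.1⟩) h]
    exact (key g ⟨g₁, h.1.2.1⟩ g₂ h).1 hq
  · intro hp
    obtain ⟨g₁, rfl⟩ := QuotientGroup.mk_surjective p
    obtain ⟨g, g₂, h⟩ := exists_triple₁ hG g₁.2
    exact ⟨((⟨g, h.1.1⟩ : ↥(E (plusForm 4 F))) : P8 F),
      (key ⟨g, h.1.1⟩ g₁ g₂ h).2 hp, tau_mk hG (g := ⟨g, h.1.1⟩) h⟩

theorem tau_not_mem (hG : Good (plusForm 4 F)) : tau hG ∉ (Psi (plusForm 4 F)).range := by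
  intro h
  obtain ⟨y, hy, hy0, h1⟩ := AutOrth.Final.pt_of_mem_range hG h (e8 F) norm_e8 e8_ne
  have h2 := tau_stab_xO hG norm_e8 (e8_ne (F := F))
  rw [← h2, Subgroup.map_map] at h1
  have h3 : ((tau hG).toMonoidHom.comp (tau hG).toMonoidHom) = MonoidHom.id _ := by
    ext p
    exact tau_tau hG p
  rw [h3, Subgroup.map_id] at h1
  have hl : ∀ y : V8 F, y ≠ 0 → leftSp y ≠ ⊥ := by
    intro y hy h
    have := self_mem_leftSp y
    rw [h, Submodule.mem_bot] at this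
    exact hy this
  have h4 := ClassicalGeometry.TrialityIndex.stab_injective hG (X := xO (e8 F)) (Y := Submodule.span F {y})
    (leftSp_sing norm_e8) (by
      intro w hw
      obtain ⟨c, rfl⟩ := Submodule.mem_span_singleton.1 hw
      rw [QuadraticMap.map_smul, hy, smul_zero]) (hl _ e8_ne) (by
      rw [Ne, Submodule.span_singleton_eq_bot]
      exact hy0) h1
  have h5 := finrank_leftSp norm_e8 (e8_ne (F := F))
  have h6 : finrank F (xO (e8 F)) = 4 := h5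
  rw [h4, finrank_span_singleton hy0] at h6
  omega

theorem rho_not_mem (hG : Good (plusForm 4 F)) : rho hG ∉ (Psi (plusForm 4 F)).range := by
  intro h
  apply tau_not_mem hG
  have h1 := mul_mem (inv_mem (MonoidHom.mem_range.2 ⟨kapG F, rfl⟩)) h
  rwa [rho, inv_mul_cancel_left] at h1

theorem rho_inv_not_mem (hG : Good (plusForm 4 F)) : (rho hG)⁻¹ ∉ (Psi (plusForm 4 F)).range :=
  fun h => rho_not_mem hG (inv_mem_iff.1 h)

theorem rho_sq (hG : Good (plusForm 4 F)) : rho hG ^ 2 = (rho hG)⁻¹ := by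
  rw [eq_inv_iff_mul_eq_one, ← pow_succ, rho_pow_three]

/-! ### The whole automorphism group -/

theorem index_three [Finite F] : (Psi (plusForm 4 F)).range.index = 3 := by
  have h := AutOrth.Final.index_plus_four (F := F)
  rwa [AutOrth.Main.plusForm_eq] at h

/-- Every automorphism is `ρ^i Ψ(M)`. -/
theorem aut_cases [Finite F] (hG : Good (plusForm 4 F)) (α : MulAut (P8 F)) :
    ∃ (i : ℕ) (M : G8 F), i < 3 ∧ α = rho hG ^ i * Psi _ M := by
  set Γ := (Psi (plusForm 4 F)).range with hΓ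
  have hcard : Nat.card (MulAut (P8 F) ⧸ Γ) = 3 := index_three
  let f : Fin 3 → MulAut (P8 F) ⧸ Γ := fun i => ((rho hG ^ (i : ℕ) : MulAut (P8 F)) : _ ⧸ Γ)
  have hinj : Function.Injective f := by
    have e01 : f 0 ≠ f 1 := by
      intro h
      have h1 := QuotientGroup.eq.1 h
      simp only [Fin.val_zero, Fin.val_one, pow_zero, inv_one, one_mul, pow_one] at h1
      exact rho_not_mem hG h1
    have e02 : f 0 ≠ f 2 := by
      intro h
      have h1 := QuotientGroup.eq.1 h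
      simp only [Fin.val_zero, Fin.val_two, pow_zero, inv_one, one_mul, rho_sq] at h1
      exact rho_inv_not_mem hG h1
    have e12 : f 1 ≠ f 2 := by
      intro h
      have h1 := QuotientGroup.eq.1 h
      simp only [Fin.val_one, Fin.val_two, pow_one, pow_two, inv_mul_cancel_left] at h1
      exact rho_not_mem hG h1
    intro i j hij
    fin_cases i <;> fin_cases j <;> first | rfl | skip
    · exact absurd hij e01
    · exact absurd hij e02
    · exact absurd hij.symm e01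
    · exact absurd hij e12
    · exact absurd hij.symm e02
    · exact absurd hij.symm e12
  have hsurj : Function.Surjective f := by
    have : Finite (MulAut (P8 F) ⧸ Γ) := Nat.finite_of_card_ne_zero (by rw [hcard]; norm_num)
    have : Fintype (MulAut (P8 F) ⧸ Γ) := Fintype.ofFinite _
    have h1 : Fintype.card (Fin 3) = Fintype.card (MulAut (P8 F) ⧸ Γ) := by
      rw [Fintype.card_fin, ← Nat.card_eq_fintype_card, hcard]
    exact ((Fintype.bijective_iff_injective_and_card f).2 ⟨hinj, h1⟩).2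
  obtain ⟨i, hi⟩ := hsurj (α : MulAut (P8 F) ⧸ Γ)
  obtain ⟨M, hM⟩ := QuotientGroup.eq.1 hi
  exact ⟨i, M, i.2, by rw [hM, mul_inv_cancel_left]⟩

end Cfsg.Agent.H198.TriAut
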