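import Mathlib
import Cfsg.Agent.H198.ExtForm

/-!
# The inner-diagonal group of `PΩ⁻` (helper198)

`F` finite, `z₁² + a z₁ z₂ + b z₂²` anisotropic.

* `kapK hK hab : Sim (minusQ m F a b) →* ℤˣ` : `kappa` over the extension `K` of degree two; `kapK_refl`,
  `preserves_K`, `sgn_kapK`, `kapK_indep`;
* `kapM hab` : the same for a chosen `K`; `kapM_refl`;
* `preserves_minus_iff : PreservesSingularClassesMinus m a b g ↔ kapM hab g = 1` (`m ≥ 2`);
* `sgn_kapM : sgn F (kapM hab g) * mu hG g ^ (m + 1) = dt g`; `kapM_iff` : odd characteristic: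
  `kapM hab g = 1 ↔ dt g = mu hG g ^ (m + 1)`;
* `hom_unique_two` : characteristic two: a homomorphism `Sim Q →* ℤˣ` is determined by the reflections;
* `conjSim`, `kapM_conjSim`;
* `simMinus`, `isInnerDiag_minus_iff`, `inndiag_minus_eq`, `inndiag_minus_normal`.
-/

set_option autoImplicit false

namespace Cfsg.Agent.H198.ClassesMinus

open Module Matrix QuadraticMap Cfsg.Agent.LieClassical.OrthCore Cfsg.Agent.LieClassical.OrthTrans
  Cfsg.Agent.ClassicalGeometry.OrthSemi Cfsg.Agent.H198.Classes Cfsg.Agent.H198.OrthFrame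
  Cfsg.Agent.LieClassical.QuadForms Cfsg.Agent.H198.ClassesPlus Cfsg.Agent.H198.Carriers
  Cfsg.Agent.H198.ExtForm

universe u

/-! ### General facts on similarities -/

section General

variable {ι : Type} [Fintype ι] [DecidableEq ι] {F : Type u} [Field F]
  {Q : QuadraticForm F (ι → F)}

/-- The scalar `a` as a similarity. -/
def scSim (Q : QuadraticForm F (ι → F)) : Fˣ →* Sim Q where
  toFun a := ⟨Units.map (Matrix.scalar ι).toMonoidHom a, by
    refine ⟨a * a, fun v => ?_⟩
    change Q ((Matrix.scalar ι (a : F)) *ᵥ v) = _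
    rw [Matrix.scalar_apply, ← Matrix.smul_one_eq_diagonal, Matrix.smul_mulVec, one_mulVec,
      QuadraticMap.map_smul]
    rfl⟩
  map_one' := Subtype.ext (map_one _)
  map_mul' a b := Subtype.ext (map_mul _ _ _)

theorem coe_scSim (a : Fˣ) :
    ((scSim Q a : GL ι F) : Matrix ι ι F) = (a : F) • (1 : Matrix ι ι F) := by
  change Matrix.scalar ι (a : F) = _
  rw [Matrix.scalar_apply, ← Matrix.smul_one_eq_diagonal]

theorem scSim_mulVec (a : Fˣ) (v : ι → F) :
    ((scSim Q a : GL ι F) : Matrix ι ι F) *ᵥ v = (a : F) • v := by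
  rw [coe_scSim, Matrix.smul_mulVec, one_mulVec]

theorem mu_scSim (hG : Good Q) (a : Fˣ) : mu hG (scSim Q a) = a * a := by
  apply mu_unique
  intro v
  rw [scSim_mulVec, QuadraticMap.map_smul]
  rfl

theorem dt_scSim (a : Fˣ) : dt (scSim Q a) = a ^ Fintype.card ι := by
  apply Units.ext
  rw [dt_apply, coe_scSim, Matrix.det_smul, Matrix.det_one, mul_one, Units.val_pow_eq_pow_val]

/-- Every similarity with square multiplier is a scalar times an isometry. -/
theorem exists_iso_of_sq (hG : Good Q) {g : Sim Q} {s : Fˣ} (hs : mu hG g = s * s) :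
    ∃ x : O Q, g = scSim Q s * simO Q x := by
  have h1 : mu hG ((scSim Q s)⁻¹ * g) = 1 := by
    rw [map_mul, map_inv, mu_scSim, hs, inv_mul_cancel]
  obtain ⟨x, hx⟩ := exists_simO ((mu_eq_one_iff hG _).1 h1)
  exact ⟨x, by rw [hx, mul_inv_cancel_left]⟩

omit [Fintype ι] [DecidableEq ι] in
theorem hom_of_E {A : Type*} [CommGroup A] (hG : Good Q) (χ : O Q →* A) {x : O Q}
    (hx : (x : (ι → F) ≃ₗ[F] (ι → F)) ∈ E Q) : χ x = 1 := by
  let f : E Q →* A := χ.comp (Subgroup.inclusion E_le_O)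
  have h1 : ∀ y : E Q, f y = 1 := by
    intro y
    have h2 : y ∈ commutator (E Q) := by rw [commutator_E hG]; exact Subgroup.mem_top y
    exact (Abelianization.commutator_subset_ker f) h2
  exact h1 ⟨x.1, hx⟩

omit [DecidableEq ι] in
/-- A homomorphism from `O Q` to an abelian group is determined by the reflections. -/
theorem hom_unique_O {A : Type*} [CommGroup A] (hG : Good Q) (χ₁ χ₂ : O Q →* A)
    (h : ∀ v (hv : Q v ≠ 0), χ₁ ⟨refl Q v hv, refl_mem_O hv⟩ = χ₂ ⟨refl Q v hv, refl_mem_O hv⟩) :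
    χ₁ = χ₂ := by
  have key : ∀ x ∈ Subgroup.closure (reflSet Q ∪ siegelSet Q), ∀ hx : x ∈ O Q,
      χ₁ ⟨x, hx⟩ = χ₂ ⟨x, hx⟩ := by
    have hO : Subgroup.closure (reflSet Q ∪ siegelSet Q) = O Q := (O_eq_closure hG.nondeg).symm
    intro x hx
    induction hx using Subgroup.closure_induction with
    | mem x hx =>
      intro hxO
      rcases hx with ⟨v, hv, rfl⟩ | hx
      · exact h v hv
      · have h1 : x ∈ E Q := Subgroup.subset_closure hx
        rw [hom_of_E hG χ₁ (x := ⟨x, hxO⟩) h1, hom_of_E hG χ₂ (x := ⟨x, hxO⟩) h1]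
    | one =>
      intro hxO
      have : (⟨1, hxO⟩ : O Q) = 1 := rfl
      rw [this, map_one, map_one]
    | mul x y hx hy ihx ihy =>
      intro hxO
      have h1 : x ∈ O Q := by rw [← hO]; exact hx
      have h2 : y ∈ O Q := by rw [← hO]; exact hy
      have : (⟨x * y, hxO⟩ : O Q) = ⟨x, h1⟩ * ⟨y, h2⟩ := rfl
      rw [this, map_mul, map_mul, ihx h1, ihy h2]
    | inv x hx ih =>
      intro hxO
      have h1 : x ∈ O Q := by rw [← hO]; exact hx
      have : (⟨x⁻¹, hxO⟩ : O Q) = (⟨x, h1⟩ : O Q)⁻¹ := rfl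
      rw [this, map_inv, map_inv, ih h1]
  ext1 x
  exact key x.1 (by rw [← O_eq_closure hG.nondeg]; exact x.2) x.2

theorem exists_sq_of_two [Finite F] (h2 : (2 : F) = 0) (c : Fˣ) : ∃ s : Fˣ, c = s * s := by
  have : Fintype F := Fintype.ofFinite F
  have h6 : CharP F 2 := CharTwo.of_one_ne_zero_of_two_eq_zero one_ne_zero h2
  obtain ⟨s, hs⟩ := FiniteField.isSquare_of_char_two (ringChar.eq F 2) (c : F)
  have hs0 : s ≠ 0 := by
    rintro rfl
    rw [mul_zero] at hs
    exact c.ne_zero hs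
  exact ⟨Units.mk0 s hs0, Units.ext hs⟩

/-- In characteristic two a sign homomorphism on the similarities is determined by the reflections. -/
theorem hom_unique_two [Finite F] (h2 : (2 : F) = 0) (hG : Good Q) (χ₁ χ₂ : Sim Q →* ℤˣ)
    (h : ∀ v (hv : Q v ≠ 0), χ₁ (simO Q ⟨refl Q v hv, refl_mem_O hv⟩) =
      χ₂ (simO Q ⟨refl Q v hv, refl_mem_O hv⟩)) : χ₁ = χ₂ := by
  ext1 g
  obtain ⟨s, hs⟩ := exists_sq_of_two h2 (mu hG g)
  obtain ⟨x, hx⟩ := exists_iso_of_sq hG hs
  obtain ⟨t, rfl⟩ := exists_sq_of_two h2 s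
  have h3 : (χ₁.comp (simO Q)) x = (χ₂.comp (simO Q)) x := by
    rw [hom_unique_O hG (χ₁.comp (simO Q)) (χ₂.comp (simO Q)) h]
  rw [MonoidHom.comp_apply, MonoidHom.comp_apply] at h3
  rw [hx, map_mul, map_mul, map_mul, map_mul, map_mul, Int.units_mul_self, Int.units_mul_self, h3]

/-- Conjugation of similarities by a semisimilarity. -/
noncomputable def conjSim (M : Gam Q) : Sim Q →* Sim Q where
  toFun g := Classical.choose (conj_simGam M g)
  map_one' := by
    apply simGam_injective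
    rw [Classical.choose_spec (conj_simGam M 1), map_one, mul_one, mul_inv_cancel]
  map_mul' g k := by
    apply simGam_injective
    rw [Classical.choose_spec (conj_simGam M (g * k)), map_mul, map_mul,
      Classical.choose_spec (conj_simGam M g), Classical.choose_spec (conj_simGam M k)]
    group

theorem simGam_conjSim (M : Gam Q) (g : Sim Q) :
    simGam Q (conjSim M g) = M * simGam Q g * M⁻¹ :=
  Classical.choose_spec (conj_simGam M g)

theorem conjSim_apply (M : Gam Q) (g : Sim Q) (v : ι → F) :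
    (simGam Q (conjSim M g)).1 (M.1 v) = M.1 ((simGam Q g).1 v) := by
  rw [simGam_conjSim]
  change M.1 ((simGam Q g).1 (M.1⁻¹ (M.1 v))) = _
  congr 2
  exact M.1.symm_apply_apply v

theorem conjSim_refl (M : Gam Q) {v : ι → F} (hv : Q v ≠ 0) (hv' : Q (M.1 v) ≠ 0) :
    conjSim M (simO Q ⟨refl Q v hv, refl_mem_O hv⟩) =
      simO Q ⟨refl Q (M.1 v) hv', refl_mem_O hv'⟩ := by
  obtain ⟨σ, c, hM⟩ := M.2
  apply simGam_injective
  apply Subtype.ext
  ext1 x
  obtain ⟨x, rfl⟩ := M.1.surjective x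
  rw [conjSim_apply, simGam_simO, simGam_simO, gamO_apply, gamO_apply, refl_apply, refl_apply,
    hM.sub, hM.smul, hM.form]
  have h1 : polar Q (M.1 v) (M.1 x) = c * σ (polar Q v x) := by
    rw [polar, polar, ← hM.add, hM.form, hM.form, hM.form]
    simp only [map_sub]
    ring
  rw [h1]
  congr 2
  have hc := hM.ne
  have hσ : σ (Q v) ≠ 0 := by
    rw [map_ne_zero_iff _ σ.injective]
    exact hv
  rw [map_mul, map_inv₀]
  field_simp

theorem mu_conjSim (hG : Good Q) {M : Gam Q} {σ : F ≃+* F} {c : F} (hM : IsSS Q σ c M.1)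
    (g : Sim Q) : ((mu hG (conjSim M g) : Fˣ) : F) = σ ((mu hG g : Fˣ) : F) := by
  have h1 : mu hG (conjSim M g) = Units.map σ.toRingHom.toMonoidHom (mu hG g) := by
    apply mu_unique
    intro v
    obtain ⟨v, rfl⟩ := M.1.surjective v
    have h2 := conjSim_apply M g v
    rw [simGam_apply, simGam_apply] at h2
    rw [h2, hM.form, mu_spec hG, hM.form, map_mul]
    change _ = σ _ * _
    ring
  rw [h1]
  rfl

theorem dt_conjSim {M : Gam Q} {σ : F ≃+* F} {c : F} (hM : IsSS Q σ c M.1)
    (g : Sim Q) : ((dt (conjSim M g) : Fˣ) : F) = σ ((dt g : Fˣ) : F) := by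
  obtain ⟨h, hh, -, -⟩ := exists_perm hM
  have h1 : (conjSim M g : GL ι F) =
      h * Units.map (σ.toRingHom.mapMatrix.toMonoidHom) g.1 * h⁻¹ := by
    rw [eq_mul_inv_iff_mul_eq]
    have h2 : (simGam Q (conjSim M g)).1 * M.1 = M.1 * (simGam Q g).1 := by
      rw [simGam_conjSim]
      change M.1 * (simGam Q g).1 * M.1⁻¹ * M.1 = _
      rw [inv_mul_cancel_right]
    rw [hh] at h2
    change perm (conjSim M g).1 (RingEquiv.refl F) * perm h σ =
      perm h σ * perm g.1 (RingEquiv.refl F) at h2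
    rw [perm_mul, perm_mul] at h2
    have h3 : perm ((conjSim M g).1 * h) σ =
        perm (h * Units.map (σ.toRingHom.mapMatrix.toMonoidHom) g.1) σ := h2
    apply Units.ext
    rw [← Matrix.mulVec_injective.eq_iff]
    funext v
    have h4 := Equiv.congr_fun h3 fun i => σ.symm (v i)
    rw [perm_apply, perm_apply] at h4
    simpa only [RingEquiv.apply_symm_apply] using h4
  rw [dt_apply, h1, Units.val_mul, Units.val_mul, Matrix.det_mul, Matrix.det_mul, mul_comm,
    ← mul_assoc, ← Matrix.det_mul, ← Units.val_mul, inv_mul_cancel, Units.val_one,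
    Matrix.det_one, one_mul, dt_apply]
  exact (RingHom.map_det σ.toRingHom _).symm

end General

/-! ### The minus form -/

section Minus

variable {F : Type u} [Field F] [Finite F] {m : ℕ} {a b : F}

omit [Finite F] in
theorem extends_minus (m : ℕ) (K : Type*) [Field K] [Algebra F K] (a b : F) :
    Extends (minusQ m F a b) (minusQ m K (algebraMap F K a) (algebraMap F K b)) := by
  intro v
  change quadFormMinus m K _ _ _ = algebraMap F K (quadFormMinus m F a b v)
  simp only [quadFormMinus, psi, map_add, map_sum, map_mul, map_pow]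

variable {K : Type u} [Field K] [Algebra F K]

theorem neutralK (hK : finrank F K = 2) (hab : Aniso a b) (m : ℕ) :
    Neutral (minusQ m K (algebraMap F K a) (algebraMap F K b)) (m + 1) := by
  obtain ⟨α, β, h1, h2, h3, -⟩ := exists_roots hab hK
  exact neutral_minusK h3 h1 h2

/-- Extension of scalars on the similarities of the minus form. -/
noncomputable def extM (hK : finrank F K = 2) (hab : Aniso a b) (m : ℕ) :
    Sim (minusQ m F a b) →* Sim (minusQ m K (algebraMap F K a) (algebraMap F K b)) :=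
  extSim (extends_minus m K a b) hK
    (Classical.choose_spec (Classical.choose_spec (exists_roots hab hK))).2.2.2

theorem coe_extM (hK : finrank F K = 2) (hab : Aniso a b) (g : Sim (minusQ m F a b)) :
    ((extM hK hab m g : GL ((Fin m ⊕ Fin m) ⊕ Fin 2) K) :
        Matrix ((Fin m ⊕ Fin m) ⊕ Fin 2) ((Fin m ⊕ Fin m) ⊕ Fin 2) K) =
      ((g : GL ((Fin m ⊕ Fin m) ⊕ Fin 2) F) :
        Matrix ((Fin m ⊕ Fin m) ⊕ Fin 2) ((Fin m ⊕ Fin m) ⊕ Fin 2) F).map (algebraMap F K) := rfl

/-- `kappa` over the quadratic extension `K`. -/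
noncomputable def kapK (hK : finrank F K = 2) (hab : Aniso a b) :
    Sim (minusQ m F a b) →* ℤˣ :=
  (kappa (neutralK hK hab m)).comp ((simGam _).comp (extM hK hab m))

theorem kapK_apply (hK : finrank F K = 2) (hab : Aniso a b) (g : Sim (minusQ m F a b)) :
    kapK hK hab g = kappa (neutralK hK hab m) (simGam _ (extM hK hab m g)) := rfl

theorem preserves_K (hK : finrank F K = 2) (hab : Aniso a b) (g : Sim (minusQ m F a b)) :
    PreservesSingularClasses (quadFormMinus m K (algebraMap F K a) (algebraMap F K b))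
      (Matrix.map ((g : GL ((Fin m ⊕ Fin m) ⊕ Fin 2) F) :
        Matrix ((Fin m ⊕ Fin m) ⊕ Fin 2) ((Fin m ⊕ Fin m) ⊕ Fin 2) F) (algebraMap F K)) ↔
        kapK hK hab g = 1 :=
  preserves_iff (neutralK hK hab m) (extM hK hab m g)

theorem kapK_refl (hK : finrank F K = 2) (hab : Aniso a b) {v : (Fin m ⊕ Fin m) ⊕ Fin 2 → F}
    (hv : minusQ m F a b v ≠ 0) :
    kapK hK hab (simO _ ⟨refl (minusQ m F a b) v hv, refl_mem_O hv⟩) = -1 := by
  have hv' : minusQ m K (algebraMap F K a) (algebraMap F K b) (psi K v) ≠ 0 := by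
    rw [extends_minus m K a b v]
    exact (map_ne_zero _).2 hv
  rw [kapK_apply, extM, extSim_refl _ _ _ hv hv', simGam_simO, kappa_refl]

theorem sgn_kapK (hm : 2 ≤ m) (hK : finrank F K = 2) (hab : Aniso a b)
    (hG : Good (minusQ m F a b)) (g : Sim (minusQ m F a b)) :
    sgn F (kapK hK hab g) * mu hG g ^ (m + 1) = dt g := by
  have : FiniteDimensional F K := Module.finite_of_finrank_pos (by omega)
  have : Finite K := Module.finite_of_finite F
  obtain ⟨α, β, h1, h2, h3, h4⟩ := exists_roots hab hK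
  have h5 := sgn_kappa_minusK hm h3 h1 h2 (extM hK hab m g)
    (Units.map (algebraMap F K).toMonoidHom (mu hG g)) fun V =>
      (extends_minus m K a b).sim hK h4 (mu_spec hG g) V
  have h6 : sgn K (kapK hK hab g) = Units.map (algebraMap F K).toMonoidHom
      (sgn F (kapK hK hab g)) := by
    apply Units.ext
    simp [sgn]
  apply Units.ext
  apply (algebraMap F K).injective
  have h7 := congrArg Units.val h5
  rw [show kappa (neutral_minusK h3 h1 h2) (simGam _ (extM hK hab m g)) = kapK hK hab g from rfl,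
    h6] at h7
  rw [extM, dt_extSim] at h7
  rw [← h7]
  simp

/-- Independence of the extension. -/
theorem kapK_indep (hm : 2 ≤ m) (hK : finrank F K = 2) {K' : Type u} [Field K'] [Algebra F K']
    (hK' : finrank F K' = 2) (hab : Aniso a b) :
    kapK (m := m) hK hab = kapK hK' hab := by
  have hG := good_minusQ hm hab
  by_cases h2 : (2 : F) = 0
  · apply hom_unique_two h2 hG
    intro v hv
    rw [kapK_refl, kapK_refl]
  · ext1 g
    have h3 := sgn_kapK hm hK hab hG g
    rw [← sgn_kapK hm hK' hab hG g, mul_left_inj] at h3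
    have h4 : sgn F (kapK hK hab g * (kapK hK' hab g)⁻¹) = 1 := by
      rw [map_mul, map_inv, h3, mul_inv_cancel]
    rw [sgn_eq_one_iff h2, mul_inv_eq_one] at h4
    exact h4

/-- `kappa` over a quadratic extension. -/
noncomputable def kapM (hab : Aniso a b) : Sim (minusQ m F a b) →* ℤˣ :=
  haveI := Fact.mk (irreducible_pol hab)
  kapK (K := AdjoinRoot (pol a b)) (by
    rw [← natDegree_pol a b]
    exact finrank_quotient_span_eq_natDegree) hab

theorem kapM_eq (hm : 2 ≤ m) (hK : finrank F K = 2) (hab : Aniso a b) :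
    kapM (m := m) hab = kapK hK hab :=
  haveI := Fact.mk (irreducible_pol hab)
  kapK_indep hm _ _ hab

theorem kapM_refl (hab : Aniso a b) {v : (Fin m ⊕ Fin m) ⊕ Fin 2 → F}
    (hv : minusQ m F a b v ≠ 0) :
    kapM hab (simO _ ⟨refl (minusQ m F a b) v hv, refl_mem_O hv⟩) = -1 :=
  haveI := Fact.mk (irreducible_pol hab)
  kapK_refl _ hab hv

theorem preserves_minus_iff (hm : 2 ≤ m) (hab : Aniso a b) (g : Sim (minusQ m F a b)) :
    PreservesSingularClassesMinus m a b
      ((g : GL ((Fin m ⊕ Fin m) ⊕ Fin 2) F) : Matrix _ _ F) ↔ kapM hab g = 1 := by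
  constructor
  · rintro ⟨K, _, _, hK, h⟩
    rw [kapM_eq hm hK hab]
    exact (preserves_K hK hab g).1 h
  · intro h
    obtain ⟨K, _, _, hK⟩ := exists_ext hab
    rw [kapM_eq hm hK hab] at h
    exact ⟨K, _, _, hK, (preserves_K hK hab g).2 h⟩

theorem sgn_kapM (hm : 2 ≤ m) (hab : Aniso a b) (hG : Good (minusQ m F a b))
    (g : Sim (minusQ m F a b)) : sgn F (kapM hab g) * mu hG g ^ (m + 1) = dt g :=
  haveI := Fact.mk (irreducible_pol hab)
  sgn_kapK hm _ hab hG g

theorem kapM_iff (hm : 2 ≤ m) (hab : Aniso a b) (hG : Good (minusQ m F a b)) (h2 : (2 : F) ≠ 0)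
    (g : Sim (minusQ m F a b)) : kapM hab g = 1 ↔ dt g = mu hG g ^ (m + 1) := by
  rw [← sgn_kapM hm hab hG g, mul_eq_right, sgn_eq_one_iff h2]

theorem preserves_minus_iff_det (hm : 2 ≤ m) (hab : Aniso a b) (hG : Good (minusQ m F a b))
    (h2 : (2 : F) ≠ 0) (g : Sim (minusQ m F a b)) :
    PreservesSingularClassesMinus m a b
      ((g : GL ((Fin m ⊕ Fin m) ⊕ Fin 2) F) : Matrix _ _ F) ↔ dt g = mu hG g ^ (m + 1) := by
  rw [preserves_minus_iff hm hab, kapM_iff hm hab hG h2]

theorem kapM_conjSim (hm : 2 ≤ m) (hab : Aniso a b) (M : Gam (minusQ m F a b))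
    (g : Sim (minusQ m F a b)) : kapM hab (conjSim M g) = kapM hab g := by
  have hG := good_minusQ hm hab
  obtain ⟨σ, c, hM⟩ := M.2
  by_cases h2 : (2 : F) = 0
  · have h3 : (kapM hab).comp (conjSim M) = kapM (m := m) hab := by
      apply hom_unique_two h2 hG
      intro v hv
      have hv' : minusQ m F a b (M.1 v) ≠ 0 := by
        rw [hM.form]
        refine mul_ne_zero hM.ne ?_
        rw [map_ne_zero_iff _ σ.injective]
        exact hv
      rw [MonoidHom.comp_apply, conjSim_refl M hv hv', kapM_refl, kapM_refl]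
    rw [← MonoidHom.comp_apply, h3]
  · have h3 := congrArg Units.val (sgn_kapM hm hab hG (conjSim M g))
    rw [dt_conjSim hM, ← sgn_kapM hm hab hG g, Units.val_mul, Units.val_mul,
      Units.val_pow_eq_pow_val, mu_conjSim hG hM, Units.val_pow_eq_pow_val, map_mul,
      map_pow] at h3
    have h4 := mul_right_cancel₀ (pow_ne_zero _ (by
      rw [map_ne_zero_iff _ σ.injective]
      exact (mu hG g).ne_zero)) h3
    have h5 : σ ((sgn F (kapM hab g) : Fˣ) : F) = sgn F (kapM hab g) := by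
      simp [sgn]
    rw [h5] at h4
    have h6 : sgn F (kapM hab (conjSim M g) * (kapM hab g)⁻¹) = 1 := by
      rw [map_mul, map_inv, Units.ext h4, mul_inv_cancel]
    rw [sgn_eq_one_iff h2, mul_inv_eq_one] at h6
    exact h6

/-- The similarities of the minus form preserving the two classes over the quadratic extension. -/
noncomputable def simMinus (m : ℕ) (hab : Aniso a b) : Subgroup (Sim (minusQ m F a b)) :=
  (kapM hab).ker

theorem mem_simMinus {hab : Aniso a b} {g : Sim (minusQ m F a b)} :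
    g ∈ simMinus m hab ↔ kapM hab g = 1 := Iff.rfl

theorem isInnerDiag_minus_iff (hm : 2 ≤ m) (hab : Aniso a b) (hG : Good (minusQ m F a b))
    (β : MulAut (POmega F (quadFormMinus m F a b))) :
    IsInnerDiagonalAutPOmegaMinus m a b β ↔ ∃ g ∈ simMinus m hab, β = S hG g := by
  constructor
  · rintro ⟨g, hg, h1, h2⟩
    exact ⟨⟨g, hg⟩, (preserves_minus_iff hm hab ⟨g, hg⟩).1 h1,
      (induced_iff_S hG ⟨g, hg⟩ β).1 h2⟩
  · rintro ⟨g, hg, rfl⟩
    exact ⟨g.1, g.2, (preserves_minus_iff hm hab g).2 hg, (induced_iff_S hG g _).2 rfl⟩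

/-- `Inndiag(PΩ⁻_{2m+2}(F))`. -/
theorem inndiag_minus_eq (hm : 2 ≤ m) (hab : Aniso a b) (hG : Good (minusQ m F a b)) :
    inndiagPOmegaMinus m F a b = (simMinus m hab).map (S hG) :=
  autSubgroupOf_eq (S hG) _ fun β => isInnerDiag_minus_iff hm hab hG β

theorem conj_mem_map_simMinus (hm : 2 ≤ m) (hab : Aniso a b) (hG : Good (minusQ m F a b))
    (M : Gam (minusQ m F a b)) {β : MulAut (POmega F ⇑(minusQ m F a b))}
    (hβ : β ∈ (simMinus m hab).map (S hG)) :
    Phi hG M * β * (Phi hG M)⁻¹ ∈ (simMinus m hab).map (S hG) := by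
  obtain ⟨g, hg, rfl⟩ := hβ
  refine ⟨conjSim M g, ?_, ?_⟩
  · rw [SetLike.mem_coe, mem_simMinus] at hg ⊢
    rw [kapM_conjSim hm, hg]
  · change Phi hG (simGam _ (conjSim M g)) = _
    rw [simGam_conjSim, map_mul, map_mul, map_inv]
    rfl

/-- `Inndiag(PΩ⁻_{2m+2}(F))` is normal in `Aut`, `m ≥ 3`. -/
theorem inndiag_minus_normal (hm : 3 ≤ m) (hab : Aniso a b) :
    (inndiagPOmegaMinus m F a b).Normal := by
  have hG := good_minusQ (m := m) (by omega) hab
  refine ⟨fun β hβ α => ?_⟩
  obtain ⟨M, rfl⟩ := surj_minusQ hm hab α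
  rw [inndiag_minus_eq (by omega) hab hG] at hβ ⊢
  exact conj_mem_map_simMinus (by omega) hab hG M hβ

end Minus

end Cfsg.Agent.H198.ClassesMinus
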