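import Mathlib
import Cfsg.Agent.H664.R1.U3Defs
import Cfsg.Agent.LieClassical.HermBasic

/-!
# A lower bound for the class number of `GU(3,q)` (helper198, task 966)

`card_classes` : `(q + 1) * (q ^ 2 + q + 2) ≤ k(GU_3(q))` for `q ≥ 3` (equality holds, only this half is proved).
-/

set_option autoImplicit false

namespace Cfsg.Agent.H198.GUThreeCount

open Matrix Cfsg Cfsg.Agent.LieRecognition.PSUThreeSylow Cfsg.Agent.H664.R1.U3
open Cfsg.Agent.LieClassical.HermBasic

variable {F : Type*} [Field F] {σ : F →+* F}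

/-- The minimal polynomial divides a product of two linear polynomials. -/
def M2 (M : Matrix (Fin 3) (Fin 3) F) : Prop :=
  ∃ a b : F, (M - a • (1 : Matrix (Fin 3) (Fin 3) F)) * (M - b • (1 : Matrix (Fin 3) (Fin 3) F)) = 0

/-- Scalar matrices. -/
def M1 (M : Matrix (Fin 3) (Fin 3) F) : Prop := ∃ a : F, M = a • (1 : Matrix (Fin 3) (Fin 3) F)

theorem conj_mat {g h : GUJ σ} (H : IsConj g h) :
    ∃ C D : Matrix (Fin 3) (Fin 3) F, C * D = 1 ∧ D * C = 1 ∧ mat σ h = C * mat σ g * D := by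
  obtain ⟨c, hc⟩ := isConj_iff.1 H
  refine ⟨mat σ c, mat σ c⁻¹, ?_, ?_, ?_⟩
  · rw [← mat_mul, mul_inv_cancel, mat_one]
  · rw [← mat_mul, inv_mul_cancel, mat_one]
  · rw [← mat_mul, ← mat_mul, hc]

theorem M1_of {A B C D : Matrix (Fin 3) (Fin 3) F} (h1 : C * D = 1) (h : B = C * A * D)
    (hA : M1 A) : M1 B := by
  obtain ⟨a, rfl⟩ := hA
  refine ⟨a, ?_⟩
  rw [h, Matrix.mul_smul, Matrix.mul_one, Matrix.smul_mul, h1]

theorem M2_of {A B C D : Matrix (Fin 3) (Fin 3) F} (h1 : C * D = 1) (h2 : D * C = 1)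
    (h : B = C * A * D) (hA : M2 A) : M2 B := by
  obtain ⟨a, b, hab⟩ := hA
  refine ⟨a, b, ?_⟩
  have key : ∀ t : F, B - t • (1 : Matrix (Fin 3) (Fin 3) F) =
      C * (A - t • (1 : Matrix (Fin 3) (Fin 3) F)) * D := by
    intro t
    rw [h, Matrix.mul_sub, Matrix.sub_mul, Matrix.mul_smul, Matrix.mul_one, Matrix.smul_mul, h1]
  rw [key, key]
  calc _ = C * (A - a • (1 : Matrix (Fin 3) (Fin 3) F)) * (D * C) *
        (A - b • (1 : Matrix (Fin 3) (Fin 3) F)) * D := by simp only [Matrix.mul_assoc]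
    _ = C * ((A - a • (1 : Matrix (Fin 3) (Fin 3) F)) *
        (A - b • (1 : Matrix (Fin 3) (Fin 3) F))) * D := by
          rw [h2]; simp only [Matrix.mul_assoc, Matrix.one_mul]
    _ = 0 := by rw [hab, Matrix.mul_zero, Matrix.zero_mul]

theorem conj_inv {g h : GUJ σ} (H : IsConj g h) :
    (mat σ g).trace = (mat σ h).trace ∧ (mat σ g).det = (mat σ h).det ∧
      (M2 (mat σ g) ↔ M2 (mat σ h)) ∧ (M1 (mat σ g) ↔ M1 (mat σ h)) := by
  obtain ⟨C, D, h1, h2, h3⟩ := conj_mat H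
  have h4 : mat σ g = D * mat σ h * C := by
    rw [h3]
    calc mat σ g = (D * C) * mat σ g * (D * C) := by rw [h2, Matrix.one_mul, Matrix.mul_one]
      _ = _ := by simp only [Matrix.mul_assoc]
  refine ⟨?_, ?_, ⟨M2_of h1 h2 h3, M2_of h2 h1 h4⟩, ⟨M1_of h1 h3, M1_of h2 h4⟩⟩
  · rw [h3, Matrix.trace_mul_comm, ← Matrix.mul_assoc, h2, Matrix.one_mul]
  · rw [h3, Matrix.det_mul, Matrix.det_mul, mul_comm C.det, mul_assoc, ← Matrix.det_mul, h1,
      Matrix.det_one, mul_one]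

/-- The entrywise form of membership. -/
theorem form_iff (M : Matrix (Fin 3) (Fin 3) F) :
    Mᵀ * Jm F * M.map σ = Jm F ↔ ∀ i j, M 0 i * σ (M 2 j) + M 1 i * σ (M 1 j) + M 2 i * σ (M 0 j) =
      Jm F i j := by
  have key : ∀ i j, (Mᵀ * Jm F * M.map σ) i j =
      M 0 i * σ (M 2 j) + M 1 i * σ (M 1 j) + M 2 i * σ (M 0 j) := by
    intro i j
    simp only [Matrix.mul_apply, Fin.sum_univ_three, Jm, Matrix.transpose_apply, Matrix.map_apply,
      Matrix.of_apply, Matrix.cons_val', Matrix.cons_val_zero, Matrix.cons_val_one,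
      Matrix.cons_val_two, Matrix.empty_val', Matrix.cons_val_fin_one]
    simp
    ring
  constructor
  · intro h i j
    rw [← key, h]
  · intro h
    ext i j
    rw [key, h]

/-! ### The three families of matrices -/

/-- The cyclic family. -/
def cyc (σ : F →+* F) (s t x y : F) : Matrix (Fin 3) (Fin 3) F :=
  !![0, 0, (σ t)⁻¹; 0, s, -(s * σ x * (σ t)⁻¹); t, x, y]

theorem cyc_form (hσ : ∀ x, σ (σ x) = x) {s t x y : F} (hs : s * σ s = 1) (ht : t ≠ 0)
    (hx : x * σ x + (t * σ y + σ t * y) = 0) :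
    (cyc σ s t x y)ᵀ * Jm F * (cyc σ s t x y).map σ = Jm F := by
  have ht' : σ t ≠ 0 := (map_ne_zero σ).2 ht
  rw [form_iff]
  intro i j
  fin_cases i <;> fin_cases j <;> simp [cyc, Jm, hσ, ht, ht', hs]
  · field_simp
    linear_combination (-x) * hs
  · field_simp
    linear_combination (-σ x) * hs
  · field_simp
    linear_combination (x * σ x) * hs + hx

theorem cyc_trace (s t x y : F) : (cyc σ s t x y).trace = s + y := by
  simp [cyc, Matrix.trace, Fin.sum_univ_three]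

theorem cyc_det (s t x y : F) : (cyc σ s t x y).det = -(s * t * (σ t)⁻¹) := by
  rw [Matrix.det_fin_three]
  simp [cyc]
  ring

theorem cyc_M2 {s t x y : F} (hs : s ≠ 0) (ht : t ≠ 0) (hx : x ≠ 0) : ¬ M2 (cyc σ s t x y) := by
  rintro ⟨a, b, h⟩
  have h1 := congrFun (congrFun h 1) 0
  simp [cyc, Matrix.mul_apply, Fin.sum_univ_three, hs, ht, hx] at h1

/-- The quadratic family, different eigenvalues. -/
def dg (a b : F) : Matrix (Fin 3) (Fin 3) F := !![a, 0, 0; 0, b, 0; 0, 0, a]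

/-- The quadratic family, one eigenvalue. -/
def un (a y : F) : Matrix (Fin 3) (Fin 3) F := !![a, 0, a * y; 0, a, 0; 0, 0, a]

theorem dg_form {a b : F} (ha : a * σ a = 1) (hb : b * σ b = 1) :
    (dg a b)ᵀ * Jm F * (dg a b).map σ = Jm F := by
  rw [form_iff]
  intro i j
  fin_cases i <;> fin_cases j <;> simp [dg, Jm, ha, hb]

theorem un_form {a y : F} (ha : a * σ a = 1) (hy : y + σ y = 0) :
    (un a y)ᵀ * Jm F * (un a y).map σ = Jm F := by
  rw [form_iff]
  intro i j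
  fin_cases i <;> fin_cases j <;> simp [un, Jm, ha]
  linear_combination (y + σ y) * ha + hy

theorem dg_trace (a b : F) : (dg a b).trace = 2 * a + b := by
  simp [dg, Matrix.trace, Fin.sum_univ_three]; ring

theorem un_trace (a y : F) : (un a y).trace = 2 * a + a := by
  rw [Matrix.trace_fin_three]
  change a + a + a = 2 * a + a
  ring

theorem dg_det (a b : F) : (dg a b).det = a ^ 2 * b := by
  rw [Matrix.det_fin_three]; simp [dg]; ring

theorem un_det (a y : F) : (un a y).det = a ^ 2 * a := by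
  rw [Matrix.det_fin_three]
  change a * a * a - a * 0 * 0 - 0 * 0 * a + 0 * 0 * 0 + (a * y) * 0 * 0 - (a * y) * a * 0 = _
  ring

theorem dg_M2 (a b : F) : M2 (dg a b) := by
  refine ⟨a, b, ?_⟩
  ext i j
  fin_cases i <;> fin_cases j <;> simp [dg, Matrix.mul_apply, Fin.sum_univ_three]

theorem un_M2 (a y : F) : M2 (un a y) := by
  refine ⟨a, a, ?_⟩
  ext i j
  fin_cases i <;> fin_cases j <;> simp [un, Matrix.mul_apply, Fin.sum_univ_three]

theorem dg_M1 {a b : F} (h : a ≠ b) : ¬ M1 (dg a b) := by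
  rintro ⟨c, hc⟩
  have h0 := congrFun (congrFun hc 0) 0
  have h1 := congrFun (congrFun hc 1) 1
  simp [dg] at h0 h1
  exact h (h0.trans h1.symm)

theorem un_M1 {a y : F} (ha : a ≠ 0) (hy : y ≠ 0) : ¬ M1 (un a y) := by
  rintro ⟨c, hc⟩
  have h0 := congrFun (congrFun hc 0) 2
  simp [un, ha, hy] at h0

theorem scal_M2 (a : F) : M2 (dg a a) := dg_M2 a a

theorem scal_M1 (a : F) : M1 (dg a a) := by
  refine ⟨a, ?_⟩
  ext i j
  fin_cases i <;> fin_cases j <;> simp [dg]

theorem pair_inj {a b a' b' : F} (ha : a * σ a = 1) (hb : b * σ b = 1) (ha' : a' * σ a' = 1)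
    (hb' : b' * σ b' = 1) (h1 : 2 * a + b = 2 * a' + b') (h2 : a ^ 2 * b = a' ^ 2 * b') :
    a = a' ∧ b = b' := by
  have e1 : a ^ 2 + 2 * a * b = a ^ 2 * b * σ (2 * a + b) := by
    rw [map_add, map_mul, map_ofNat]
    linear_combination (-2 * a * b) * ha - a ^ 2 * hb
  have e2 : a' ^ 2 + 2 * a' * b' = a' ^ 2 * b' * σ (2 * a' + b') := by
    rw [map_add, map_mul, map_ofNat]
    linear_combination (-2 * a' * b') * ha' - a' ^ 2 * hb'
  have e3 : a ^ 2 + 2 * a * b = a' ^ 2 + 2 * a' * b' := by rw [e1, e2, h1, h2]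
  have key : ∀ X : F, (X - a) ^ 2 * (X - b) = (X - a') ^ 2 * (X - b') := by
    intro X
    linear_combination (-X ^ 2) * h1 + X * e3 - h2
  have k1 := key a
  have k2 := key a'
  rw [sub_self, zero_pow two_ne_zero, zero_mul] at k1 k2
  by_cases h : a = a'
  · refine ⟨h, ?_⟩
    subst h
    exact add_left_cancel h1
  · exfalso
    have h3 : a = b' := by
      have := mul_eq_zero.1 k1.symm
      rcases this with h4 | h4
      · exact absurd (sub_eq_zero.1 (pow_eq_zero_iff two_ne_zero |>.1 h4)) h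
      · exact sub_eq_zero.1 h4
    have h4 : a' = b := by
      have := mul_eq_zero.1 k2
      rcases this with h4 | h4
      · exact absurd (sub_eq_zero.1 (pow_eq_zero_iff two_ne_zero |>.1 h4)).symm h
      · exact sub_eq_zero.1 h4
    apply h
    subst h3 h4
    linear_combination h1

/-! ### Finite fields -/

section Fin

variable [Fintype F] {q : ℕ}

/-- A nonzero cubic has a non-root among the elements of norm one. -/
theorem exists_nonroot (hF : Fintype.card F = q ^ 2) (hq : 3 ≤ q) {a b c d : F} (ha : a ≠ 0) :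
    ∃ w : F, w * w ^ q = 1 ∧ a * w ^ 3 + b * w ^ 2 + c * w + d ≠ 0 := by
  classical
  by_contra hcon
  push Not at hcon
  let P : Polynomial F := Polynomial.C a * Polynomial.X ^ 3 + Polynomial.C b * Polynomial.X ^ 2 +
    Polynomial.C c * Polynomial.X + Polynomial.C d
  have hdeg : P.natDegree = 3 := Polynomial.natDegree_cubic ha
  have hP : P ≠ 0 := by
    intro h0
    rw [h0] at hdeg
    simp at hdeg
  have hmem : ∀ w : {x : F // x * x ^ q = 1}, w.1 ∈ P.roots.toFinset := by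
    intro w
    rw [Multiset.mem_toFinset, Polynomial.mem_roots hP]
    simpa [P] using hcon w.1 w.2
  have hle : Nat.card {x : F // x * x ^ q = 1} ≤ P.roots.toFinset.card := by
    rw [← Nat.card_eq_finsetCard]
    exact Nat.card_le_card_of_injective
      (fun w : {x : F // x * x ^ q = 1} => (⟨w.1, hmem w⟩ : {x // x ∈ P.roots.toFinset}))
      (fun u v h => Subtype.ext (congrArg (fun z : {x // x ∈ P.roots.toFinset} => z.1) h))
  rw [card_norm_eq_one hF] at hle
  have h1 := Multiset.toFinset_card_le P.roots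
  have h2 := Polynomial.card_roots' P
  omega

/-- Hilbert 90. -/
theorem exists_h90 (hF : Fintype.card F = q ^ 2) {w : F} (hw : w * w ^ q = 1) :
    ∃ t : F, t ≠ 0 ∧ t ^ q = w * t := by
  have hw0 : w ≠ 0 := by
    rintro rfl
    rw [zero_mul] at hw
    exact zero_ne_one hw
  -- `t = u + σ(w u)` satisfies `σ t = σ u + w u`... we use `t = σ u + w⁻¹ u`
  by_contra hcon
  push Not at hcon
  -- for all `u`: `t := u ^ q + w⁻¹ * u` has `t ^ q = u + w * u ^ q = w * t`
  have h1 : ∀ u : F, u ^ q + w⁻¹ * u = 0 := by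
    intro u
    by_contra h0
    refine hcon _ h0 ?_
    rw [add_pow_q hF, pow_q_pow_q hF, mul_pow, inv_pow]
    have : (w ^ q)⁻¹ = w := inv_eq_of_mul_eq_one_left hw
    rw [this]
    field_simp
    ring
  have h2 := h1 1
  rw [one_pow, mul_one] at h2
  have h3 : w⁻¹ = -1 := by linear_combination h2
  obtain ⟨x, hx⟩ := exists_not_fixed hF
  apply hx
  have h4 := h1 x
  rw [h3] at h4
  linear_combination h4

/-- The cyclic family attains every trace and every determinant. -/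
theorem exists_cyc (hF : Fintype.card F = q ^ 2) (hq : 3 ≤ q) (hs : ∀ x, σ x = x ^ q) (a : F) {d : F}
    (hd : d * σ d = 1) : ∃ M : Matrix (Fin 3) (Fin 3) F, Mᵀ * Jm F * M.map σ = Jm F ∧ M.trace = a ∧
      M.det = d ∧ ¬ M2 M := by
  have hσ : ∀ x, σ (σ x) = x := fun x => by rw [hs, hs, pow_q_pow_q hF]
  have hd0 : d ≠ 0 := by
    rintro rfl
    rw [zero_mul] at hd
    exact zero_ne_one hd
  obtain ⟨w, hw, hne⟩ := exists_nonroot hF hq (a := d) (b := a) (c := σ a) (d := σ d) hd0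
  obtain ⟨t, ht, htw⟩ := exists_h90 hF hw
  have hσt : σ t = w * t := by rw [hs, htw]
  have hw1 : w * σ w = 1 := by rw [hs, hw]
  have hw0 : w ≠ 0 := by
    rintro rfl
    rw [zero_mul] at hw1
    exact zero_ne_one hw1
  let s : F := -(d * w)
  let y : F := a - s
  have hss : s * σ s = 1 := by
    simp only [s, map_neg, map_mul]
    linear_combination (w * σ w) * hd + hw1
  have hs0 : s ≠ 0 := by
    intro h0
    rw [h0, zero_mul] at hss
    exact zero_ne_one hss
  let c : F := -(t * σ y + σ t * y)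
  have hc : σ c = c := by
    simp only [c, map_neg, map_add, map_mul, hσ]
    ring
  have hc0 : c ≠ 0 := by
    intro h0
    apply hne
    have h1 : t * σ y + σ t * y = 0 := by
      simp only [c] at h0
      linear_combination -h0
    rw [hσt] at h1
    have h2 : σ y = σ a + σ d * σ w := by
      simp only [y, s, map_sub, map_neg, map_mul]
      ring
    have h3 : y = a + d * w := by simp only [y, s]; ring
    rw [h2, h3] at h1
    have h4 : t * (d * w ^ 3 + a * w ^ 2 + σ a * w + σ d) = 0 := by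
      linear_combination w * h1 - t * σ d * hw1
    exact (mul_eq_zero.1 h4).resolve_left ht
  obtain ⟨x, hx0, hx⟩ := exists_norm_eq_ne hF (c := c) (by rw [← hs, hc]) hc0
  refine ⟨cyc σ s t x y, cyc_form hσ hss ht ?_, ?_, ?_, cyc_M2 hs0 ht hx0⟩
  · rw [hs x, hx]
    simp only [c]
    ring
  · rw [cyc_trace]
    simp only [y]
    ring
  · rw [cyc_det, hσt]
    simp only [s]
    field_simp

theorem exists_quad (hF : Fintype.card F = q ^ 2) (hs : ∀ x, σ x = x ^ q) {a b : F}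
    (ha : a * σ a = 1) (hb : b * σ b = 1) : ∃ M : Matrix (Fin 3) (Fin 3) F,
      Mᵀ * Jm F * M.map σ = Jm F ∧ M.trace = 2 * a + b ∧ M.det = a ^ 2 * b ∧ M2 M ∧ ¬ M1 M := by
  by_cases h : a = b
  · subst h
    obtain ⟨y, hy0, hy⟩ := exists_trace_zero_ne hF
    have ha0 : a ≠ 0 := by
      rintro rfl
      rw [zero_mul] at ha
      exact zero_ne_one ha
    exact ⟨un a y, un_form ha (by rw [hs, hy]), un_trace a y, un_det a y, un_M2 a y, un_M1 ha0 hy0⟩
  · exact ⟨dg a b, dg_form ha hb, dg_trace a b, dg_det a b, dg_M2 a b, dg_M1 h⟩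

theorem card_classes {F : Type*} [Field F] [Fintype F] {q : ℕ} (hF : Fintype.card F = q ^ 2)
    (hq : 3 ≤ q) {σ : F →+* F} (hs : ∀ x, σ x = x ^ q) :
    (q + 1) * (q ^ 2 + q + 2) ≤ Nat.card (ConjClasses (Cfsg.Agent.H664.R1.U3.GUJ σ)) := by
  classical
  let N := {x : F // x * x ^ q = 1}
  have hN : Nat.card N = q + 1 := card_norm_eq_one hF
  have hσN : ∀ x : N, x.1 * σ x.1 = 1 := fun x => by rw [hs]; exact x.2
  have h3 : ∀ z : F × N, ∃ g : GUJ σ, (mat σ g).trace = z.1 ∧ (mat σ g).det = z.2.1 ∧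
      ¬ M2 (mat σ g) := by
    intro z
    obtain ⟨M, hM, h1, h2, h3⟩ := exists_cyc hF hq hs z.1 (hσN z.2)
    exact ⟨mk M hM, h1, h2, h3⟩
  have h2 : ∀ z : N × N, ∃ g : GUJ σ, (mat σ g).trace = 2 * z.1.1 + z.2.1 ∧
      (mat σ g).det = z.1.1 ^ 2 * z.2.1 ∧ M2 (mat σ g) ∧ ¬ M1 (mat σ g) := by
    intro z
    obtain ⟨M, hM, h1, h2, h3, h4⟩ := exists_quad hF hs (hσN z.1) (hσN z.2)
    exact ⟨mk M hM, h1, h2, h3, h4⟩
  choose f3 hf3 using h3
  choose f2 hf2 using h2
  let f1 : N → GUJ σ := fun z => mk (dg z.1 z.1) (dg_form (hσN z) (hσN z))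
  have hf1 : ∀ z : N, (mat σ (f1 z)).trace = 2 * z.1 + z.1 ∧ (mat σ (f1 z)).det = z.1 ^ 2 * z.1 ∧
      M2 (mat σ (f1 z)) ∧ M1 (mat σ (f1 z)) := fun z =>
    ⟨dg_trace _ _, dg_det _ _, scal_M2 _, scal_M1 _⟩
  let f : (F × N) ⊕ ((N × N) ⊕ N) → ConjClasses (GUJ σ) :=
    Sum.elim (fun z => ConjClasses.mk (f3 z))
      (Sum.elim (fun z => ConjClasses.mk (f2 z)) (fun z => ConjClasses.mk (f1 z)))
  have hf : Function.Injective f := by
    rintro (z | z | z) (w | w | w) h
    · obtain ⟨e1, e2, -, -⟩ := conj_inv (ConjClasses.mk_eq_mk_iff_isConj.1 h)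
      rw [(hf3 z).1, (hf3 w).1] at e1
      rw [(hf3 z).2.1, (hf3 w).2.1] at e2
      exact congrArg Sum.inl (Prod.ext e1 (Subtype.ext e2))
    · obtain ⟨-, -, e3, -⟩ := conj_inv (ConjClasses.mk_eq_mk_iff_isConj.1 h)
      exact absurd (e3.2 (hf2 w).2.2.1) (hf3 z).2.2
    · obtain ⟨-, -, e3, -⟩ := conj_inv (ConjClasses.mk_eq_mk_iff_isConj.1 h)
      exact absurd (e3.2 (hf1 w).2.2.1) (hf3 z).2.2
    · obtain ⟨-, -, e3, -⟩ := conj_inv (ConjClasses.mk_eq_mk_iff_isConj.1 h)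
      exact absurd (e3.1 (hf2 z).2.2.1) (hf3 w).2.2
    · obtain ⟨e1, e2, -, -⟩ := conj_inv (ConjClasses.mk_eq_mk_iff_isConj.1 h)
      rw [(hf2 z).1, (hf2 w).1] at e1
      rw [(hf2 z).2.1, (hf2 w).2.1] at e2
      obtain ⟨k1, k2⟩ := pair_inj (hσN z.1) (hσN z.2) (hσN w.1) (hσN w.2) e1 e2
      exact congrArg (fun t => Sum.inr (Sum.inl t)) (Prod.ext (Subtype.ext k1) (Subtype.ext k2))
    · obtain ⟨-, -, -, e4⟩ := conj_inv (ConjClasses.mk_eq_mk_iff_isConj.1 h)
      exact absurd (e4.2 (hf1 w).2.2.2) (hf2 z).2.2.2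
    · obtain ⟨-, -, e3, -⟩ := conj_inv (ConjClasses.mk_eq_mk_iff_isConj.1 h)
      exact absurd (e3.1 (hf1 z).2.2.1) (hf3 w).2.2
    · obtain ⟨-, -, -, e4⟩ := conj_inv (ConjClasses.mk_eq_mk_iff_isConj.1 h)
      exact absurd (e4.1 (hf1 z).2.2.2) (hf2 w).2.2.2
    · obtain ⟨e1, e2, -, -⟩ := conj_inv (ConjClasses.mk_eq_mk_iff_isConj.1 h)
      rw [(hf1 z).1, (hf1 w).1] at e1
      rw [(hf1 z).2.1, (hf1 w).2.1] at e2
      obtain ⟨k1, -⟩ := pair_inj (hσN z) (hσN z) (hσN w) (hσN w) e1 e2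
      exact congrArg (fun t => Sum.inr (Sum.inr t)) (Subtype.ext k1)
  have hGL : Finite (GUJ σ) := inferInstance
  have hfin : Finite (ConjClasses (GUJ σ)) := inferInstance
  have hle := Nat.card_le_card_of_injective f hf
  have hcard : Nat.card ((F × N) ⊕ ((N × N) ⊕ N)) = (q + 1) * (q ^ 2 + q + 2) := by
    rw [Nat.card_sum, Nat.card_sum, Nat.card_prod, Nat.card_prod, hN, Nat.card_eq_fintype_card, hF]
    ring
  rw [← hcard]
  exact hle

end Fin

end Cfsg.Agent.H198.GUThreeCount
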