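import Cfsg.Agent.H198.SaxTwo
import Cfsg.Agent.H160.QFinal
import Cfsg.Agent.H899.O7.Spec

/-!
# `Ω₇(3)` contains no good element (helper198)

`Good g` : `g ^ 9 = 1`, `g ^ 3 ≠ 1`, no involution commutes with `g`, and `g ^ 3` centralizes the involutions which commute
with their conjugate under `g ^ 3`.
-/

set_option autoImplicit false
set_option linter.unusedSectionVars false

namespace Cfsg.Agent.H198.Sax

open QuadraticMap Module Cfsg.Agent.LieClassical.OrthCore Cfsg.Agent.H160.QSpin Cfsg.Agent.H160.QDisc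

/-- the properties of the elements of type `(5, 3)` of `PΩ₈⁺(3)` -/
structure Good {G : Type*} [Group G] (g : G) : Prop where
  nine : g ^ 9 = 1
  three : g ^ 3 ≠ 1
  inv : ∀ y : G, y * y = 1 → y * g = g * y → y = 1
  quad : ∀ y : G, y * y = 1 → y * ((g ^ 3)⁻¹ * y * g ^ 3) = ((g ^ 3)⁻¹ * y * g ^ 3) * y → (g ^ 3)⁻¹ * y * g ^ 3 = y

theorem Good.comap {G H : Type*} [Group G] [Group H] {f : H →* G} (hf : Function.Injective f) {h : H}
    (hg : Good (f h)) : Good h := by
  refine ⟨hf ?_, fun e => hg.three ?_, fun y h1 h2 => hf ?_, fun y h1 h2 => hf ?_⟩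
  · rw [map_pow, hg.nine, map_one]
  · rw [← map_pow, e, map_one]
  · rw [map_one]
    apply hg.inv
    · rw [← map_mul, h1, map_one]
    · rw [← map_mul, h2, map_mul]
  · have h3 := hg.quad (f y) (by rw [← map_mul, h1, map_one]) (by
      have h4 := congrArg f h2
      simpa only [map_mul, map_inv, map_pow] using h4)
    simpa only [map_mul, map_inv, map_pow] using h3

variable {F V : Type*} [Field F] [Finite F] [AddCommGroup V] [Module F V] [Finite V] [FiniteDimensional F V]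
  {Q : QuadraticForm F V}

theorem el_comm {a b : V ≃ₗ[F] V} (ha : a ∈ O Q) (hb : b ∈ O Q) : El Q 1 (a * b * a⁻¹ * b⁻¹) := by
  refine ⟨(O Q).mul_mem ((O Q).mul_mem ((O Q).mul_mem ha hb) ((O Q).inv_mem ha)) ((O Q).inv_mem hb), ?_, ?_⟩
  · rw [map_mul, map_mul, map_mul, map_inv, map_inv, mul_right_comm (LinearEquiv.det a), mul_inv_cancel, one_mul,
      mul_inv_cancel]
  · have e : (⟨a * b * a⁻¹ * b⁻¹, (O Q).mul_mem ((O Q).mul_mem ((O Q).mul_mem ha hb) ((O Q).inv_mem ha))
      ((O Q).inv_mem hb)⟩ : O Q) = ⟨a, ha⟩ * ⟨b, hb⟩ * ⟨a, ha⟩⁻¹ * ⟨b, hb⟩⁻¹ := rfl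
    rw [e, map_mul, map_mul, map_mul, map_inv, map_inv, mul_right_comm (spin Q ⟨a, ha⟩), mul_inv_cancel, one_mul,
      mul_inv_cancel]

theorem det_neg_odd (he : Odd (finrank F V)) : LinearEquiv.det (LinearEquiv.neg F : V ≃ₗ[F] V) = -1 := by
  apply Units.ext
  rw [LinearEquiv.coe_det]
  have h : ((LinearEquiv.neg F : V ≃ₗ[F] V) : V →ₗ[F] V) = (-1 : F) • LinearMap.id := by
    ext x
    simp
  rw [h, LinearMap.det_smul, LinearMap.det_id, he.neg_one_pow]
  simp

/-- the group theoretic part of case A -/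
theorem groupA {w : V ≃ₗ[F] V} (h2 : (2 : F) ≠ 0) (hw : w ∈ O Q) (hw3 : w ^ 3 = 1) {v : V} (hv : Q v ≠ 0)
    (hvw : polar Q v (w v) = 0) :
    ∃ y, El Q 1 y ∧ y * y = 1 ∧ y * (w⁻¹ * y * w) = (w⁻¹ * y * w) * y ∧ w⁻¹ * y * w ≠ y := by
  have hv1 : Q (w v) ≠ 0 := by rw [mem_O.1 hw]; exact hv
  set r := refl Q v hv with hr
  set s := refl Q (w v) hv1 with hs
  have e1 : w * r * w⁻¹ = s := refl_conj hw hv hv1
  have hrr : r * r = 1 := refl_mul_self hv
  have hss : s * s = 1 := refl_mul_self hv1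
  have hrs : r * s = s * r := refl_comm hv hv1 hvw
  have hwi : w⁻¹ = w * w := by
    rw [inv_eq_iff_mul_eq_one, ← mul_assoc, ← pow_two, ← pow_succ]
    exact hw3
  set t := w⁻¹ * r * w with ht
  have e2 : w * s * w⁻¹ = t := by
    rw [← e1, ht]
    have h4 : w * (w * r * w⁻¹) * w⁻¹ = (w * w) * r * (w⁻¹ * w⁻¹) := by group
    rw [h4, ← hwi, ← mul_inv_rev, ← hwi, inv_inv]
  have e3 : w⁻¹ * s * w = r := by rw [← e1]; group
  have htr : t * r = r * t := by
    have h5 : w⁻¹ * (r * s) * w = w⁻¹ * (s * r) * w := by rw [hrs]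
    have h6 : w⁻¹ * (r * s) * w = t * (w⁻¹ * s * w) := by rw [ht]; group
    have h7 : w⁻¹ * (s * r) * w = (w⁻¹ * s * w) * t := by rw [ht]; group
    rw [h6, h7, e3] at h5
    exact h5
  have hst : s * t = t * s := by
    have h5 : w * (r * s) * w⁻¹ = w * (s * r) * w⁻¹ := by rw [hrs]
    have h6 : w * (r * s) * w⁻¹ = (w * r * w⁻¹) * (w * s * w⁻¹) := by group
    have h7 : w * (s * r) * w⁻¹ = (w * s * w⁻¹) * (w * r * w⁻¹) := by group
    rw [h6, h7, e1, e2] at h5
    exact h5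
  have hy : w⁻¹ * (r * s) * w = t * r := by
    have h6 : w⁻¹ * (r * s) * w = t * (w⁻¹ * s * w) := by rw [ht]; group
    rw [h6, e3]
  refine ⟨r * s, ?_, ?_, ?_, ?_⟩
  · have h4 := el_comm (refl_mem_O hv) hw
    have h5 : refl Q v hv * w * (refl Q v hv)⁻¹ * w⁻¹ = r * s := by
      rw [refl_inv, ← e1, ← hr, mul_assoc, mul_assoc, mul_assoc]
    rw [h5] at h4
    exact h4
  · calc r * s * (r * s) = r * (s * r) * s := by group
      _ = r * (r * s) * s := by rw [hrs]
      _ = (r * r) * (s * s) := by group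
      _ = 1 := by rw [hrr, hss, one_mul]
  · rw [hy]
    calc r * s * (t * r) = r * (s * t) * r := by group
      _ = r * (t * s) * r := by rw [hst]
      _ = (r * t) * (s * r) := by group
      _ = (t * r) * (r * s) := by rw [← htr, ← hrs]
  · rw [hy]
    intro h
    have h5 : t = s := by
      rw [htr] at h
      exact mul_left_cancel h
    have h6 : s = r := by
      have h7 : w⁻¹ * (w * s * w⁻¹) * w = w⁻¹ * s * w := by rw [e2.trans h5]
      have h8 : w⁻¹ * (w * s * w⁻¹) * w = s := by group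
      rw [h8, e3] at h7
      exact h7
    have h7 := congrArg (fun f : V ≃ₗ[F] V => f v) h6
    simp only [hr, hs, refl_apply] at h7
    rw [polar_comm Q (w v) v, hvw, mul_zero, zero_smul, sub_zero, polar_self'] at h7
    have h8 : (Q v)⁻¹ * (2 * Q v) = 2 := by field_simp
    rw [h8] at h7
    have h9 : (2 : F) • v = 0 := by
      have : v - (v - (2 : F) • v) = 0 := by rw [← h7, sub_self]
      rwa [sub_sub_cancel] at this
    rcases smul_eq_zero.1 h9 with h10 | h10
    · exact h2 h10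
    · rw [h10, QuadraticMap.map_zero] at hv
      exact hv rfl

/-- the group theoretic part of case B -/
theorem groupB {m : V ≃ₗ[F] V} (h2 : (2 : F) ≠ 0) (hm : m ∈ O Q) (hodd : Odd (finrank F V)) {x₁ x₂ : V}
    (hx₁ : Q x₁ ≠ 0) (hx₂ : Q x₂ ≠ 0) (h12 : polar Q x₁ x₂ = 0) (hf₁ : m x₁ = x₁) (hf₂ : m x₂ = x₂) :
    ∃ y, El Q 1 y ∧ y * y = 1 ∧ y * m = m * y ∧ y ≠ 1 := by
  set r := refl Q x₁ hx₁ with hr
  set s := refl Q x₂ hx₂ with hs
  set n : V ≃ₗ[F] V := LinearEquiv.neg F with hn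
  have hrr : r * r = 1 := refl_mul_self hx₁
  have hss : s * s = 1 := refl_mul_self hx₂
  have hrs : r * s = s * r := refl_comm hx₁ hx₂ h12
  have hfix : ∀ {x : V} (hx : Q x ≠ 0), m x = x → refl Q x hx * m = m * refl Q x hx := by
    intro x hx hmx
    have h4 : Q (m x) ≠ 0 := by rw [hmx]; exact hx
    have h5 := refl_conj hm hx h4
    have h6 : refl Q (m x) h4 = refl Q x hx := by congr 1
    rw [h6, mul_inv_eq_iff_eq_mul] at h5
    exact h5.symm
  have hrm : r * m = m * r := hfix hx₁ hf₁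
  have hsm : s * m = m * s := hfix hx₂ hf₂
  have hnc : ∀ g : V ≃ₗ[F] V, n * g = g * n := by
    intro g
    apply LinearEquiv.ext
    intro x
    change -(g x) = g (-x)
    rw [map_neg]
  have hnn : n * n = 1 := by
    apply LinearEquiv.ext
    intro x
    change -(-x) = x
    rw [neg_neg]
  have hnr : n * r * (n * r) = 1 := by
    calc n * r * (n * r) = n * (r * n) * r := by group
      _ = n * (n * r) * r := by rw [← hnc r]
      _ = (n * n) * (r * r) := by group
      _ = 1 := by rw [hnn, hrr, one_mul]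
  have hns : n * s * (n * s) = 1 := by
    calc n * s * (n * s) = n * (s * n) * s := by group
      _ = n * (n * s) * s := by rw [← hnc s]
      _ = (n * n) * (s * s) := by group
      _ = 1 := by rw [hnn, hss, one_mul]
  have hv0 : ∀ {x : V}, Q x ≠ 0 → x ≠ 0 := by
    rintro x hx rfl
    exact hx (QuadraticMap.map_zero Q)
  have hneg : ∀ {x : V}, Q x ≠ 0 → -x ≠ x := by
    intro x hx h
    have h4 : (2 : F) • x = 0 := by
      rw [two_smul]
      nth_rewrite 1 [← h]
      exact neg_add_cancel x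
    rcases smul_eq_zero.1 h4 with h5 | h5
    · exact h2 h5
    · exact hv0 hx h5
  have hr1 : r x₁ = -x₁ := by
    rw [hr, refl_apply, polar_self']
    have h8 : (Q x₁)⁻¹ * (2 * Q x₁) = 2 := by field_simp
    rw [h8, two_smul]
    abel
  have hr2 : r x₂ = x₂ := by
    rw [hr, refl_apply, h12, mul_zero, zero_smul, sub_zero]
  have hs1 : s x₁ = x₁ := by
    rw [hs, refl_apply, polar_comm, h12, mul_zero, zero_smul, sub_zero]
  -- spinor signs
  set a := spin Q ⟨r, refl_mem_O hx₁⟩ with ha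
  set b := spin Q ⟨s, refl_mem_O hx₂⟩ with hb
  set c := spin Q ⟨n, neg_mem_O Q⟩ with hc
  have hdr : LinearEquiv.det r = -1 := det_refl hx₁
  have hds : LinearEquiv.det s = -1 := det_refl hx₂
  have hdn : LinearEquiv.det n = -1 := det_neg_odd hodd
  have El1 : El Q (a * b) (r * s) := by
    refine ⟨(O Q).mul_mem (refl_mem_O hx₁) (refl_mem_O hx₂), by rw [map_mul, hdr, hds]; simp, ?_⟩
    rw [ha, hb, ← map_mul]
    rfl
  have El2 : El Q (c * a) (n * r) := by
    refine ⟨(O Q).mul_mem (neg_mem_O Q) (refl_mem_O hx₁), by rw [map_mul, hdr, hdn]; simp, ?_⟩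
    rw [ha, hc, ← map_mul]
    rfl
  have El3 : El Q (c * b) (n * s) := by
    refine ⟨(O Q).mul_mem (neg_mem_O Q) (refl_mem_O hx₂), by rw [map_mul, hds, hdn]; simp, ?_⟩
    rw [hb, hc, ← map_mul]
    rfl
  have hcases : a * b = 1 ∨ c * a = 1 ∨ c * b = 1 := by
    rcases Int.units_eq_one_or a with h4 | h4 <;> rcases Int.units_eq_one_or b with h5 | h5 <;>
      rcases Int.units_eq_one_or c with h6 | h6 <;> rw [h4, h5, h6] <;> decide
  rcases hcases with h | h | h
  · rw [h] at El1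
    refine ⟨r * s, El1, ?_, ?_, ?_⟩
    · calc r * s * (r * s) = r * (s * r) * s := by group
        _ = r * (r * s) * s := by rw [hrs]
        _ = (r * r) * (s * s) := by group
        _ = 1 := by rw [hrr, hss, one_mul]
    · rw [mul_assoc, hsm, ← mul_assoc, hrm, mul_assoc]
    · intro h4
      have h5 := congrArg (fun f : V ≃ₗ[F] V => f x₁) h4
      have h6 : (r * s) x₁ = -x₁ := by
        change r (s x₁) = _
        rw [hs1, hr1]
      exact hneg hx₁ (h6.symm.trans h5)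
  · rw [h] at El2
    refine ⟨n * r, El2, hnr, ?_, ?_⟩
    · rw [mul_assoc, hrm, ← mul_assoc, hnc m, mul_assoc]
    · intro h4
      have h5 := congrArg (fun f : V ≃ₗ[F] V => f x₂) h4
      have h6 : (n * r) x₂ = -x₂ := by
        change -(r x₂) = _
        rw [hr2]
      exact hneg hx₂ (h6.symm.trans h5)
  · rw [h] at El3
    refine ⟨n * s, El3, hns, ?_, ?_⟩
    · rw [mul_assoc, hsm, ← mul_assoc, hnc m, mul_assoc]
    · intro h4
      have h5 := congrArg (fun f : V ≃ₗ[F] V => f x₁) h4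
      have h6 : (n * s) x₁ = -x₁ := by
        change -(s x₁) = _
        rw [hs1]
      exact hneg hx₁ (h6.symm.trans h5)

/-- the isometries of determinant and spinor sign one of a seven dimensional space contain no good element -/
theorem seven (h2 : (2 : F) ≠ 0) (h3 : (3 : F) = 0) (hQ : Nondeg Q) (h7 : finrank F V = 7) {m : V ≃ₗ[F] V}
    (hm : m ∈ O Q) (h9 : m ^ 9 = 1) (hm3 : m ^ 3 ≠ 1) :
    (∃ y, El Q 1 y ∧ y * y = 1 ∧ y * m = m * y ∧ y ≠ 1) ∨
      ∃ y, El Q 1 y ∧ y * y = 1 ∧ y * ((m ^ 3)⁻¹ * y * m ^ 3) = ((m ^ 3)⁻¹ * y * m ^ 3) * y ∧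
        (m ^ 3)⁻¹ * y * m ^ 3 ≠ y := by
  have hw3 : (m ^ 3) ^ 3 = 1 := by rw [← pow_mul]; exact h9
  have hw : m ^ 3 ∈ O Q := (O Q).pow_mem hm 3
  have hnil := nil_cube h3 m
  by_cases h6 : nil m ^ 6 = 0
  · left
    have hn3 : nil m ^ 3 ≠ 0 := by
      intro h
      apply hm3
      rw [← hnil] at h
      apply LinearEquiv.ext
      intro x
      have h4 : nil (m ^ 3) x = 0 := by rw [h]; rfl
      rw [nil_apply, sub_eq_zero] at h4
      exact h4
    obtain ⟨x₁, x₂, hx₁, hx₂, h12, hf₁, hf₂⟩ := caseB h2 hQ hm h7 h6 hn3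
    exact groupB h2 hm (by rw [h7]; decide) hx₁ hx₂ h12 hf₁ hf₂
  · right
    have hD : nil (m ^ 3) ^ 2 ≠ 0 := by
      rw [hnil, ← pow_mul]
      exact h6
    obtain ⟨v, hv, hvw⟩ := caseA h2 h3 hQ hw hw3 hD
    exact groupA h2 hw hw3 hv hvw

end Cfsg.Agent.H198.Sax
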