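import Cfsg.Agent.H198.SaxMat
import Cfsg.Agent.H198.SaxSeven

/-!
# A good element of `PΩ₈⁺(3)` (helper198)
-/

set_option autoImplicit false
set_option linter.unusedSectionVars false
set_option maxRecDepth 100000

namespace Cfsg.Agent.H198.Sax

open QuadraticMap Module Matrix
open Cfsg.Agent.LieClassical.OrthCore Cfsg.Agent.LieClassical.OrthForms
  Cfsg.Agent.H160.QSpin Cfsg.Agent.H160.QDisc
open Cfsg.Agent.H899.O7.PolyList (R)
open Cfsg.Agent.H899.O7.Mat (T T_apply)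
open Cfsg.Agent.H899.O7.Spec (Q8 hQ8 toP toP_surj toP_eq_one_iff sing8 Ome mem_Ome)

/-- the index set -/
abbrev J8 := Fin 4 ⊕ Fin 4

/-- the numbering of the index set -/
def idx (s : J8) : Fin 8 := match s with
  | .inl i => ⟨i, by omega⟩
  | .inr i => ⟨4 + i, by omega⟩

def G8 : Matrix J8 J8 R :=
  (!![1, 0, 2, 0, 0, 0, 0, 1; 0, 0, 2, 0, 0, 0, 0, 0; 0, 1, 2, 1, 2, 0, 0, 0; 0, 0, 0, 1, 2, 0, 0, 0; 0, 0, 0, 0, 1, 0, 0, 0; 0, 0, 0, 0, 2, 2, 2, 0; 0, 0, 0, 0, 0, 1, 0, 0; 0, 0, 0, 0, 0, 2, 0, 1] : Matrix (Fin 8) (Fin 8) R).submatrix idx idx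

def G8i : Matrix J8 J8 R :=
  (!![1, 2, 0, 0, 0, 0, 2, 2; 0, 2, 1, 2, 0, 0, 0, 0; 0, 2, 0, 0, 0, 0, 0, 0; 0, 0, 0, 1, 1, 0, 0, 0; 0, 0, 0, 0, 1, 0, 0, 0; 0, 0, 0, 0, 0, 0, 1, 0; 0, 0, 0, 0, 2, 2, 2, 0; 0, 0, 0, 0, 0, 0, 1, 1] : Matrix (Fin 8) (Fin 8) R).submatrix idx idx

def Gram : Matrix J8 J8 R :=
  (!![0, 0, 0, 0, 1, 0, 0, 0; 0, 0, 0, 0, 0, 1, 0, 0; 0, 0, 0, 0, 0, 0, 1, 0; 0, 0, 0, 0, 0, 0, 0, 1; 1, 0, 0, 0, 0, 0, 0, 0; 0, 1, 0, 0, 0, 0, 0, 0; 0, 0, 1, 0, 0, 0, 0, 0; 0, 0, 0, 1, 0, 0, 0, 0] : Matrix (Fin 8) (Fin 8) R).submatrix idx idx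

def P8 : Matrix J8 (Fin 8) R :=
  (!![2, 2, 0, 0, 1, 0, 0, 0; 0, 2, 1, 0, 1, 0, 0, 0; 0, 1, 2, 1, 1, 0, 2, 0; 0, 0, 0, 0, 0, 1, 2, 0; 0, 0, 0, 0, 0, 0, 0, 1; 0, 0, 0, 2, 2, 0, 2, 0; 0, 0, 0, 2, 2, 1, 0, 0; 0, 1, 1, 0, 1, 0, 0, 0] : Matrix (Fin 8) (Fin 8) R).submatrix idx id

def P8i : Matrix (Fin 8) J8 R :=
  (!![2, 0, 1, 2, 0, 0, 1, 1; 0, 1, 0, 0, 0, 0, 0, 2; 0, 1, 2, 1, 0, 0, 2, 2; 0, 2, 2, 0, 0, 1, 0, 0; 0, 1, 1, 2, 0, 0, 1, 0; 0, 0, 0, 2, 0, 1, 2, 0; 0, 0, 0, 1, 0, 1, 2, 0; 0, 0, 0, 0, 1, 0, 0, 0] : Matrix (Fin 8) (Fin 8) R).submatrix id idx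

def U8 : Matrix J8 (Fin 2) R :=
  (!![1, 0; 0, 1; 0, 2; 0, 0; 0, 0; 0, 0; 0, 0; 0, 1] : Matrix (Fin 8) (Fin 2) R).submatrix idx id

def W8 : Matrix (Fin 2) J8 R :=
  (!![0, 0, 0, 2, 0, 2, 1, 0; 0, 0, 0, 0, 1, 0, 0, 0] : Matrix (Fin 2) (Fin 8) R).submatrix id idx

theorem G8_G8i : G8 * G8i = 1 := by decide +kernel
theorem G8i_G8 : G8i * G8 = 1 := by decide +kernel
theorem G8_pow : G8 ^ 9 = 1 := by decide +kernel
theorem G8_ne : G8 ^ 3 ≠ 1 := by decide +kernel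
theorem G8_gram : G8ᵀ * Gram * G8 = Gram := by decide +kernel
theorem P8_P8i : P8 * P8i = 1 := by decide +kernel
theorem P8i_P8 : P8i * P8 = 1 := by decide +kernel
theorem conj_G8 : P8i * G8 * P8 = 1 + Nm := by decide +kernel
theorem G8_sq : (G8 ^ 3 - 1) * (G8 ^ 3 - 1) = 0 := by decide +kernel
theorem G8_fac : G8 ^ 3 - 1 = U8 * W8 := by decide +kernel

def g8 : GL J8 R := ⟨G8, G8i, G8_G8i, G8i_G8⟩

theorem polar_gram (x y : J8 → R) : polar Q8 x y = x ⬝ᵥ (Gram *ᵥ y) := by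
  rw [polar_plusForm]
  simp only [dotProduct, mulVec, Fintype.sum_sum_type, Fin.sum_univ_four]
  simp [Gram, idx]
  ring

theorem g8_mem : T g8 ∈ O Q8 := by
  intro v
  have h1 : polar Q8 (T g8 v) (T g8 v) = polar Q8 v v := by
    rw [polar_gram, polar_gram, T_apply]
    change (G8 *ᵥ v) ⬝ᵥ (Gram *ᵥ (G8 *ᵥ v)) = _
    rw [Matrix.mulVec_mulVec, Matrix.dotProduct_mulVec, Matrix.vecMul_mulVec, ← Matrix.mul_assoc, G8_gram,
      ← Matrix.dotProduct_mulVec]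
  rw [polar_self', polar_self'] at h1
  exact mul_left_cancel₀ (by decide) h1

theorem T_pow (n : ℕ) : (T g8) ^ n = T (g8 ^ n) := (map_pow T g8 n).symm

theorem g8_nine : (T g8) ^ 9 = 1 := by
  rw [T_pow]
  have : g8 ^ 9 = 1 := by
    apply Units.ext
    rw [Units.val_pow_eq_pow_val]
    exact G8_pow
  rw [this, map_one]

theorem g8_three : (T g8) ^ 3 ≠ 1 := by
  rw [T_pow]
  intro h
  rw [map_eq_one_iff T T.injective] at h
  have h1 := congrArg Units.val h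
  rw [Units.val_pow_eq_pow_val] at h1
  exact G8_ne h1

theorem el_g8 : El Q8 1 (T g8) := by
  apply El.of_odd hQ8 g8_mem
  have h1 : orderOf (T g8) ∣ 9 := orderOf_dvd_of_pow_eq_one g8_nine
  exact Odd.of_dvd_nat (by decide) h1

/-- the matrix of a linear automorphism -/
noncomputable def mx (y : (J8 → R) ≃ₗ[R] (J8 → R)) : Matrix J8 J8 R := ((T.symm y : GL J8 R) : Matrix J8 J8 R)

theorem mx_mulVec (y : (J8 → R) ≃ₗ[R] (J8 → R)) (v : J8 → R) : mx y *ᵥ v = y v := by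
  rw [mx, ← T_apply, MulEquiv.apply_symm_apply]

theorem mx_mul (y z : (J8 → R) ≃ₗ[R] (J8 → R)) : mx (y * z) = mx y * mx z := by
  rw [mx, map_mul, Units.val_mul]; rfl

theorem mx_inj {y z : (J8 → R) ≃ₗ[R] (J8 → R)} (h : mx y = mx z) : y = z :=
  T.symm.injective (Units.ext h)

theorem mx_one : mx 1 = 1 := by rw [mx, map_one]; rfl

theorem mx_neg : mx (LinearEquiv.neg R) = -1 := by
  have h : T (-1 : GL J8 R) = LinearEquiv.neg R := by
    apply LinearEquiv.ext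
    intro v
    rw [T_apply, LinearEquiv.neg_apply, Units.val_neg, Units.val_one, Matrix.neg_mulVec, Matrix.one_mulVec]
  rw [mx, ← h, MulEquiv.symm_apply_apply, Units.val_neg, Units.val_one]

theorem mx_det (y : (J8 → R) ≃ₗ[R] (J8 → R)) (h : LinearEquiv.det y = 1) : (mx y).det = 1 := by
  have h1 := congrArg Units.val h
  rw [LinearEquiv.coe_det, Units.val_one] at h1
  rw [← h1, ← LinearMap.det_toLin']
  congr 1
  apply LinearMap.ext
  intro v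
  rw [Matrix.toLin'_apply, mx_mulVec]
  rfl

/-- the only involutions of determinant one modulo scalars commuting with `g8` -/
theorem cent_g8 {y : (J8 → R) ≃ₗ[R] (J8 → R)} (hy : LinearEquiv.det y = 1) (hc : y * T g8 = T g8 * y)
    (hsq : y * y = 1 ∨ y * y = LinearEquiv.neg R) : y = 1 ∨ y = LinearEquiv.neg R := by
  set X : Matrix (Fin 8) (Fin 8) R := P8i * mx y * P8 with hX
  have hg : mx (T g8) = G8 := by rw [mx, MulEquiv.symm_apply_apply]; rfl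
  have hc' : mx y * G8 = G8 * mx y := by rw [← hg, ← mx_mul, ← mx_mul, hc]
  have h1 : X * (1 + Nm) = (1 + Nm) * X := by
    rw [← conj_G8, hX]
    calc P8i * mx y * P8 * (P8i * G8 * P8) = P8i * mx y * (P8 * P8i) * G8 * P8 := by simp only [Matrix.mul_assoc]
      _ = P8i * (mx y * G8) * P8 := by rw [P8_P8i, Matrix.mul_one]; simp only [Matrix.mul_assoc]
      _ = P8i * (G8 * mx y) * P8 := by rw [hc']
      _ = P8i * G8 * (P8 * P8i) * mx y * P8 := by rw [P8_P8i, Matrix.mul_one]; simp only [Matrix.mul_assoc]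
      _ = P8i * G8 * P8 * (P8i * mx y * P8) := by simp only [Matrix.mul_assoc]
  have h2 : X * Nm = Nm * X := by
    rw [mul_add, add_mul, mul_one, one_mul] at h1
    exact add_left_cancel h1
  have h3 : X * X = P8i * mx (y * y) * P8 := by
    rw [hX, mx_mul]
    calc P8i * mx y * P8 * (P8i * mx y * P8) = P8i * mx y * (P8 * P8i) * mx y * P8 := by simp only [Matrix.mul_assoc]
      _ = P8i * (mx y * mx y) * P8 := by rw [P8_P8i, Matrix.mul_one]; simp only [Matrix.mul_assoc]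
  have h4 : X * X = 1 ∨ X * X = -1 := by
    rcases hsq with h | h
    · left
      rw [h3, h, mx_one, Matrix.mul_one, P8i_P8]
    · right
      rw [h3, h, mx_neg, Matrix.mul_neg, Matrix.mul_one, Matrix.neg_mul, P8i_P8]
  have h5 : X.det = 1 := by
    rw [hX, Matrix.det_conj_of_mul_eq_one P8i_P8 P8_P8i, mx_det y hy]
  have h6 : mx y = P8 * X * P8i := by
    rw [hX]
    calc mx y = (P8 * P8i) * mx y * (P8 * P8i) := by rw [P8_P8i, Matrix.one_mul, Matrix.mul_one]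
      _ = P8 * (P8i * mx y * P8) * P8i := by simp only [Matrix.mul_assoc]
  rcases cent h2 h4 h5 with h | h
  · left
    apply mx_inj
    rw [h6, h, Matrix.mul_one, P8_P8i, mx_one]
  · right
    apply mx_inj
    rw [h6, h, Matrix.mul_neg, Matrix.mul_one, Matrix.neg_mul, P8_P8i, mx_neg]

end Cfsg.Agent.H198.Sax
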