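import Mathlib
import Cfsg.Agent.LieClassical.OrthCore

/-!
# Unipotent isometries of a seven dimensional space in characteristic three (helper198)
-/

set_option autoImplicit false
set_option linter.unusedSectionVars false

namespace Cfsg.Agent.H198.Sax

open QuadraticMap Module Cfsg.Agent.LieClassical.OrthCore

section Rank

variable {F V : Type*} [Field F] [AddCommGroup V] [Module F V] [FiniteDimensional F V]

/-- the ranks of the powers of a nilpotent map are convex -/
theorem rank_ineq (N : Module.End F V) {j k : ℕ} (hj : N ^ (j + 1) = 0) (hk : k ≤ j) :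
    finrank F (LinearMap.range (N ^ (k + 1))) + finrank F (LinearMap.range (N ^ j)) ≤
      finrank F (LinearMap.range (N ^ k)) := by
  set A := LinearMap.range (N ^ k) with hA
  let f : A →ₗ[F] V := N.domRestrict A
  have h1 : LinearMap.range f = LinearMap.range (N ^ (k + 1)) := by
    ext x
    constructor
    · rintro ⟨⟨y, z, rfl⟩, rfl⟩
      refine ⟨z, ?_⟩
      rw [pow_succ']
      rfl
    · rintro ⟨z, rfl⟩
      refine ⟨⟨(N ^ k) z, z, rfl⟩, ?_⟩
      rw [pow_succ']
      rfl
  have h2 : LinearMap.range (N ^ j) ≤ (LinearMap.ker f).map A.subtype := by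
    rintro _ ⟨z, rfl⟩
    have h3 : (N ^ j) z ∈ A := by
      refine ⟨(N ^ (j - k)) z, ?_⟩
      rw [← Module.End.mul_apply, ← pow_add, Nat.add_sub_cancel' hk]
    refine ⟨⟨_, h3⟩, ?_, rfl⟩
    change (N * N ^ j) z = 0
    rw [← pow_succ', hj]
    rfl
  have h3 := LinearMap.finrank_range_add_finrank_ker f
  rw [h1] at h3
  have h4 := Submodule.finrank_mono h2
  rw [Submodule.finrank_map_subtype_eq] at h4
  omega

theorem rank_mul (N : Module.End F V) {j : ℕ} (hj : N ^ (j + 1) = 0) :
    (j + 1) * finrank F (LinearMap.range (N ^ j)) ≤ finrank F V := by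
  have key : ∀ k : ℕ, k ≤ j → finrank F (LinearMap.range (N ^ k)) + k * finrank F (LinearMap.range (N ^ j)) ≤
      finrank F V := by
    intro k
    induction k with
    | zero => intro _; rw [zero_mul, add_zero]; exact Submodule.finrank_le _
    | succ k ih =>
      intro hk
      have h1 := ih (by omega)
      have h2 := rank_ineq N hj (k := k) (by omega)
      rw [add_mul, one_mul]
      omega
  have h1 := key j le_rfl
  rw [add_mul, one_mul]
  omega

theorem finrank_range_pos {A : Module.End F V} (h : A ≠ 0) : 1 ≤ finrank F (LinearMap.range A) := by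
  by_contra h1
  have h2 : finrank F (LinearMap.range A) = 0 := by omega
  rw [Submodule.finrank_eq_zero, LinearMap.range_eq_bot] at h2
  exact h h2

theorem nilp_bound (N : Module.End F V) {n : ℕ} (hn : finrank F V ≤ n) {j : ℕ} (hj : N ^ j = 0) : N ^ n = 0 := by
  classical
  have hex : ∃ j, N ^ j = 0 := ⟨j, hj⟩
  set s := Nat.find hex with hs
  have h1 : N ^ s = 0 := Nat.find_spec hex
  by_cases hsn : s ≤ n
  · rw [← Nat.sub_add_cancel hsn, pow_add, h1, mul_zero]
  · exfalso
    obtain ⟨k, hk⟩ : ∃ k, s = k + 1 := ⟨s - 1, by omega⟩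
    have h2 : N ^ k ≠ 0 := Nat.find_min hex (by omega)
    have h3 := finrank_range_pos h2
    rw [hk] at h1
    have h4 := rank_mul N h1
    have h5 : k + 1 ≤ (k + 1) * finrank F (LinearMap.range (N ^ k)) := Nat.le_mul_of_pos_right _ h3
    omega

/-- an alternating map of rank one is zero -/
theorem alt_zero {b : V → V → F} (hadd : ∀ x x' y, b (x + x') y = b x y + b x' y)
    (hsmul : ∀ x (c : F) y, b x (c • y) = c * b x y)
    (hnd : ∀ y, (∀ x, b x y = 0) → y = 0) (A : Module.End F V)
    (hr : finrank F (LinearMap.range A) ≤ 1) (halt : ∀ x, b x (A x) = 0) : A = 0 := by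
  by_contra hA
  obtain ⟨x, hx⟩ : ∃ x, A x ≠ 0 := by
    by_contra h
    push Not at h
    exact hA (LinearMap.ext h)
  have h1 : LinearMap.range A = Submodule.span F {A x} := by
    symm
    apply Submodule.eq_of_le_of_finrank_le
    · rw [Submodule.span_singleton_le_iff_mem]
      exact ⟨x, rfl⟩
    · rw [finrank_span_singleton hx]
      exact hr
  obtain ⟨y, hy⟩ : ∃ y, b y (A x) ≠ 0 := by
    by_contra h
    push Not at h
    exact hx (hnd _ h)
  have h2 : A y ∈ Submodule.span F {A x} := by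
    rw [← h1]
    exact ⟨y, rfl⟩
  obtain ⟨c, hc⟩ := Submodule.mem_span_singleton.1 h2
  have h3 := halt y
  rw [← hc, hsmul] at h3
  have hc0 : c = 0 := (mul_eq_zero.1 h3).resolve_right hy
  rw [hc0, zero_smul] at hc
  have h4 := halt (x + y)
  rw [map_add, ← hc, add_zero, hadd, halt x, zero_add] at h4
  exact hy h4

end Rank

section Adj

variable {F V : Type*} [Field F] [AddCommGroup V] [Module F V] {Q : QuadraticForm F V} {m : V ≃ₗ[F] V}

/-- `m - 1` -/
def nil (m : V ≃ₗ[F] V) : Module.End F V := (m : V →ₗ[F] V) - 1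

theorem nil_apply (m : V ≃ₗ[F] V) (x : V) : nil m x = m x - x := rfl

theorem adj_one (hm : m ∈ O Q) (x y : V) : polar Q (nil m x) y = polar Q x (nil m⁻¹ y) := by
  rw [nil_apply, nil_apply, polar_sub_left, polar_sub_right]
  congr 1
  have h1 : m (m⁻¹ y) = y := LinearEquiv.apply_symm_apply m y
  conv_lhs => rw [← h1]
  exact polar_map hm x (m⁻¹ y)

theorem adj_pow (hm : m ∈ O Q) (k : ℕ) (x y : V) :
    polar Q ((nil m ^ k) x) y = polar Q x ((nil m⁻¹ ^ k) y) := by
  induction k generalizing x with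
  | zero => rfl
  | succ k ih =>
    rw [pow_succ, Module.End.mul_apply, ih, adj_one hm, ← Module.End.mul_apply, ← pow_succ']

theorem nil_inv (m : V ≃ₗ[F] V) : nil m⁻¹ = - (((m⁻¹ : V ≃ₗ[F] V) : V →ₗ[F] V) * nil m) := by
  apply LinearMap.ext
  intro x
  change m⁻¹ x - x = - (m⁻¹ (m x - x))
  have h1 : m⁻¹ (m x) = x := LinearEquiv.symm_apply_apply m x
  rw [map_sub, h1]
  abel

theorem inv_mul_nil_pow {k : ℕ} (h : nil m ^ (k + 1) = 0) :
    (((m⁻¹ : V ≃ₗ[F] V) : V →ₗ[F] V) * nil m ^ k : Module.End F V) = nil m ^ k := by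
  apply LinearMap.ext
  intro x
  change m⁻¹ ((nil m ^ k) x) = (nil m ^ k) x
  have h1 : m ((nil m ^ k) x) = (nil m ^ k) x := by
    have h2 : (nil m ^ (k + 1)) x = 0 := by rw [h]; rfl
    rw [pow_succ', Module.End.mul_apply, nil_apply, sub_eq_zero] at h2
    exact h2
  conv_lhs => rw [← h1]
  exact LinearEquiv.symm_apply_apply m _

theorem nil_inv_pow {k : ℕ} (h : nil m ^ (k + 1) = 0) : nil m⁻¹ ^ k = (-1) ^ k • nil m ^ k := by
  have hc : Commute (((m⁻¹ : V ≃ₗ[F] V) : V →ₗ[F] V) : Module.End F V) (nil m) := by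
    apply LinearMap.ext
    intro x
    change m⁻¹ (m x - x) = m (m⁻¹ x) - m⁻¹ x
    have h1 : m⁻¹ (m x) = x := LinearEquiv.symm_apply_apply m x
    have h2 : m (m⁻¹ x) = x := LinearEquiv.apply_symm_apply m x
    rw [map_sub, h1, h2]
  rw [nil_inv, neg_pow, hc.mul_pow]
  have key : ∀ j : ℕ, (((m⁻¹ : V ≃ₗ[F] V) : V →ₗ[F] V) ^ j * nil m ^ k : Module.End F V) = nil m ^ k := by
    intro j
    induction j with
    | zero => rw [pow_zero, one_mul]
    | succ j ih => rw [pow_succ, mul_assoc, inv_mul_nil_pow h, ih]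
  rw [key, zsmul_eq_mul]
  push_cast
  rfl

/-- the top power of `m - 1` is symmetric or alternating -/
theorem adj_top (hm : m ∈ O Q) {k : ℕ} (h : nil m ^ (k + 1) = 0) (x y : V) :
    polar Q ((nil m ^ k) x) y = (-1) ^ k * polar Q x ((nil m ^ k) y) := by
  rw [adj_pow hm, nil_inv_pow h, LinearMap.smul_apply]
  rcases neg_one_pow_eq_or ℤ k with h1 | h1
  · have h2 : ((-1) ^ k : F) = 1 := by
      have := congrArg (fun z : ℤ => (z : F)) h1
      simpa using this
    rw [h1, h2, one_smul, one_mul]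
  · have h2 : ((-1) ^ k : F) = -1 := by
      have := congrArg (fun z : ℤ => (z : F)) h1
      simpa using this
    rw [h1, h2, neg_smul, one_smul, polar_neg_right, neg_one_mul]

theorem alt_top (h2 : (2 : F) ≠ 0) (hm : m ∈ O Q) {k : ℕ} (hk : Odd k) (h : nil m ^ (k + 1) = 0) (x : V) :
    polar Q x ((nil m ^ k) x) = 0 := by
  have h1 := adj_top hm h x x
  rw [hk.neg_one_pow, polar_comm] at h1
  have h3 : 2 * polar Q x ((nil m ^ k) x) = 0 := by linear_combination h1
  exact (mul_eq_zero.1 h3).resolve_left h2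

theorem sym_top (hm : m ∈ O Q) {k : ℕ} (hk : Even k) (h : nil m ^ (k + 1) = 0) (x y : V) :
    polar Q ((nil m ^ k) x) y = polar Q x ((nil m ^ k) y) := by
  rw [adj_top hm h, hk.neg_one_pow, one_mul]

/-- a vector with `b(a, N ^ k a) ≠ 0` -/
theorem exists_top (h2 : (2 : F) ≠ 0) (hQ : Nondeg Q) (hm : m ∈ O Q) {k : ℕ} (hk : Even k) (h : nil m ^ (k + 1) = 0)
    (h0 : nil m ^ k ≠ 0) : ∃ a, polar Q a ((nil m ^ k) a) ≠ 0 := by
  by_contra hn
  push Not at hn
  apply h0
  apply LinearMap.ext
  intro y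
  apply hQ
  intro x
  have h1 := hn (x + y)
  rw [map_add, polar_add_left, polar_add_right, polar_add_right, hn x, hn y, ← sym_top hm hk h y x,
    polar_comm Q ((nil m ^ k) y) x] at h1
  have h3 : 2 * polar Q x ((nil m ^ k) y) = 0 := by linear_combination h1
  rw [polar_comm]
  exact (mul_eq_zero.1 h3).resolve_left h2

end Adj

end Cfsg.Agent.H198.Sax
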