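import Mathlib

/-!
# The centralizer of a nilpotent matrix of type `(5, 3)` (helper198)
-/

set_option autoImplicit false
set_option linter.unusedSectionVars false
set_option maxRecDepth 100000

namespace Cfsg.Agent.H198.Sax

open Matrix

/-- the nilpotent matrix of type `(5, 3)` -/
def Nm : Matrix (Fin 8) (Fin 8) (ZMod 3) :=
  !![0, 0, 1, 0, 0, 0, 0, 0;
    0, 0, 0, 1, 0, 0, 0, 0;
    0, 0, 0, 0, 1, 0, 0, 0;
    0, 0, 0, 0, 0, 1, 0, 0;
    0, 0, 0, 0, 0, 0, 1, 0;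
    0, 0, 0, 0, 0, 0, 0, 0;
    0, 0, 0, 0, 0, 0, 0, 1;
    0, 0, 0, 0, 0, 0, 0, 0]

variable {X : Matrix (Fin 8) (Fin 8) (ZMod 3)}

theorem left_mul_Nm (X : Matrix (Fin 8) (Fin 8) (ZMod 3)) (i : Fin 8) :
    (X * Nm) i 0 = 0 ∧ (X * Nm) i 1 = 0 ∧ (X * Nm) i 2 = X i 0 ∧ (X * Nm) i 3 = X i 1 ∧ (X * Nm) i 4 = X i 2 ∧
      (X * Nm) i 5 = X i 3 ∧ (X * Nm) i 6 = X i 4 ∧ (X * Nm) i 7 = X i 6 := by
  refine ⟨?_, ?_, ?_, ?_, ?_, ?_, ?_, ?_⟩ <;>
    simp [Matrix.mul_apply, Fin.sum_univ_eight, Nm]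

theorem right_mul_Nm (X : Matrix (Fin 8) (Fin 8) (ZMod 3)) (j : Fin 8) :
    (Nm * X) 0 j = X 2 j ∧ (Nm * X) 1 j = X 3 j ∧ (Nm * X) 2 j = X 4 j ∧ (Nm * X) 3 j = X 5 j ∧ (Nm * X) 4 j = X 6 j ∧
      (Nm * X) 5 j = 0 ∧ (Nm * X) 6 j = X 7 j ∧ (Nm * X) 7 j = 0 := by
  refine ⟨?_, ?_, ?_, ?_, ?_, ?_, ?_, ?_⟩ <;>
    simp [Matrix.mul_apply, Fin.sum_univ_eight, Nm]

theorem tri (h : X * Nm = Nm * X) :
    (∀ i j : Fin 8, j < i → X i j = 0) ∧ X 6 6 = X 7 7 ∧ X 4 4 = X 7 7 ∧ X 2 2 = X 7 7 ∧ X 0 0 = X 7 7 ∧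
      X 3 3 = X 5 5 ∧ X 1 1 = X 5 5 := by
  have e : ∀ i j, (X * Nm) i j = (Nm * X) i j := fun i j => by rw [h]
  obtain ⟨a00, a01, a02, a03, a04, a05, a06, a07⟩ := left_mul_Nm X 0
  obtain ⟨a10, a11, a12, a13, a14, a15, a16, a17⟩ := left_mul_Nm X 1
  obtain ⟨a20, a21, a22, a23, a24, a25, a26, a27⟩ := left_mul_Nm X 2
  obtain ⟨a30, a31, a32, a33, a34, a35, a36, a37⟩ := left_mul_Nm X 3
  obtain ⟨a40, a41, a42, a43, a44, a45, a46, a47⟩ := left_mul_Nm X 4
  obtain ⟨a50, a51, a52, a53, a54, a55, a56, a57⟩ := left_mul_Nm X 5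
  obtain ⟨a60, a61, a62, a63, a64, a65, a66, a67⟩ := left_mul_Nm X 6
  obtain ⟨a70, a71, a72, a73, a74, a75, a76, a77⟩ := left_mul_Nm X 7
  obtain ⟨b00, b10, b20, b30, b40, b50, b60, b70⟩ := right_mul_Nm X 0
  obtain ⟨b01, b11, b21, b31, b41, b51, b61, b71⟩ := right_mul_Nm X 1
  obtain ⟨b02, b12, b22, b32, b42, b52, b62, b72⟩ := right_mul_Nm X 2
  obtain ⟨b03, b13, b23, b33, b43, b53, b63, b73⟩ := right_mul_Nm X 3
  obtain ⟨b04, b14, b24, b34, b44, b54, b64, b74⟩ := right_mul_Nm X 4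
  obtain ⟨b05, b15, b25, b35, b45, b55, b65, b75⟩ := right_mul_Nm X 5
  obtain ⟨b06, b16, b26, b36, b46, b56, b66, b76⟩ := right_mul_Nm X 6
  obtain ⟨b07, b17, b27, b37, b47, b57, b67, b77⟩ := right_mul_Nm X 7
  -- columns 0, 1
  have x20 : X 2 0 = 0 := by rw [← b00, ← e, a00]
  have x21 : X 2 1 = 0 := by rw [← b01, ← e, a01]
  have x30 : X 3 0 = 0 := by rw [← b10, ← e, a10]
  have x31 : X 3 1 = 0 := by rw [← b11, ← e, a11]
  have x40 : X 4 0 = 0 := by rw [← b20, ← e, a20]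
  have x41 : X 4 1 = 0 := by rw [← b21, ← e, a21]
  have x50 : X 5 0 = 0 := by rw [← b30, ← e, a30]
  have x51 : X 5 1 = 0 := by rw [← b31, ← e, a31]
  have x60 : X 6 0 = 0 := by rw [← b40, ← e, a40]
  have x61 : X 6 1 = 0 := by rw [← b41, ← e, a41]
  have x70 : X 7 0 = 0 := by rw [← b60, ← e, a60]
  have x71 : X 7 1 = 0 := by rw [← b61, ← e, a61]
  -- rows 5, 7
  have x72 : X 7 2 = 0 := by rw [← a74, e, b74]
  have x73 : X 7 3 = 0 := by rw [← a75, e, b75]
  have x74 : X 7 4 = 0 := by rw [← a76, e, b76]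
  have x76 : X 7 6 = 0 := by rw [← a77, e, b77]
  have x52 : X 5 2 = 0 := by rw [← a54, e, b54]
  have x53 : X 5 3 = 0 := by rw [← a55, e, b55]
  have x54 : X 5 4 = 0 := by rw [← a56, e, b56]
  have x56 : X 5 6 = 0 := by rw [← a57, e, b57]
  -- the others
  have x62 : X 6 2 = 0 := by rw [← a64, e, b64, x74]
  have x64 : X 6 4 = 0 := by rw [← a66, e, b66, x76]
  have x66 : X 6 6 = X 7 7 := by rw [← a67, e, b67]
  have x63 : X 6 3 = X 7 5 := by rw [← a65, e, b65]
  have x75 : X 7 5 = 0 := by rw [← x63, ← b43, ← e, a43, x41]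
  have x42 : X 4 2 = 0 := by rw [← a44, e, b44, x64]
  have x44 : X 4 4 = X 6 6 := by rw [← a46, e, b46]
  have x43 : X 4 3 = X 6 5 := by rw [← a45, e, b45]
  have x65 : X 6 5 = 0 := by rw [← x43, ← b23, ← e, a23, x21]
  have x22 : X 2 2 = X 4 4 := by rw [← a24, e, b24]
  have x00 : X 0 0 = X 2 2 := by rw [← a02, e, b02]
  have x32 : X 3 2 = 0 := by rw [← a34, e, b34, x54]
  have x33 : X 3 3 = X 5 5 := by rw [← a35, e, b35]
  have x10 : X 1 0 = 0 := by rw [← a12, e, b12, x32]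
  have x11 : X 1 1 = X 3 3 := by rw [← a13, e, b13]
  refine ⟨?_, x66, x44.trans x66, x22.trans (x44.trans x66), x00.trans (x22.trans (x44.trans x66)), x33, x11.trans x33⟩
  intro i j hij
  fin_cases i <;> fin_cases j <;> first
    | exact absurd hij (by decide)
    | assumption
    | exact x63.trans x75
    | exact x43.trans x65

theorem strict_zero {Y : Matrix (Fin 8) (Fin 8) (ZMod 3)} (h : ∀ i j : Fin 8, j ≤ i → Y i j = 0) (hY : Y = Y * Y) :
    Y = 0 := by
  have key : ∀ (n : ℕ) (i j : Fin 8), (j : ℕ) ≤ i + n → Y i j = 0 := by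
    intro n
    induction n with
    | zero => intro i j hij; exact h i j hij
    | succ n ih =>
      intro i j hij
      rw [hY, Matrix.mul_apply]
      refine Finset.sum_eq_zero fun k _ => ?_
      by_cases hk : k ≤ i
      · rw [h i k hk, zero_mul]
      · by_cases hk2 : j ≤ k
        · rw [h k j hk2, mul_zero]
        · have h1 : (i : ℕ) < k := not_le.1 hk
          rw [ih k j (by omega), mul_zero]
  ext i j
  exact key 8 i j (by have := j.2; omega)

theorem units_three (a : ZMod 3) (h : a * a = 1 ∨ a * a = -1) : a = 1 ∨ a = -1 := by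
  revert h; revert a; decide

/-- the involutions of determinant one in the centralizer -/
theorem cent (h : X * Nm = Nm * X) (hsq : X * X = 1 ∨ X * X = -1) (hdet : X.det = 1) : X = 1 ∨ X = -1 := by
  obtain ⟨ht, x66, x44, x22, x00, x33, x11⟩ := tri h
  have hd : ∀ i, X i i * X i i = (X * X) i i := by
    intro i
    rw [Matrix.mul_apply, Finset.sum_eq_single i]
    · intro k _ hk
      rcases lt_or_gt_of_ne hk with h1 | h1
      · rw [ht i k h1, zero_mul]
      · rw [ht k i h1, mul_zero]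
    · intro h1
      exact absurd (Finset.mem_univ i) h1
  have hu : ∀ i, X i i = 1 ∨ X i i = -1 := by
    intro i
    apply units_three
    rw [hd i]
    rcases hsq with h1 | h1
    · left; rw [h1, Matrix.one_apply_eq]
    · right; rw [h1, Matrix.neg_apply, Matrix.one_apply_eq]
  have hdet2 : X.det = X 7 7 ^ 5 * X 5 5 ^ 3 := by
    rw [Matrix.det_of_upperTriangular (fun i j hij => ht i j hij), Fin.prod_univ_eight, x66, x44, x22, x00, x33, x11]
    ring
  rw [hdet] at hdet2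
  have h57 : X 5 5 = X 7 7 := by
    rcases hu 5 with h1 | h1 <;> rcases hu 7 with h2 | h2 <;> rw [h1, h2] at hdet2 <;> rw [h1, h2] <;>
      first | rfl | exact absurd hdet2 (by decide)
  have hdiag : ∀ i, X i i = X 7 7 := by
    intro i
    fin_cases i
    · exact x00
    · exact x11.trans h57
    · exact x22
    · exact x33.trans h57
    · exact x44
    · exact h57
    · exact x66
    · rfl
  have hsq1 : X * X = 1 := by
    rcases hsq with h1 | h1
    · exact h1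
    · exfalso
      have h2 := hd 7
      rw [h1, Matrix.neg_apply, Matrix.one_apply_eq] at h2
      rcases hu 7 with h3 | h3 <;> rw [h3] at h2 <;> exact absurd h2 (by decide)
  have main : ∀ Z : Matrix (Fin 8) (Fin 8) (ZMod 3), (∀ i j : Fin 8, j < i → Z i j = 0) → (∀ i, Z i i = 1) →
      Z * Z = 1 → Z = 1 := by
    intro Z h1 h2 h3
    have h4 : Z - 1 = 0 := by
      apply strict_zero
      · intro i j hij
        rcases lt_or_eq_of_le hij with h5 | h5
        · rw [Matrix.sub_apply, h1 i j h5, Matrix.one_apply_ne h5.ne', sub_zero]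
        · rw [← h5, Matrix.sub_apply, h2, Matrix.one_apply_eq, sub_self]
      · have h5 : (Z - 1) * (Z - 1) = Z * Z - 2 • Z + 1 := by noncomm_ring
        rw [h5, h3]
        have h6 : (3 : ℕ) • (Z - 1) = 0 := by
          ext i j
          rw [Matrix.smul_apply, nsmul_eq_mul]
          have : ((3 : ℕ) : ZMod 3) = 0 := by decide
          rw [this, zero_mul]
          rfl
        have h7 : Z - 1 - (1 - 2 • Z + 1) = (3 : ℕ) • (Z - 1) := by module
        rw [← sub_eq_zero, h7, h6]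
    exact sub_eq_zero.1 h4
  rcases hu 7 with h1 | h1
  · left
    exact main X ht (fun i => by rw [hdiag i, h1]) hsq1
  · right
    have h2 := main (-X) (fun i j hij => by rw [Matrix.neg_apply, ht i j hij, neg_zero])
      (fun i => by rw [Matrix.neg_apply, hdiag i, h1, neg_neg]) (by rw [neg_mul_neg, hsq1])
    rw [← h2, neg_neg]

end Cfsg.Agent.H198.Sax
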