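import Cfsg.Agent.H198.SaxQuad
import Cfsg.Agent.H938.Sax.Base
import Cfsg.Agent.UGT.U2.Rec.Congr

/-!
# `PΩ₈⁺(3)` (helper198, task SAX-O8P3)

`Rec` : the recognition of `Ω₇(3)` and `PΩ₈⁺(3)` by the element orders (`Cfsg.Agent.S3408.main`).

* `o8p3_section` : a section with all element orders of `PΩ₈⁺(3)` is a subgroup
* `o8p3_miss` : every maximal subgroup misses an automorphism class
-/

set_option autoImplicit false
set_option linter.unusedSectionVars false

namespace Cfsg.Agent.H198.Sax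

open QuadraticMap Module Matrix
open Cfsg.Agent.LieClassical.OrthCore Cfsg.Agent.LieClassical.OrthForms
  Cfsg.Agent.H160.QSpin Cfsg.Agent.H160.QDisc
open Cfsg.Agent.H899.O7 (Sp Om)
open Cfsg.Agent.H899.O7.PolyList (R)
open Cfsg.Agent.H899.O7.Spec (Q7 hQ7 Q8 hQ8 toP toP_surj toP_eq_one_iff sing8 Ome mem_Ome range_Q8)
open Cfsg.Agent.H938.Sax (Miss OrdGap MissMax not_ordGap_of_range exists_order_of_not_ordGap)

/-- the recognition theorem -/
def Rec : Prop := ∀ (G : Type) [Group G] [Finite G], Sp G →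
  Nonempty (G ≃* Cfsg.POmega R ⇑Q7) ∨ Nonempty (G ≃* Cfsg.POmega R ⇑Q8)

theorem sing7 : ∃ u : Unit ⊕ (Fin 3 ⊕ Fin 3) → R, u ≠ 0 ∧ Q7 u = 0 := by
  refine ⟨Pi.single (Sum.inr (Sum.inl 0)) 1, ?_, ?_⟩
  · intro h
    have := congrFun h (Sum.inr (Sum.inl 0))
    rw [Pi.single_eq_same] at this
    exact absurd this (by decide)
  · rw [Q7, coe_oddForm, quadFormOdd_apply, Pi.single_eq_of_ne (by simp)]
    rw [Finset.sum_eq_zero, zero_pow (by norm_num), zero_add]
    intro i _
    rw [Pi.single_eq_of_ne (i := Sum.inr (Sum.inl 0)) (i' := Sum.inr (Sum.inr i)) (by simp), mul_zero]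

/-- `Ω₇(3)` contains no good element -/
theorem not_good_seven (x : Cfsg.POmega R ⇑Q7) : ¬ Good x := by
  intro hx
  have h5 : 5 ≤ Fintype.card (Unit ⊕ (Fin 3 ⊕ Fin 3)) := by simp
  have h7 : finrank R (Unit ⊕ (Fin 3 ⊕ Fin 3) → R) = 7 := by simp
  obtain ⟨m, rfl⟩ := toP_surj hQ7 h5 x
  have hinj : Function.Injective (toP hQ7 h5) := by
    rw [injective_iff_map_eq_one]
    intro a ha
    rw [toP_eq_one_iff hQ7 h5 sing7] at ha
    rcases ha with h | h
    · exact h
    · exfalso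
      obtain ⟨-, hd, -⟩ := mem_Ome.1 a.2
      rw [h, det_neg_odd (by rw [h7]; decide)] at hd
      have h1 := congrArg Units.val hd
      revert h1
      change ¬ (-(1 : R) = 1)
      decide
  have hm : Good m := hx.comap hinj
  have hmO : (m : (Unit ⊕ (Fin 3 ⊕ Fin 3) → R) ≃ₗ[R] (Unit ⊕ (Fin 3 ⊕ Fin 3) → R)) ∈ O Q7 := by
    obtain ⟨h, -, -⟩ := mem_Ome.1 m.2
    exact h
  rcases seven (by decide) (by decide) hQ7 h7 hmO (by
      rw [← Subgroup.coe_pow, hm.nine]; rfl) (by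
      rw [← Subgroup.coe_pow]
      intro h
      exact hm.three (Subtype.ext h)) with h | h
  · obtain ⟨y, hy, h1, h2, h3⟩ := h
    apply h3
    have h4 := hm.inv ⟨y, hy⟩ (Subtype.ext h1) (Subtype.ext h2)
    exact congrArg Subtype.val h4
  · obtain ⟨y, hy, h1, h2, h3⟩ := h
    apply h3
    have h4 := hm.quad ⟨y, hy⟩ (Subtype.ext h1) (Subtype.ext h2)
    exact congrArg Subtype.val h4

/-- `PΩ₈⁺(3)` over `ZMod 3` -/
abbrev P8T := Cfsg.POmega R ⇑Q8

theorem exists_good : ∃ g : P8T, Good g := ⟨_, good_g1 (by simp)⟩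

theorem miss_of_equiv {M : Subgroup P8T} (e : M ≃* Cfsg.POmega R ⇑Q7) : Miss P8T M := by
  obtain ⟨g, hg⟩ := exists_good
  refine ⟨g, fun φ hφ => ?_⟩
  have h1 : Good (φ g) := by
    apply Good.comap (f := φ.symm.toMonoidHom) φ.symm.injective
    have : φ.symm.toMonoidHom (φ g) = g := φ.symm_apply_apply g
    rw [this]
    exact hg
  have h2 : Good (⟨φ g, hφ⟩ : M) := Good.comap (f := M.subtype) M.subtype_injective h1
  refine not_good_seven (e ⟨φ g, hφ⟩) ?_
  apply Good.comap (f := e.symm.toMonoidHom) e.symm.injective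
  have : e.symm.toMonoidHom (e ⟨φ g, hφ⟩) = ⟨φ g, hφ⟩ := e.symm_apply_apply _
  rw [this]
  exact h2

theorem finite_P8T : Finite P8T := Quotient.finite _

/-- a subgroup with all element orders -/
theorem sp_of_not_ordGap {M : Subgroup P8T} (h : ¬ OrdGap P8T M) : Sp M := by
  rw [Sp, ← range_Q8]
  ext n
  constructor
  · rintro ⟨m, rfl⟩
    exact ⟨m, Subgroup.orderOf_coe m⟩
  · rintro ⟨g, rfl⟩
    obtain ⟨m, hm, ho⟩ := exists_order_of_not_ordGap h g
    exact ⟨⟨m, hm⟩, by rw [Subgroup.orderOf_mk]; exact ho⟩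

theorem simple7 : IsSimpleGroup (Cfsg.POmega R ⇑Q7) :=
  Cfsg.Agent.LieClassical.OrthFinite.isSimpleGroup_POmega hQ7 (by simp)

theorem simple8 : IsSimpleGroup P8T :=
  Cfsg.Agent.LieClassical.OrthFinite.isSimpleGroup_POmega hQ8 (by simp)

theorem missMax (H : Rec) : MissMax P8T := by
  have := finite_P8T
  intro M hM
  by_cases h : OrdGap P8T M
  · exact h.miss
  · rcases H M (sp_of_not_ordGap h) with ⟨⟨e⟩⟩ | ⟨⟨e⟩⟩
    · exact miss_of_equiv e
    · exfalso
      apply hM.1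
      apply Subgroup.eq_top_of_card_eq
      exact Nat.card_congr e.toEquiv

theorem section_eq (H : Rec) (L : Subgroup P8T) (K : Subgroup L) [hK : K.Normal]
    (h : Set.range (orderOf : (L ⧸ K) → ℕ) = Set.range (orderOf : P8T → ℕ)) : K = ⊥ := by
  have := finite_P8T
  have hS : IsSimpleGroup L := by
    rcases H L (sp_of_not_ordGap (not_ordGap_of_range L K h)) with ⟨⟨e⟩⟩ | ⟨⟨e⟩⟩
    · have := simple7
      exact e.isSimpleGroup
    · have := simple8
      exact e.isSimpleGroup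
  rcases hS.eq_bot_or_eq_top_of_normal K hK with h1 | h1
  · exact h1
  · exfalso
    obtain ⟨g, hg⟩ := exists_good
    have h2 : orderOf g ∈ Set.range (orderOf : (L ⧸ K) → ℕ) := by rw [h]; exact ⟨g, rfl⟩
    obtain ⟨x, hx⟩ := h2
    obtain ⟨y, rfl⟩ := QuotientGroup.mk_surjective x
    have h3 : (y : L ⧸ K) = 1 := (QuotientGroup.eq_one_iff y).2 (by rw [h1]; trivial)
    rw [h3, orderOf_one] at hx
    have h4 : g = 1 := orderOf_eq_one_iff.1 hx.symm
    apply hg.three
    rw [h4, one_pow]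

section Field

variable {F : Type} [Field F] [Fintype F] (hF : Fintype.card F = 3)

include hF

theorem equiv8 : Nonempty (Cfsg.POmega F (Cfsg.quadFormPlus 4 F) ≃* P8T) := by
  have h := Cfsg.Agent.UGT.U2.Rec.Congr.nonempty_POmega (F := F) (F' := R) (ι := Fin 4 ⊕ Fin 4)
    (ZMod.ringEquivOfPrime F Nat.prime_three hF).symm (Q := Cfsg.quadFormPlus 4 F) (Q' := Cfsg.quadFormPlus 4 R)
    (fun v => by simp [Cfsg.quadFormPlus, map_sum, map_mul])
  rwa [← coe_plusForm 4 R] at h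

/-- **Every maximal subgroup of `PΩ₈⁺(3)` misses an automorphism class.** -/
theorem o8p3_miss (H : Rec) : MissMax (Cfsg.POmega F (Cfsg.quadFormPlus 4 F)) := by
  obtain ⟨e⟩ := equiv8 hF
  exact (missMax H).congr e.symm

/-- **Sections of `PΩ₈⁺(3)` with all element orders are subgroups.** -/
theorem o8p3_section (H : Rec) (L : Subgroup (Cfsg.POmega F (Cfsg.quadFormPlus 4 F))) (K : Subgroup L) [K.Normal]
    (h : Set.range (orderOf : (L ⧸ K) → ℕ) =
      Set.range (orderOf : Cfsg.POmega F (Cfsg.quadFormPlus 4 F) → ℕ)) : K = ⊥ := by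
  obtain ⟨e⟩ := equiv8 hF
  let f : L ≃* L.map e.toMonoidHom := L.equivMapOfInjective e.toMonoidHom e.injective
  have hn : (K.map f.toMonoidHom).Normal := Subgroup.Normal.map inferInstance _ f.surjective
  have hq : (L ⧸ K) ≃* (L.map e.toMonoidHom ⧸ K.map f.toMonoidHom) := QuotientGroup.congr K _ f rfl
  have hr : ∀ {A B : Type} [Group A] [Group B], (A ≃* B) →
      Set.range (orderOf : A → ℕ) = Set.range (orderOf : B → ℕ) := by
    intro A B _ _ ε
    ext n
    constructor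
    · rintro ⟨x, rfl⟩
      exact ⟨ε x, MulEquiv.orderOf_eq ε x⟩
    · rintro ⟨x, rfl⟩
      exact ⟨ε.symm x, MulEquiv.orderOf_eq ε.symm x⟩
  have h1 := section_eq H (L.map e.toMonoidHom) (K.map f.toMonoidHom) (by
    rw [← hr hq, h, hr e])
  rwa [Subgroup.map_eq_bot_iff_of_injective _ f.injective] at h1

end Field

end Cfsg.Agent.H198.Sax
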