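import Cfsg.Agent.H198.SaxEight

/-!
# The good element of `PΩ₈⁺(3)`: the cube is quadratic (helper198)
-/

set_option autoImplicit false
set_option linter.unusedSectionVars false

namespace Cfsg.Agent.H198.Sax

open QuadraticMap Module Matrix
open Cfsg.Agent.LieClassical.OrthCore Cfsg.Agent.LieClassical.OrthForms
  Cfsg.Agent.H160.QSpin Cfsg.Agent.H160.QDisc
open Cfsg.Agent.H899.O7.PolyList (R)
open Cfsg.Agent.H899.O7.Mat (T T_apply)
open Cfsg.Agent.H899.O7.Spec (Q8 hQ8 toP toP_surj toP_eq_one_iff sing8 Ome mem_Ome)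

/-- two quadratic elements in characteristic three whose quotient is an involution are equal -/
theorem quad_eq {A : Type*} [Ring A] (h3 : (3 : A) = 0) {a b : A} (ha : a * a = 0) (hb : b * b = 0)
    (h : (1 - a) * (1 + b) * ((1 - a) * (1 + b)) = 1) : a = b := by
  have hn : ∀ x : A, x + x + x = 0 := by
    intro x
    have : (3 : A) * x = 0 := by rw [h3, zero_mul]
    have h4 : x + x + x = 3 * x := by noncomm_ring
    rw [h4, this]
  have h1 : (1 + a) * (1 - a) = 1 := by
    have : (1 + a) * (1 - a) = 1 - a * a := by noncomm_ring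
    rw [this, ha, sub_zero]
  have h2 : (1 + b) * (1 - a) * (1 + b) = 1 + a := by
    calc (1 + b) * (1 - a) * (1 + b) = ((1 + a) * (1 - a)) * (1 + b) * (1 - a) * (1 + b) := by rw [h1, one_mul]
      _ = (1 + a) * ((1 - a) * (1 + b) * ((1 - a) * (1 + b))) := by noncomm_ring
      _ = 1 + a := by rw [h, mul_one]
  -- the equation
  have h4 : b + b - a - a - b * a - a * b - b * a * b = 0 := by
    have e : (1 + b) * (1 - a) * (1 + b) = 1 + a + (b + b - a - a - b * a - a * b - b * a * b) + b * b := by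
      noncomm_ring
    rw [e, hb, add_zero] at h2
    exact left_eq_add.1 h2.symm
  have h5 : b * a * b = 0 := by
    have e : b * (b + b - a - a - b * a - a * b - b * a * b) * b =
        b * b * b + b * b * b - b * a * b - b * a * b - b * b * a * b - b * a * (b * b) - b * b * a * (b * b) := by
      noncomm_ring
    rw [h4, mul_zero, zero_mul, hb] at e
    simp only [zero_mul, mul_zero, sub_zero, zero_add, zero_sub] at e
    have := hn (b * a * b)
    have e2 : b * a * b + b * a * b = 0 := by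
      have e3 : -(b * a * b) - b * a * b = 0 := e.symm
      have e4 : b * a * b + b * a * b = -(-(b * a * b) - b * a * b) := by abel
      rw [e4, e3, neg_zero]
    rwa [e2, zero_add] at this
  rw [h5, sub_zero] at h4
  have h6 : b * a = 0 := by
    have e : b * (b + b - a - a - b * a - a * b) = b * b + b * b - b * a - b * a - b * b * a - b * a * b := by
      noncomm_ring
    rw [h4, mul_zero, hb, h5] at e
    simp only [zero_mul, sub_zero, zero_add, zero_sub] at e
    have := hn (b * a)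
    have e2 : b * a + b * a = 0 := by
      have e4 : b * a + b * a = -(-(b * a) - b * a) := by abel
      rw [e4, ← e, neg_zero]
    rwa [e2, zero_add] at this
  have h7 : a * b = 0 := by
    have e : (b + b - a - a - b * a - a * b) * b = b * b + b * b - a * b - a * b - b * a * b - a * (b * b) := by
      noncomm_ring
    rw [h4, zero_mul, hb, h5] at e
    simp only [mul_zero, sub_zero, zero_add, zero_sub] at e
    have := hn (a * b)
    have e2 : a * b + a * b = 0 := by
      have e4 : a * b + a * b = -(-(a * b) - a * b) := by abel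
      rw [e4, ← e, neg_zero]
    rwa [e2, zero_add] at this
  rw [h6, h7, sub_zero, sub_zero] at h4
  have h8 : a - b = b + b - a - a + (a + a + a) - (b + b + b) := by abel
  rw [← sub_eq_zero, h8, h4, hn, hn, zero_add, sub_zero]

section Nil

variable {F V : Type*} [Field F] [AddCommGroup V] [Module F V] [FiniteDimensional F V]

theorem nil_conj (y w : V ≃ₗ[F] V) (x : V) : nil (y * w * y⁻¹) x = y (nil w (y⁻¹ x)) := by
  rw [nil_apply, nil_apply, map_sub]
  congr 1
  exact (LinearEquiv.apply_symm_apply y x).symm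

theorem nil_sq_conj {w : V ≃ₗ[F] V} (hw : nil w * nil w = 0) (y : V ≃ₗ[F] V) :
    nil (y * w * y⁻¹) * nil (y * w * y⁻¹) = 0 := by
  apply LinearMap.ext
  intro x
  rw [Module.End.mul_apply, nil_conj, nil_conj]
  have h1 : y⁻¹ (y (nil w (y⁻¹ x))) = nil w (y⁻¹ x) := LinearEquiv.symm_apply_apply y _
  rw [h1, ← Module.End.mul_apply, hw]
  exact map_zero y

theorem coe_eq (w : V ≃ₗ[F] V) : ((w : V →ₗ[F] V) : Module.End F V) = 1 + nil w := by
  apply LinearMap.ext
  intro x
  change w x = x + (w x - x)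
  abel

theorem coe_inv {w : V ≃ₗ[F] V} (hw : nil w * nil w = 0) :
    (((w⁻¹ : V ≃ₗ[F] V) : V →ₗ[F] V) : Module.End F V) = 1 - nil w := by
  have h1 := inv_mul_nil_pow (m := w) (k := 1) (by rw [pow_two]; exact hw)
  rw [pow_one] at h1
  rw [coe_eq w⁻¹, nil_inv, h1]
  abel

theorem nil_inj {w w' : V ≃ₗ[F] V} (h : nil w = nil w') : w = w' := by
  apply LinearEquiv.ext
  intro x
  have h1 := congrArg (fun f : Module.End F V => f x) h
  simp only [nil_apply, sub_left_inj] at h1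
  exact h1

/-- two conjugate maps with large kernels have a common kernel vector -/
theorem exists_common {w : V ≃ₗ[F] V} (y : V ≃ₗ[F] V)
    (hr : 2 * finrank F (LinearMap.range (nil w)) < finrank F V) :
    ∃ v, v ≠ 0 ∧ nil w v = 0 ∧ nil (y * w * y⁻¹) v = 0 := by
  set A := LinearMap.ker (nil w) with hA
  set B := A.map (y : V →ₗ[F] V) with hB
  have h1 : finrank F B = finrank F A := LinearEquiv.finrank_map_eq y A
  have h2 := LinearMap.finrank_range_add_finrank_ker (nil w)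
  have h3 := Submodule.finrank_sup_add_finrank_inf_eq A B
  have h4 : finrank F ((A ⊔ B : Submodule F V)) ≤ finrank F V := Submodule.finrank_le _
  have h5 : 0 < finrank F ((A ⊓ B : Submodule F V)) := by
    change finrank F (LinearMap.range (nil w)) + finrank F A = _ at h2
    omega
  have h6 : (A ⊓ B : Submodule F V) ≠ ⊥ := by
    intro h
    rw [h, finrank_bot] at h5
    exact absurd h5 (by norm_num)
  obtain ⟨v, hv, hv0⟩ := Submodule.exists_mem_ne_zero_of_ne_bot h6
  refine ⟨v, hv0, hv.1, ?_⟩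
  obtain ⟨u, hu, rfl⟩ := hv.2
  have h8 : nil (y * w * y⁻¹) ((y : V →ₗ[F] V) u) = y (nil w u) := by
    rw [nil_conj]
    congr 2
    exact LinearEquiv.symm_apply_apply y u
  rw [h8]
  have h9 : nil w u = 0 := hu
  rw [h9, map_zero]

/-- the quadratic argument -/
theorem quad_arg (h2 : (2 : F) ≠ 0) (h3 : (3 : F) = 0) {w y : V ≃ₗ[F] V} (hw : nil w * nil w = 0)
    (hr : 2 * finrank F (LinearMap.range (nil w)) < finrank F V)
    (hu : (w⁻¹ * (y * w * y⁻¹)) * (w⁻¹ * (y * w * y⁻¹)) = 1 ∨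
      (w⁻¹ * (y * w * y⁻¹)) * (w⁻¹ * (y * w * y⁻¹)) = LinearEquiv.neg F) : w = y * w * y⁻¹ := by
  rcases hu with hu | hu
  · apply nil_inj
    apply quad_eq (A := Module.End F V) _ hw (nil_sq_conj hw y)
    · have h4 := congrArg (fun g : V ≃ₗ[F] V => ((g : V →ₗ[F] V) : Module.End F V)) hu
      have h5 : (((w⁻¹ * (y * w * y⁻¹) * (w⁻¹ * (y * w * y⁻¹)) : V ≃ₗ[F] V) : V →ₗ[F] V) : Module.End F V) =
          (((w⁻¹ : V ≃ₗ[F] V) : V →ₗ[F] V) : Module.End F V) * (((y * w * y⁻¹ : V ≃ₗ[F] V) : V →ₗ[F] V) : Module.End F V) *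
          ((((w⁻¹ : V ≃ₗ[F] V) : V →ₗ[F] V) : Module.End F V) * (((y * w * y⁻¹ : V ≃ₗ[F] V) : V →ₗ[F] V) : Module.End F V)) := rfl
      simp only [h5] at h4
      rw [coe_inv hw, coe_eq (y * w * y⁻¹)] at h4
      exact h4
    · apply LinearMap.ext
      intro x
      have : (3 : Module.End F V) x = (3 : F) • x := by
        rw [show (3 : Module.End F V) = 1 + 1 + 1 by norm_num]
        change x + x + x = (3 : F) • x
        module
      rw [this, h3, zero_smul]
      rfl
  · exfalso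
    obtain ⟨v, hv0, hv1, hv2⟩ := exists_common (w := w) y hr
    have h4 : w v = v := by rwa [nil_apply, sub_eq_zero] at hv1
    have h5 : (y * w * y⁻¹) v = v := by rwa [nil_apply, sub_eq_zero] at hv2
    have h6 : w⁻¹ v = v := by
      conv_lhs => rw [← h4]
      exact LinearEquiv.symm_apply_apply w v
    have h7 : (w⁻¹ * (y * w * y⁻¹)) v = v := by
      change w⁻¹ ((y * w * y⁻¹) v) = v
      rw [h5, h6]
    have h8 := congrArg (fun g : V ≃ₗ[F] V => g v) hu
    have h9 : ((w⁻¹ * (y * w * y⁻¹)) * (w⁻¹ * (y * w * y⁻¹))) v = v := by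
      change (w⁻¹ * (y * w * y⁻¹)) ((w⁻¹ * (y * w * y⁻¹)) v) = v
      rw [h7, h7]
    have h10 : v = -v := h9.symm.trans h8
    have h11 : (2 : F) • v = 0 := by
      rw [two_smul]
      nth_rewrite 1 [h10]
      exact neg_add_cancel v
    rcases smul_eq_zero.1 h11 with h12 | h12
    · exact h2 h12
    · exact hv0 h12

end Nil

/-! ### The element -/

theorem nil_g8 : nil ((T g8) ^ 3) = Matrix.mulVecLin (G8 ^ 3 - 1) := by
  apply LinearMap.ext
  intro v
  rw [nil_apply, T_pow, T_apply, Matrix.mulVecLin_apply, Matrix.sub_mulVec, Matrix.one_mulVec,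
    Units.val_pow_eq_pow_val]
  rfl

theorem nil_g8_sq : nil ((T g8) ^ 3) * nil ((T g8) ^ 3) = 0 := by
  rw [nil_g8]
  apply LinearMap.ext
  intro v
  rw [Module.End.mul_apply, Matrix.mulVecLin_apply, Matrix.mulVecLin_apply, Matrix.mulVec_mulVec, G8_sq,
    Matrix.zero_mulVec]
  rfl

theorem rank_g8 : 2 * finrank R (LinearMap.range (nil ((T g8) ^ 3))) < finrank R (J8 → R) := by
  have h1 : finrank R (LinearMap.range (nil ((T g8) ^ 3))) ≤ 2 := by
    rw [nil_g8]
    change (G8 ^ 3 - 1).rank ≤ 2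
    rw [G8_fac]
    refine (Matrix.rank_mul_le_left _ _).trans ?_
    exact (Matrix.rank_le_card_width _).trans (by rw [Fintype.card_fin])
  have h2 : finrank R (J8 → R) = 8 := by simp
  rw [h2]
  omega

/-- good elements of central quotients -/
theorem good_of {G K : Type*} [Group G] [Group K] (π : G →* K) (hπ : Function.Surjective π) (n : G)
    (hker : ∀ x, π x = 1 ↔ x = 1 ∨ x = n) (hn : n * n = 1) (hn1 : n ≠ 1) (hnc : ∀ x, n * x = x * n) (g : G)
    (h9 : g ^ 9 = 1) (h3 : g ^ 3 ≠ 1) (hA : ∀ y, y * g = g * y → (y * y = 1 ∨ y * y = n) → y = 1 ∨ y = n)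
    (hB : ∀ y, ((g ^ 3)⁻¹ * (y * g ^ 3 * y⁻¹)) * ((g ^ 3)⁻¹ * (y * g ^ 3 * y⁻¹)) = 1 ∨
      ((g ^ 3)⁻¹ * (y * g ^ 3 * y⁻¹)) * ((g ^ 3)⁻¹ * (y * g ^ 3 * y⁻¹)) = n → g ^ 3 = y * g ^ 3 * y⁻¹) :
    Good (π g) := by
  refine ⟨?_, ?_, ?_, ?_⟩
  · rw [← map_pow, h9, map_one]
  · intro h
    rw [← map_pow, hker] at h
    rcases h with h | h
    · exact h3 h
    · have h2 : g ^ 9 = n := by
        rw [show 9 = 3 * 3 from rfl, pow_mul, h, pow_succ, pow_two, hn, one_mul]
      rw [h9] at h2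
      exact hn1 h2.symm
  · intro y hy hc
    obtain ⟨y, rfl⟩ := hπ y
    rw [← map_mul, hker] at hy
    have h1 : π (y * g * (g * y)⁻¹) = 1 := by
      rw [map_mul, map_inv, map_mul, hc, ← map_mul, mul_inv_cancel]
    rw [hker] at h1
    have hc2 : y * g = g * y := by
      rcases h1 with h | h
      · exact mul_inv_eq_one.1 h
      · exfalso
        rw [mul_inv_eq_iff_eq_mul] at h
        have h2 : y * g * y⁻¹ = n * g := by rw [h]; group
        have h4 : (n * g) ^ 9 = 1 := by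
          rw [← h2, conj_pow, h9, mul_one, mul_inv_cancel]
        rw [(show Commute n g from hnc g).mul_pow, h9, mul_one, show 9 = 2 * 4 + 1 from rfl, pow_succ, pow_mul,
          pow_two, hn, one_pow, one_mul] at h4
        exact hn1 h4
    rw [hker]
    exact hA y hc2 hy
  · intro y hy hc
    obtain ⟨y, rfl⟩ := hπ y
    rw [← map_pow] at hc ⊢
    set w := g ^ 3 with hw
    set s := π w with hs
    set t := π y with ht
    have hu : (s⁻¹ * (t * s * t⁻¹)) * (s⁻¹ * (t * s * t⁻¹)) = 1 := by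
      have h1 : s⁻¹ * (t * s * t⁻¹) = (s⁻¹ * t * s) * t⁻¹ := by group
      have h2 : (s⁻¹ * t * s) * t⁻¹ = t⁻¹ * (s⁻¹ * t * s) := by
        rw [mul_inv_eq_iff_eq_mul, mul_assoc t⁻¹ (s⁻¹ * t * s) t, ← hc, inv_mul_cancel_left]
      have h3 : t⁻¹ = t := inv_eq_of_mul_eq_one_left hy
      rw [h1]
      nth_rewrite 2 [h2]
      calc (s⁻¹ * t * s) * t⁻¹ * (t⁻¹ * (s⁻¹ * t * s)) = (s⁻¹ * t * s) * (t⁻¹ * t⁻¹) * (s⁻¹ * t * s) := by group
        _ = (s⁻¹ * t * s) * (s⁻¹ * t * s) := by rw [h3, hy, mul_one]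
        _ = s⁻¹ * (t * t) * s := by group
        _ = 1 := by rw [hy, mul_one, inv_mul_cancel]
    have hu2 : π ((w⁻¹ * (y * w * y⁻¹)) * (w⁻¹ * (y * w * y⁻¹))) = 1 := by
      simp only [map_mul, map_inv]
      exact hu
    rw [hker] at hu2
    have key2 := hB y hu2
    have key3 : s = t * s * t⁻¹ := by
      have := congrArg π key2
      rwa [map_mul, map_mul, map_inv] at this
    have key4 : s * t = t * s := eq_mul_inv_iff_mul_eq.1 key3
    rw [mul_assoc, ← key4, inv_mul_cancel_left]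

theorem neg_sq : (LinearEquiv.neg R : (J8 → R) ≃ₗ[R] (J8 → R)) * LinearEquiv.neg R = 1 := by
  apply LinearEquiv.ext
  intro x
  change -(-x) = x
  rw [neg_neg]

theorem neg_ne : (LinearEquiv.neg R : (J8 → R) ≃ₗ[R] (J8 → R)) ≠ 1 := by
  intro h
  have h1 := congrArg (fun g : (J8 → R) ≃ₗ[R] (J8 → R) => g (fun _ => 1) (Sum.inl 0)) h
  revert h1
  change ¬ (-(1 : R) = 1)
  decide

theorem el_neg8 : El Q8 1 (LinearEquiv.neg R : (J8 → R) ≃ₗ[R] (J8 → R)) :=
  el_neg (by decide) hQ8 (by simp; decide) (by rw [Cfsg.Agent.H899.O7.Spec.dc8]; rfl)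

/-- `-1` -/
def nn : Ome Q8 := ⟨LinearEquiv.neg R, el_neg8⟩

/-- the lift of the good element -/
noncomputable def g1 : Ome Q8 := ⟨T g8, el_g8⟩

theorem g1_pow (n : ℕ) : ((g1 ^ n : Ome Q8) : (J8 → R) ≃ₗ[R] (J8 → R)) = (T g8) ^ n := Subgroup.coe_pow _ _ _

theorem good_g1 (h5 : 5 ≤ Fintype.card J8) : Good (toP hQ8 h5 g1) := by
  refine good_of (toP hQ8 h5) (toP_surj hQ8 h5) nn ?_ ?_ ?_ ?_ g1 ?_ ?_ ?_ ?_
  · intro x
    rw [toP_eq_one_iff hQ8 h5 sing8]
    constructor
    · rintro (h | h)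
      · exact Or.inl h
      · exact Or.inr (Subtype.ext h)
    · rintro (h | h)
      · exact Or.inl h
      · exact Or.inr (congrArg Subtype.val h)
  · exact Subtype.ext neg_sq
  · intro h
    exact neg_ne (congrArg Subtype.val h)
  · intro x
    apply Subtype.ext
    apply LinearEquiv.ext
    intro v
    change -((x : (J8 → R) ≃ₗ[R] (J8 → R)) v) = (x : (J8 → R) ≃ₗ[R] (J8 → R)) (-v)
    rw [map_neg]
  · apply Subtype.ext
    rw [g1_pow]
    exact g8_nine
  · intro h
    have h1 := congrArg Subtype.val h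
    rw [g1_pow] at h1
    exact g8_three h1
  · intro y hc hsq
    obtain ⟨-, hd, -⟩ := mem_Ome.1 y.2
    have hsq' : (y : (J8 → R) ≃ₗ[R] (J8 → R)) * (y : (J8 → R) ≃ₗ[R] (J8 → R)) = 1 ∨
        (y : (J8 → R) ≃ₗ[R] (J8 → R)) * (y : (J8 → R) ≃ₗ[R] (J8 → R)) = LinearEquiv.neg R := by
      rcases hsq with h | h
      · exact Or.inl (congrArg Subtype.val h)
      · exact Or.inr (congrArg Subtype.val h)
    rcases cent_g8 hd (congrArg Subtype.val hc) hsq' with h | h
    · exact Or.inl (Subtype.ext h)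
    · exact Or.inr (Subtype.ext h)
  · intro y hu
    apply Subtype.ext
    have h3 := g1_pow 3
    have hv : ∀ w : Ome Q8, ((w⁻¹ * (y * w * y⁻¹) * (w⁻¹ * (y * w * y⁻¹)) : Ome Q8) : (J8 → R) ≃ₗ[R] (J8 → R)) =
        (w : (J8 → R) ≃ₗ[R] (J8 → R))⁻¹ * ((y : (J8 → R) ≃ₗ[R] (J8 → R)) * (w : (J8 → R) ≃ₗ[R] (J8 → R)) *
          (y : (J8 → R) ≃ₗ[R] (J8 → R))⁻¹) *
          ((w : (J8 → R) ≃ₗ[R] (J8 → R))⁻¹ * ((y : (J8 → R) ≃ₗ[R] (J8 → R)) * (w : (J8 → R) ≃ₗ[R] (J8 → R)) *
          (y : (J8 → R) ≃ₗ[R] (J8 → R))⁻¹)) := fun w => rfl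
    have hv2 : ∀ w : Ome Q8, ((y * w * y⁻¹ : Ome Q8) : (J8 → R) ≃ₗ[R] (J8 → R)) =
        (y : (J8 → R) ≃ₗ[R] (J8 → R)) * (w : (J8 → R) ≃ₗ[R] (J8 → R)) * (y : (J8 → R) ≃ₗ[R] (J8 → R))⁻¹ := fun w => rfl
    rw [hv2, h3]
    apply quad_arg (by decide) (by decide) nil_g8_sq rank_g8
    rcases hu with h | h
    · left
      have h4 := congrArg Subtype.val h
      rw [hv, h3] at h4
      exact h4
    · right
      have h4 := congrArg Subtype.val h
      rw [hv, h3] at h4
      exact h4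

end Cfsg.Agent.H198.Sax
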