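import Cfsg.Agent.H198.SaxLin

/-!
# Unipotent isometries of order nine of a seven dimensional space (helper198)

* `caseA` : if `w ^ 3 = 1`, `(w - 1) ^ 2 ≠ 0`, there is a nonsingular `v` orthogonal to `w v`
* `caseB` : if `(m - 1) ^ 6 = 0`, `(m - 1) ^ 3 ≠ 0`, there are two orthogonal nonsingular fixed vectors
-/

set_option autoImplicit false
set_option linter.unusedSectionVars false

namespace Cfsg.Agent.H198.Sax

open QuadraticMap Module Cfsg.Agent.LieClassical.OrthCore

variable {F V : Type*} [Field F] [AddCommGroup V] [Module F V] {Q : QuadraticForm F V} {m : V ≃ₗ[F] V}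

theorem nil_cube (h3 : (3 : F) = 0) (m : V ≃ₗ[F] V) : nil (m ^ 3) = nil m ^ 3 := by
  apply LinearMap.ext
  intro x
  have h1 : (m ^ 3) x = m (m (m x)) := by rw [pow_succ, pow_two]; rfl
  have h2 : (nil m ^ 3) x = nil m (nil m (nil m x)) := by rw [pow_succ, pow_two]; rfl
  rw [h2, nil_apply, h1, nil_apply m x, nil_apply m (m x - x), nil_apply, map_sub, map_sub, map_sub]
  have h4 : (3 : F) • m (m x) = 0 := by rw [h3, zero_smul]
  have h5 : (3 : F) • m x = 0 := by rw [h3, zero_smul]
  have h6 : m (m (m x)) - m (m x) - (m (m x) - m x) - (m (m x) - m x - (m x - x)) =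
      m (m (m x)) - x - (3 : F) • m (m x) + (3 : F) • m x := by module
  rw [h6, h4, h5, sub_zero, add_zero]

theorem nil_one : nil (1 : V ≃ₗ[F] V) = 0 := by
  apply LinearMap.ext
  intro x
  exact sub_self x

theorem caseA (h2 : (2 : F) ≠ 0) (h3 : (3 : F) = 0) (hQ : Nondeg Q) (hw : m ∈ O Q) (hw3 : m ^ 3 = 1)
    (hD : nil m ^ 2 ≠ 0) : ∃ v, Q v ≠ 0 ∧ polar Q v (m v) = 0 := by
  have hD3 : nil m ^ 3 = 0 := by rw [← nil_cube h3, hw3, nil_one]
  obtain ⟨a, ha⟩ := exists_top h2 hQ hw (k := 2) (by decide) hD3 hD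
  set c := polar Q a ((nil m ^ 2) a) with hc
  have hD3a : ∀ x, nil m ((nil m ^ 2) x) = 0 := fun x => by
    rw [← Module.End.mul_apply, ← pow_succ', hD3]; rfl
  have hD3b : ∀ x, (nil m ^ 2) (nil m x) = 0 := fun x => by
    rw [← Module.End.mul_apply, ← pow_succ, hD3]; rfl
  have e1 : polar Q (nil m a) (nil m a) = -c := by
    rw [adj_one hw, nil_inv]
    have h4 := congrArg (fun f : Module.End F V => f a) (inv_mul_nil_pow (m := m) (k := 2) hD3)
    have h5 : (m⁻¹ : V ≃ₗ[F] V) (nil m (nil m a)) = (nil m ^ 2) a := by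
      rw [← h4, pow_two]; rfl
    have h6 : (-(((m⁻¹ : V ≃ₗ[F] V) : V →ₗ[F] V) * nil m) : Module.End F V) (nil m a) = -((m⁻¹ : V ≃ₗ[F] V) (nil m (nil m a))) :=
      rfl
    rw [h6, h5, polar_neg_right]
  have e2 : 2 * polar Q a (nil m a) = c := by
    have h4 := polar_map hw a a
    have h5 : m a = a + nil m a := by rw [nil_apply]; abel
    rw [h5, polar_add_left, polar_add_right, polar_add_right, e1, polar_comm Q (nil m a) a] at h4
    linear_combination h4
  have e3 : polar Q ((nil m ^ 2) a) ((nil m ^ 2) a) = 0 := by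
    rw [sym_top hw (by decide) hD3]
    have h4 : (nil m ^ 2) ((nil m ^ 2) a) = 0 := by
      rw [← Module.End.mul_apply, ← pow_add, show 2 + 2 = 3 + 1 from rfl, pow_succ, hD3, zero_mul]
      rfl
    rw [h4, polar_zero_right]
  have e4 : polar Q ((nil m ^ 2) a) (nil m a) = 0 := by
    rw [sym_top hw (by decide) hD3, hD3b, polar_zero_right]
  have e5 : polar Q ((nil m ^ 2) a) a = c := by rw [polar_comm]
  set γ : F := -(polar Q a a + c / 2) / (2 * c) with hγ
  have hγ2 : 2 * γ * c = -(polar Q a a + c / 2) := by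
    rw [hγ]; field_simp
  set v := a + γ • (nil m ^ 2) a with hv
  have hmv : m v = v + nil m a := by
    have h5 : m v = v + nil m v := by rw [nil_apply]; abel
    rw [h5, hv, map_add, map_smul, hD3a, smul_zero, add_zero]
  have e6 : polar Q v v = -(c / 2) := by
    rw [hv, polar_add_left, polar_add_right, polar_add_right, polar_smul_left, polar_smul_right, polar_smul_left,
      polar_smul_right, e3, e5, ← hc]
    simp only [smul_eq_mul]
    linear_combination hγ2
  refine ⟨v, ?_, ?_⟩
  · intro h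
    rw [polar_self', h, mul_zero] at e6
    have h7 : c / 2 = 0 := by
      rw [← neg_eq_zero, ← e6]
    rcases div_eq_zero_iff.1 h7 with h8 | h8
    · exact ha h8
    · exact h2 h8
  · rw [hmv, polar_add_right, e6, hv, polar_add_left, polar_smul_left, e4, smul_zero, add_zero]
    have h8 : polar Q a (nil m a) = c / 2 := by
      rw [eq_div_iff h2, ← e2]; ring
    rw [h8]
    ring

section CaseB

variable [FiniteDimensional F V]

/-- the pairing of the vectors `N ^ i a` -/
theorem pair (hm : m ∈ O Q) (i j : ℕ) (x y : V) :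
    polar Q ((nil m ^ i) x) ((nil m ^ j) y) =
      (-1) ^ i * polar Q x (((((m⁻¹ : V ≃ₗ[F] V) : V →ₗ[F] V) : Module.End F V) ^ i) ((nil m ^ (i + j)) y)) := by
  have hc : Commute (((m⁻¹ : V ≃ₗ[F] V) : V →ₗ[F] V) : Module.End F V) (nil m) := by
    apply LinearMap.ext
    intro x
    change m⁻¹ (m x - x) = m (m⁻¹ x) - m⁻¹ x
    have h1 : m⁻¹ (m x) = x := LinearEquiv.symm_apply_apply m x
    have h2 : m (m⁻¹ x) = x := LinearEquiv.apply_symm_apply m x
    rw [map_sub, h1, h2]
  have h1 : nil m⁻¹ ^ i = (-1 : F) ^ i • (((((m⁻¹ : V ≃ₗ[F] V) : V →ₗ[F] V) : Module.End F V) ^ i) * nil m ^ i) := by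
    rw [nil_inv, neg_pow, hc.mul_pow]
    rcases Nat.even_or_odd i with h | h
    · rw [h.neg_one_pow, h.neg_one_pow, one_mul, one_smul]
    · rw [h.neg_one_pow, h.neg_one_pow, neg_one_mul, neg_smul, one_smul]
  rw [adj_pow hm, h1, LinearMap.smul_apply, polar_smul_right, Module.End.mul_apply, ← Module.End.mul_apply (nil m ^ i),
    ← pow_add]
  rfl

theorem inv_fix {z : V} (h : nil m z = 0) (i : ℕ) :
    ((((m⁻¹ : V ≃ₗ[F] V) : V →ₗ[F] V) : Module.End F V) ^ i) z = z := by
  induction i with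
  | zero => rfl
  | succ i ih =>
    rw [pow_succ, Module.End.mul_apply]
    have h1 : (((m⁻¹ : V ≃ₗ[F] V) : V →ₗ[F] V) : Module.End F V) z = z := by
      change m⁻¹ z = z
      have h2 : m z = z := by rw [nil_apply, sub_eq_zero] at h; exact h
      conv_lhs => rw [← h2]
      exact LinearEquiv.symm_apply_apply m z
    rw [h1, ih]


theorem nil_five (h2 : (2 : F) ≠ 0) (hQ : Nondeg Q) (hm : m ∈ O Q) (h7 : finrank F V = 7) (h6 : nil m ^ 6 = 0) :
    nil m ^ 5 = 0 := by
  have h1 := rank_mul (nil m) (j := 5) h6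
  rw [h7] at h1
  refine alt_zero (b := fun x y => polar Q x y) (fun x x' y => polar_add_left _ x x' y)
    (fun x c y => by rw [polar_smul_right]; rfl) (fun y hy => hQ y fun x => by rw [polar_comm]; exact hy x) _ (by omega)
    (fun x => alt_top h2 hm (by decide) h6 x)

theorem nil_four (h2 : (2 : F) ≠ 0) (hQ : Nondeg Q) (hm : m ∈ O Q) (h7 : finrank F V = 7) (h3 : nil m ^ 3 ≠ 0) :
    nil m ^ 4 ≠ 0 := by
  intro h4
  apply h3
  have h1 := rank_mul (nil m) (j := 3) h4
  rw [h7] at h1
  refine alt_zero (b := fun x y => polar Q x y) (fun x x' y => polar_add_left _ x x' y)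
    (fun x c y => by rw [polar_smul_right]; rfl) (fun y hy => hQ y fun x => by rw [polar_comm]; exact hy x) _ (by omega)
    (fun x => alt_top h2 hm (by decide) h4 x)

/-- the pairing with the vectors `N ^ i a` -/
def pairing (Q : QuadraticForm F V) (m : V ≃ₗ[F] V) (a : V) : V →ₗ[F] (Fin 5 → F) :=
  LinearMap.pi fun i => polarBilin Q ((nil m ^ (i : ℕ)) a)

theorem pairing_apply (a z : V) (i : Fin 5) : pairing Q m a z i = polar Q ((nil m ^ (i : ℕ)) a) z := rfl

/-- the combinations of the vectors `N ^ i a` -/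
def comb (m : V ≃ₗ[F] V) (a : V) : (Fin 5 → F) →ₗ[F] V :=
  Fintype.linearCombination F fun i : Fin 5 => (nil m ^ (i : ℕ)) a

theorem comb_apply (a : V) (α : Fin 5 → F) : comb m a α = ∑ i : Fin 5, α i • (nil m ^ (i : ℕ)) a := rfl

theorem polar_pow_pow (hm : m ∈ O Q) (h5 : nil m ^ 5 = 0) (a : V) (i j : ℕ) :
    (5 ≤ i + j → polar Q ((nil m ^ i) a) ((nil m ^ j) a) = 0) ∧
      (i + j = 4 → polar Q ((nil m ^ i) a) ((nil m ^ j) a) = (-1) ^ i * polar Q a ((nil m ^ 4) a)) := by
  have hz : ∀ k, 5 ≤ k → nil m ^ k = 0 := fun k hk => by rw [← Nat.sub_add_cancel hk, pow_add, h5, mul_zero]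
  constructor
  · intro h
    rw [pair hm, hz _ h, LinearMap.zero_apply, map_zero, polar_zero_right, mul_zero]
  · intro h
    rw [pair hm, h, inv_fix]
    rw [← Module.End.mul_apply, ← pow_succ', h5]
    rfl

theorem pairing_comb_injective (hm : m ∈ O Q) (h5 : nil m ^ 5 = 0) {a : V} (ha : polar Q a ((nil m ^ 4) a) ≠ 0) :
    Function.Injective ((pairing Q m a) ∘ₗ (comb m a)) := by
  rw [injective_iff_map_eq_zero]
  intro α hα
  have hP := polar_pow_pow hm h5 a
  have key : ∀ j : Fin 5, ∑ i : Fin 5, α i * polar Q ((nil m ^ (j : ℕ)) a) ((nil m ^ (i : ℕ)) a) = 0 := by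
    intro j
    have h1 := congrFun hα j
    rw [LinearMap.comp_apply, pairing_apply, comb_apply] at h1
    have h2 : polar Q ((nil m ^ (j : ℕ)) a) (∑ i : Fin 5, α i • (nil m ^ (i : ℕ)) a) =
        ∑ i : Fin 5, α i * polar Q ((nil m ^ (j : ℕ)) a) ((nil m ^ (i : ℕ)) a) := by
      change polarBilin Q _ _ = _
      rw [map_sum]
      refine Finset.sum_congr rfl fun i _ => ?_
      rw [map_smul]
      rfl
    rw [← h2]
    exact h1
  have hne : ∀ i : ℕ, (-1 : F) ^ i * polar Q a ((nil m ^ 4) a) ≠ 0 := fun i =>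
    mul_ne_zero (pow_ne_zero _ (neg_ne_zero.2 one_ne_zero)) ha
  have k4 := key 4
  have k3 := key 3
  have k2 := key 2
  have k1 := key 1
  have k0 := key 0
  simp only [Fin.sum_univ_five, Fin.isValue, Fin.val_zero, Fin.val_one, Fin.val_two,
    show ((3 : Fin 5) : ℕ) = 3 from rfl, show ((4 : Fin 5) : ℕ) = 4 from rfl] at k4 k3 k2 k1 k0
  rw [(hP 4 0).2 rfl, (hP 4 1).1 (by norm_num), (hP 4 2).1 (by norm_num), (hP 4 3).1 (by norm_num),
    (hP 4 4).1 (by norm_num)] at k4
  simp only [mul_zero, add_zero] at k4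
  have a0 : α 0 = 0 := (mul_eq_zero.1 k4).resolve_right (hne 4)
  rw [(hP 3 1).2 rfl, (hP 3 2).1 (by norm_num), (hP 3 3).1 (by norm_num),
    (hP 3 4).1 (by norm_num), a0] at k3
  simp only [mul_zero, add_zero, zero_mul, zero_add] at k3
  have a1 : α 1 = 0 := (mul_eq_zero.1 k3).resolve_right (hne 3)
  rw [(hP 2 2).2 rfl, (hP 2 3).1 (by norm_num), (hP 2 4).1 (by norm_num), a0, a1] at k2
  simp only [mul_zero, add_zero, zero_mul, zero_add] at k2
  have a2 : α 2 = 0 := (mul_eq_zero.1 k2).resolve_right (hne 2)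
  rw [(hP 1 3).2 rfl, (hP 1 4).1 (by norm_num), a0, a1, a2] at k1
  simp only [mul_zero, add_zero, zero_mul, zero_add] at k1
  have a3 : α 3 = 0 := (mul_eq_zero.1 k1).resolve_right (hne 1)
  rw [(hP 0 4).2 rfl, a0, a1, a2, a3] at k0
  simp only [zero_mul, zero_add] at k0
  have a4 : α 4 = 0 := (mul_eq_zero.1 k0).resolve_right (hne 0)
  funext i
  fin_cases i
  · exact a0
  · exact a1
  · exact a2
  · exact a3
  · exact a4

theorem caseB (h2 : (2 : F) ≠ 0) (hQ : Nondeg Q) (hm : m ∈ O Q) (h7 : finrank F V = 7) (h6 : nil m ^ 6 = 0)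
    (hn3 : nil m ^ 3 ≠ 0) :
    ∃ x₁ x₂, Q x₁ ≠ 0 ∧ Q x₂ ≠ 0 ∧ polar Q x₁ x₂ = 0 ∧ m x₁ = x₁ ∧ m x₂ = x₂ := by
  have h5 := nil_five h2 hQ hm h7 h6
  have h4 := nil_four h2 hQ hm h7 hn3
  obtain ⟨a, ha⟩ := exists_top h2 hQ hm (k := 4) (by decide) h5 h4
  have hinj := pairing_comb_injective hm h5 ha
  have hsurj : Function.Surjective ((pairing Q m a) ∘ₗ (comb m a)) := LinearMap.injective_iff_surjective.1 hinj
  set K := LinearMap.ker (pairing Q m a) with hK
  have hmem : ∀ z, z ∈ K ↔ ∀ i : ℕ, polar Q ((nil m ^ i) a) z = 0 := by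
    intro z
    rw [hK, LinearMap.mem_ker]
    constructor
    · intro h i
      by_cases hi : i < 5
      · exact congrFun h ⟨i, hi⟩
      · have : nil m ^ i = 0 := by rw [← Nat.sub_add_cancel (not_lt.1 hi), pow_add, h5, mul_zero]
        rw [this, LinearMap.zero_apply, polar_zero_left]
    · intro h
      funext i
      exact h i
  have hKf : finrank F K = 2 := by
    have h1 := LinearMap.finrank_range_add_finrank_ker (pairing Q m a)
    have h3 : LinearMap.range (pairing Q m a) = ⊤ := by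
      rw [LinearMap.range_eq_top]
      intro β
      obtain ⟨α, hα⟩ := hsurj β
      exact ⟨comb m a α, hα⟩
    rw [h3, finrank_top, finrank_fintype_fun_eq_card, Fintype.card_fin, h7] at h1
    have h8 : 5 + finrank F K = 7 := h1
    omega
  -- decomposition
  have hdec : ∀ z, ∃ α : Fin 5 → F, z - comb m a α ∈ K := by
    intro z
    obtain ⟨α, hα⟩ := hsurj (pairing Q m a z)
    refine ⟨α, ?_⟩
    rw [hK, LinearMap.mem_ker, map_sub, sub_eq_zero]
    exact hα.symm
  have hKU : ∀ z ∈ K, ∀ α : Fin 5 → F, polar Q z (comb m a α) = 0 := by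
    intro z hz α
    rw [comb_apply]
    change polarBilin Q z _ = 0
    rw [map_sum]
    refine Finset.sum_eq_zero fun i _ => ?_
    rw [map_smul]
    change α i • polar Q z _ = 0
    rw [polar_comm, (hmem z).1 hz, smul_zero]
  have hnd : ∀ z ∈ K, (∀ x ∈ K, polar Q x z = 0) → z = 0 := by
    intro z hz h
    apply hQ
    intro y
    obtain ⟨α, hα⟩ := hdec y
    have h1 : y = (y - comb m a α) + comb m a α := by abel
    rw [h1, polar_add_right, hKU z hz, add_zero, polar_comm]
    exact h _ hα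
  -- invariance
  have hinv : ∀ z ∈ K, nil m z ∈ K := by
    intro z hz
    rw [hmem]
    have key : ∀ n i : ℕ, 5 ≤ n + i → polar Q (m⁻¹ ((nil m ^ i) a)) z = 0 := by
      intro n
      induction n with
      | zero =>
        intro i hi
        have : nil m ^ i = 0 := by rw [← Nat.sub_add_cancel (show 5 ≤ i by omega), pow_add, h5, mul_zero]
        rw [this, LinearMap.zero_apply, map_zero, polar_zero_left]
      | succ n ih =>
        intro i hi
        have h1 := ih (i + 1) (by omega)
        have h3 : m⁻¹ ((nil m ^ (i + 1)) a) = (nil m ^ i) a - m⁻¹ ((nil m ^ i) a) := by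
          rw [pow_succ', Module.End.mul_apply, nil_apply, map_sub]
          congr 1
          exact LinearEquiv.symm_apply_apply m _
        rw [h3, polar_sub_left, (hmem z).1 hz i, zero_sub, neg_eq_zero] at h1
        exact h1
    intro i
    have h1 := adj_one hm z ((nil m ^ i) a)
    rw [polar_comm, h1, nil_inv]
    change polar Q z (-(m⁻¹ (nil m ((nil m ^ i) a)))) = 0
    rw [polar_neg_right, ← Module.End.mul_apply, ← pow_succ', polar_comm, key 5 (i + 1) (by omega), neg_zero]
  let N' : Module.End F K := (nil m).restrict hinv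
  have hN' : ∀ z : K, ((N' z : K) : V) = nil m z := fun z => rfl
  have hN'p : ∀ (k : ℕ) (z : K), (((N' ^ k) z : K) : V) = (nil m ^ k) z := by
    intro k
    induction k with
    | zero => intro z; rfl
    | succ k ih =>
      intro z
      rw [pow_succ', Module.End.mul_apply, hN', ih, pow_succ', Module.End.mul_apply]
  have hN2 : N' ^ 2 = 0 := by
    apply nilp_bound N' hKf.le (j := 5)
    apply LinearMap.ext
    intro z
    apply Subtype.ext
    rw [hN'p, h5]
    rfl
  have hN2' : ∀ z ∈ K, nil m (nil m z) = 0 := by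
    intro z hz
    have h1 := hN'p 2 ⟨z, hz⟩
    rw [hN2] at h1
    have h3 : (nil m ^ 2) z = nil m (nil m z) := by rw [pow_two]; rfl
    rw [← h3]
    exact h1.symm
  have halt : ∀ z : K, polar Q (z : V) (nil m z) = 0 := by
    intro z
    have h1 := adj_one hm (z : V) (z : V)
    have h3 : nil m⁻¹ (z : V) = -(nil m z) := by
      rw [nil_inv]
      change -(m⁻¹ (nil m (z : V))) = _
      congr 1
      have h8 := hN2' z z.2
      have h9 := inv_fix h8 1
      rw [pow_one] at h9
      exact h9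
    rw [h3, polar_neg_right, polar_comm] at h1
    have h8 : 2 * polar Q (z : V) (nil m z) = 0 := by linear_combination h1
    exact (mul_eq_zero.1 h8).resolve_left h2
  have hN1 : N' = 0 := by
    refine alt_zero (b := fun x y : K => polar Q (x : V) (y : V)) (fun x x' y => polar_add_left _ _ _ _)
      (fun x c y => ?_) (fun y hy => ?_) N' ?_ (fun x => halt x)
    · change polar Q (x : V) (c • (y : V)) = _
      rw [polar_smul_right]
      rfl
    · apply Subtype.ext
      exact hnd y y.2 fun x hx => hy ⟨x, hx⟩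
    · have h1 := rank_mul N' (j := 1) hN2
      rw [hKf, pow_one] at h1
      omega
  have hfix : ∀ z ∈ K, m z = z := by
    intro z hz
    have h1 := hN' ⟨z, hz⟩
    rw [hN1] at h1
    have h3 : m z - z = 0 := h1.symm
    rwa [sub_eq_zero] at h3
  -- an orthogonal basis
  have : Invertible (2 : F) := invertibleOfNonzero h2
  let B : LinearMap.BilinForm F K := LinearMap.BilinForm.restrict (polarBilin Q) K
  have hB : ∀ x y : K, B x y = polar Q (x : V) (y : V) := fun x y => rfl
  have hBs : LinearMap.IsSymm B := ⟨fun x y => polar_comm Q _ _⟩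
  obtain ⟨v, hv⟩ := LinearMap.BilinForm.exists_orthogonal_basis (B := B) hBs
  have hBn : B.Nondegenerate := by
    constructor
    · intro x hx
      apply Subtype.ext
      exact hnd x x.2 fun y hy => by rw [polar_comm]; exact hx ⟨y, hy⟩
    · intro x hx
      apply Subtype.ext
      exact hnd x x.2 fun y hy => hx ⟨y, hy⟩
  have h0 : (0 : ℕ) < finrank F K := by rw [hKf]; norm_num
  have h1 : (1 : ℕ) < finrank F K := by rw [hKf]; norm_num
  have hne : ∀ i, Q (v i : V) ≠ 0 := by
    intro i hi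
    have h3 := LinearMap.BilinForm.iIsOrtho.not_isOrtho_basis_self_of_nondegenerate hv hBn i
    apply h3
    change B (v i) (v i) = 0
    rw [hB, polar_self', hi, mul_zero]
  refine ⟨v ⟨0, h0⟩, v ⟨1, h1⟩, hne _, hne _, ?_, hfix _ (v _).2, hfix _ (v _).2⟩
  exact hv (show (⟨0, h0⟩ : Fin _) ≠ ⟨1, h1⟩ by intro h; exact absurd (congrArg Fin.val h) (by norm_num))

end CaseB

end Cfsg.Agent.H198.Sax
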