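import Cfsg.Agent.H198.TriDia

/-!
# Special root elements and the root elements of the Okubo product (helper198): definitions

* `Sp u w` : `⟨u, w⟩` is a special line (all products of `u`, `w` vanish); `Rat v` : the coordinates of `v` are fixed by
  all field automorphisms; `sg h` : the Siegel element of a special pair, an element of `E Q`;
* `rtF v z = z + (z ⋄ v - v ⋄ z) + b(v, z) v`, `⋄ = dia (tauB F)`.
-/

set_option autoImplicit false

namespace Cfsg.Agent.H198.TriSpec

open Module QuadraticMap Cfsg.Agent.LieClassical.OrthCore Cfsg.Agent.LieClassical.OrthTrans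
  Cfsg.Agent.LieClassical.OrthSimple Cfsg.Agent.ClassicalGeometry.OrthAut1
  Cfsg.Agent.ClassicalGeometry.OrthSemi Cfsg.Agent.H198.Classes
  Cfsg.Agent.LieClassical.QuadForms Cfsg.Agent.H198.ClassesPlus
  Cfsg.Agent.ClassicalGeometry.TrialityOct Cfsg.Agent.ClassicalGeometry.Triality
  Cfsg.Agent.ClassicalGeometry.TrialitySpaces Cfsg.Agent.H198.TriBase Cfsg.Agent.H198.TriAut
  Cfsg.Agent.H206.Balance Cfsg.Agent.H198.BalVar Cfsg.Agent.H198.TriDia

universe u

variable {F : Type u} [Field F]

/-- All products of `u` and `w` vanish. -/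
structure Sp (u w : V8 F) : Prop where
  uw : omul u w = 0
  wu : omul w u = 0
  uu : omul u u = 0
  ww : omul w w = 0

/-- The coordinates are fixed by all field automorphisms. -/
def Rat (v : V8 F) : Prop := ∀ τ : F ≃+* F, (fG τ).1 v = v

/-- A vector with square zero has norm zero. -/
theorem norm_of_sq {u : V8 F} (h : omul u u = 0) : plusForm 4 F u = 0 := by
  have h1 := norm_omul u u
  rw [h, QuadraticMap.map_zero] at h1
  exact mul_self_eq_zero.1 h1.symm

theorem tr_of_sq {u : V8 F} (h : omul u u = 0) : u (.inl 0) + u (.inr 0) = 0 := by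
  have hn := norm_of_sq h
  have h2 : omul u u = (u (.inl 0) + u (.inr 0)) • u - plusForm 4 F u • one8 F := by
    rw [norm8]
    apply ext8 <;>
    simp only [omul_l0, omul_l1, omul_l2, omul_l3, omul_r0, omul_r1, omul_r2, omul_r3, Pi.sub_apply,
      Pi.smul_apply, smul_eq_mul, one8, Sum.elim_inl, Sum.elim_inr, Matrix.cons_val_zero, Matrix.cons_val_one,
      Matrix.cons_val] <;>
    ring
  rw [h, hn, zero_smul, sub_zero] at h2
  rcases smul_eq_zero.1 h2.symm with h3 | h3
  · exact h3
  · rw [h3]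
    exact add_zero 0

theorem polar_of_sp {u w : V8 F} (h : Sp u w) : polar (plusForm 4 F) u w = 0 := by
  have t1 := tr_of_sq h.uu
  have e1 := congrFun h.uw (.inl 0)
  have e2 := congrFun h.uw (.inr 0)
  rw [omul_l0, Pi.zero_apply] at e1
  rw [omul_r0, Pi.zero_apply] at e2
  rw [polar8]
  linear_combination -e1 - e2 + (w (.inl 0) + w (.inr 0)) * t1

/-- The Siegel element of a special pair. -/
noncomputable def sg {u w : V8 F} (h : Sp u w) : ↥(E (plusForm 4 F)) :=
  ⟨siegel (plusForm 4 F) u w (norm_of_sq h.uu) (polar_of_sp h), siegel_mem_E _ _⟩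

theorem sg_apply {u w : V8 F} (h : Sp u w) (z : V8 F) : (sg h : V8 F ≃ₗ[F] V8 F) z =
    z + (polar (plusForm 4 F) u z • w - polar (plusForm 4 F) w z • u) := by
  change siegel (plusForm 4 F) u w (norm_of_sq h.uu) (polar_of_sp h) z = _
  rw [siegel_apply, norm_of_sq h.ww, zero_mul, zero_smul, sub_zero, add_sub_assoc]

theorem Sp.map {u w : V8 F} (h : Sp u w) {τ : G8 F} (hτ : TriS τ τ τ) : Sp (τ.1 u) (τ.1 w) := by
  obtain ⟨σ, c, hs⟩ := τ.2
  exact ⟨by rw [← hτ, h.uw, hs.map_zero], by rw [← hτ, h.wu, hs.map_zero], by rw [← hτ, h.uu, hs.map_zero],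
    by rw [← hτ, h.ww, hs.map_zero]⟩

theorem Sp.smul {u w : V8 F} (h : Sp u w) (c d : F) : Sp (c • u) (d • w) :=
  ⟨by rw [smul_omul, omul_smul, h.uw, smul_zero, smul_zero], by rw [smul_omul, omul_smul, h.wu, smul_zero, smul_zero],
    by rw [smul_omul, omul_smul, h.uu, smul_zero, smul_zero], by rw [smul_omul, omul_smul, h.ww, smul_zero, smul_zero]⟩

/-- The root map of the Okubo product. -/
def rtF (v z : V8 F) : V8 F :=
  z + (dia (tauB F) z v - dia (tauB F) v z) + polar (plusForm 4 F) v z • v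

end Cfsg.Agent.H198.TriSpec
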